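import Cfsg.Agent.Lib.H1.Hall
import Cfsg.Agent.Lib.H1.Solv
import Cfsg.Agent.Lib.H30.Nil2

/-!
# Carter subgroups of finite solvable groups
-/

set_option autoImplicit false
open Subgroup Cfsg
open scoped Pointwise

namespace H1.Carter

universe u

/-- nilpotent self-normalizing subgroups -/
def IsCarter {G : Type*} [Group G] (C : Subgroup G) : Prop :=
  Group.IsNilpotent C ∧ normalizer (C : Set G) = C

variable {G : Type u} [Group G]

theorem IsCarter.smul {C : Subgroup G} (hC : IsCarter C) (g : G) : IsCarter (MulAut.conj g • C) := by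
  obtain ⟨h1, h2⟩ := hC
  constructor
  · have e := (Subgroup.equivSMul (MulAut.conj g) C)
    exact Group.nilpotent_of_mulEquiv e
  · apply le_antisymm _ le_normalizer
    intro x hx
    rw [H1.SZ.mem_conj_smul, ← h2]
    rw [mem_normalizer_iff] at hx ⊢
    intro y
    have h3 := hx (g * y * g⁻¹)
    rw [H1.SZ.mem_conj_smul, H1.SZ.mem_conj_smul] at h3
    have e1 : g⁻¹ * (g * y * g⁻¹) * g = y := by group
    have e2 : g⁻¹ * (x * (g * y * g⁻¹) * x⁻¹) * g = g⁻¹ * x * g * y * (g⁻¹ * x * g)⁻¹ := by group
    rwa [e1, e2] at h3

theorem IsCarter.subgroupOf {C K : Subgroup G} (hC : IsCarter C) (h : C ≤ K) :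
    IsCarter (C.subgroupOf K) := by
  obtain ⟨h1, h2⟩ := hC
  constructor
  · exact Group.nilpotent_of_mulEquiv (Subgroup.subgroupOfEquivOfLe h).symm
  · rw [← subgroupOf_normalizer_eq h, h2]

theorem IsCarter.eq_top {C : Subgroup G} (hC : IsCarter C) (hG : Group.IsNilpotent G) : C = ⊤ :=
  normalizerCondition_iff_only_full_group_self_normalizing.mp
    Group.normalizerCondition_of_isNilpotent C hC.2

/-- the conjugacy property for `G` -/
def ConjP (G : Type u) [Group G] : Prop :=
  ∀ C D : Subgroup G, IsCarter C → IsCarter D → ∃ g : G, MulAut.conj g • C = D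

theorem conj_in {L C D : Subgroup G} (hL : ConjP L) (hC : IsCarter C) (hD : IsCarter D) (hCL : C ≤ L)
    (hDL : D ≤ L) : ∃ g ∈ L, MulAut.conj g • C = D := by
  obtain ⟨g, hg⟩ := hL _ _ (hC.subgroupOf hCL) (hD.subgroupOf hDL)
  exact ⟨g, g.2, (H1.SZ.conj_smul_subgroupOf_eq_iff hCL hDL g).mp hg⟩

/-- images of Carter subgroups -/
theorem IsCarter.map_mk {C N : Subgroup G} [N.Normal] (hC : IsCarter C)
    (hconj : C ⊔ N ≠ ⊤ → ConjP ↥(C ⊔ N)) : IsCarter (C.map (QuotientGroup.mk' N)) := by
  have hnil : Group.IsNilpotent C := hC.1
  constructor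
  · exact Group.nilpotent_of_surjective (h := hnil) _
      (MonoidHom.subgroupMap_surjective (QuotientGroup.mk' N) C)
  · by_cases htop : C ⊔ N = ⊤
    · have h1 : C.map (QuotientGroup.mk' N) = ⊤ := by
        have h2 := congrArg (Subgroup.map (QuotientGroup.mk' N)) htop
        rw [Subgroup.map_sup, QuotientGroup.map_mk'_self, sup_bot_eq, ← MonoidHom.range_eq_map,
          QuotientGroup.range_mk'] at h2
        exact h2
      rw [h1]
      exact normalizer_eq_top _
    · have hL := hconj htop
      apply le_antisymm _ le_normalizer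
      intro x hx
      obtain ⟨g, rfl⟩ := QuotientGroup.mk'_surjective N x
      have h1 : MulAut.conj (QuotientGroup.mk' N g) • C.map (QuotientGroup.mk' N) =
          C.map (QuotientGroup.mk' N) := H1.SZ.conj_smul_eq_of_mem_normalizer hx
      have h2 : MulAut.conj g • C ≤ C ⊔ N := by
        rw [← H1.SZ.conj_smul_map] at h1
        have h3 := congrArg (Subgroup.comap (QuotientGroup.mk' N)) h1
        rw [comap_map_eq, comap_map_eq, QuotientGroup.ker_mk'] at h3
        exact le_sup_left.trans h3.le
      obtain ⟨y, hy, hyC⟩ := conj_in hL hC (hC.smul g) le_sup_left h2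
      have h4 : y⁻¹ * g ∈ C := by
        rw [← hC.2]
        apply H1.SZ.mem_normalizer_of_conj_smul_eq
        rw [H1.SZ.conj_mul_smul, ← hyC, ← H1.SZ.conj_mul_smul, inv_mul_cancel, map_one, one_smul]
      have h5 : g ∈ C ⊔ N := by
        have h6 := (C ⊔ N).mul_mem hy (mem_sup_left (T := N) h4)
        rwa [mul_inv_cancel_left] at h6
      have h7 : QuotientGroup.mk' N g ∈ (C ⊔ N).map (QuotientGroup.mk' N) := mem_map_of_mem _ h5
      rwa [Subgroup.map_sup, QuotientGroup.map_mk'_self, sup_bot_eq] at h7

/-- subgroups of the minimal normal subgroup `N` normalized by a supplement of `N` -/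
theorem eq_bot_or_eq {M N X : Subgroup G} (hNc : IsMulCommutative N)
    (hNmin : ∀ M : Subgroup G, M.Normal → M ≤ N → M = ⊥ ∨ M = N) (hMN : M ⊔ N = ⊤)
    (hX : X ≤ N) (hMX : ∀ a ∈ M, ∀ x ∈ X, a * x * a⁻¹ ∈ X) : X = ⊥ ∨ X = N := by
  apply hNmin _ _ hX
  rw [← normalizer_eq_top_iff, eq_top_iff, ← hMN, sup_le_iff]
  constructor
  · exact H1.Coprime.le_normalizer_of_conj_mem hMX
  · apply H1.Coprime.le_normalizer_of_conj_mem
    intro a ha k hk
    have h4 := congrArg Subtype.val (mul_comm' (⟨a, ha⟩ : N) ⟨k, hX hk⟩)
    have h5 : a * k = k * a := h4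
    rw [h5, mul_inv_cancel_right]
    exact hk

theorem inf_eq_bot {M N : Subgroup G} (hNn : N.Normal) (hNc : IsMulCommutative N)
    (hNmin : ∀ M : Subgroup G, M.Normal → M ≤ N → M = ⊥ ∨ M = N) (hMN : M ⊔ N = ⊤)
    (hNM : ¬ N ≤ M) : M ⊓ N = ⊥ := by
  rcases eq_bot_or_eq (X := M ⊓ N) hNc hNmin hMN inf_le_right (by
    intro a ha k hk
    obtain ⟨h2, h3⟩ := mem_inf.mp hk
    exact mem_inf.mpr ⟨M.mul_mem (M.mul_mem ha h2) (M.inv_mem ha), hNn.conj_mem k h3 a⟩) with h | h
  · exact h
  · exact absurd (inf_eq_right.mp h) hNM

theorem isComplement'_of {M N : Subgroup G} [N.Normal] (hMN : M ⊔ N = ⊤) (hinf : M ⊓ N = ⊥) :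
    M.IsComplement' N :=
  isComplement'_of_disjoint_and_mul_eq_univ (disjoint_iff.mpr hinf) (by
    have h2 : ((M ⊔ N : Subgroup G) : Set G) = (M : Set G) * (N : Set G) := mul_normal M N
    rw [← h2, hMN]; rfl)

theorem main (n : ℕ) : ∀ (G : Type u) [Group G] [Finite G], Nat.card G = n → Group.IsSolvable G →
    (∃ C : Subgroup G, IsCarter C) ∧ ConjP G := by
  induction n using Nat.strong_induction_on with
  | _ n ih =>
    intro G _ _ hn hsol
    by_cases hnil : Group.IsNilpotent G
    · refine ⟨⟨⊤, ⟨inferInstance, ?_⟩⟩, fun C D hC hD => ⟨1, ?_⟩⟩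
      · exact normalizer_eq_top _
      · rw [hC.eq_top hnil, hD.eq_top hnil, map_one, one_smul]
    have hnt : Nontrivial G := by
      rw [← not_subsingleton_iff_nontrivial]
      intro h
      exact hnil inferInstance
    -- minimal normal subgroup
    obtain ⟨N, ⟨hNn, hNb⟩, hNmin⟩ : ∃ N : Subgroup G, (N.Normal ∧ N ≠ ⊥) ∧
        ∀ M : Subgroup G, M.Normal → M ≤ N → M = ⊥ ∨ M = N := by
      obtain ⟨N, hN⟩ := (Set.toFinite {N : Subgroup G | N.Normal ∧ N ≠ ⊥}).exists_minimal
        ⟨⊤, inferInstance, top_ne_bot⟩
      refine ⟨N, hN.prop, fun M hM hMN => ?_⟩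
      by_cases h : M = ⊥
      · exact Or.inl h
      · exact Or.inr (le_antisymm hMN (hN.le_of_le ⟨hM, h⟩ hMN))
    obtain ⟨hNc, p, hp, hNp⟩ := H1.Solv.minimal_normal_elementary hsol N hNb hNmin
    have := Fact.mk hp
    have hcardN : 1 < Nat.card N := (one_lt_card_iff_ne_bot N).mpr hNb
    have hlt : Nat.card (G ⧸ N) < n := by
      rw [← hn, card_eq_card_quotient_mul_card_subgroup N]
      have : 0 < Nat.card (G ⧸ N) := Nat.card_pos
      nlinarith
    have hsub : ∀ K : Subgroup G, K ≠ ⊤ → (∃ C : Subgroup K, IsCarter C) ∧ ConjP K := by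
      intro K hK
      have h1 : Nat.card K < n := by
        rw [← hn]
        refine lt_of_le_of_ne (card_le_card_group K) ?_
        intro h
        exact hK ((card_eq_iff_eq_top K).mp h)
      exact ih _ h1 K rfl inferInstance
    obtain ⟨⟨Kq, hKq⟩, hQconj⟩ := ih _ hlt (G ⧸ N) rfl inferInstance
    have hmapC : ∀ C : Subgroup G, IsCarter C → IsCarter (C.map (QuotientGroup.mk' N)) :=
      fun C hC => hC.map_mk fun h => (hsub _ h).2
    constructor
    · -- existence
      set K := Kq.comap (QuotientGroup.mk' N) with hK
      have hNK : N ≤ K := by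
        intro x hx
        rw [hK, mem_comap, (QuotientGroup.eq_one_iff x).mpr hx |> fun h => (h : QuotientGroup.mk' N x = 1)]
        exact one_mem _
      by_cases hKtop : K = ⊤
      · -- G/N nilpotent
        have hKq' : Kq = ⊤ := by
          rw [eq_top_iff]
          intro x _
          obtain ⟨g, rfl⟩ := QuotientGroup.mk'_surjective N x
          have : g ∈ K := by rw [hKtop]; trivial
          exact this
        have hQnil : Group.IsNilpotent (G ⧸ N) := by
          have h1 := hKq.1
          rw [hKq'] at h1
          exact Group.nilpotent_of_mulEquiv Subgroup.topEquiv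
        -- a nonnormal maximal subgroup
        obtain ⟨M, hM, hMn⟩ : ∃ M : Subgroup G, IsCoatom M ∧ ¬ M.Normal := by
          by_contra hcon
          push Not at hcon
          exact hnil (((Group.isNilpotent_of_finite_tfae (G := G)).out 0 2 rfl rfl).mpr hcon)
        have hNM : ¬ N ≤ M := by
          intro h
          apply hMn
          have h1 : IsCoatom (M.map (QuotientGroup.mk' N)) := by
            constructor
            · intro h2
              apply hM.1
              have h3 := congrArg (Subgroup.comap (QuotientGroup.mk' N)) h2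
              rw [comap_map_eq, QuotientGroup.ker_mk', sup_eq_left.mpr h, comap_top] at h3
              exact h3
            · intro L hL
              have h2 : M < L.comap (QuotientGroup.mk' N) := by
                refine lt_of_le_of_ne (map_le_iff_le_comap.mp hL.le) ?_
                intro h3
                apply hL.ne
                rw [h3, map_comap_eq_self_of_surjective (QuotientGroup.mk'_surjective N)]
              have h3 := hM.2 _ h2
              rw [eq_top_iff]
              intro x _
              obtain ⟨g, rfl⟩ := QuotientGroup.mk'_surjective N x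
              have : g ∈ L.comap (QuotientGroup.mk' N) := by rw [h3]; trivial
              exact this
          have h2 : (M.map (QuotientGroup.mk' N)).Normal :=
            ((Group.isNilpotent_of_finite_tfae (G := G ⧸ N)).out 0 2 rfl rfl).mp hQnil _ h1
          have h3 : M = (M.map (QuotientGroup.mk' N)).comap (QuotientGroup.mk' N) := by
            rw [comap_map_eq, QuotientGroup.ker_mk', sup_eq_left.mpr h]
          rw [h3]
          infer_instance
        have hMN : M ⊔ N = ⊤ := by
          apply hM.2
          refine lt_of_le_of_ne le_sup_left ?_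
          intro h
          exact hNM (sup_eq_left.mp h.symm)
        have hinf : M ⊓ N = ⊥ := inf_eq_bot hNn hNc hNmin hMN hNM
        refine ⟨M, ?_, ?_⟩
        · have h1 : M.IsComplement' N := isComplement'_of hMN hinf
          have e := h1.QuotientMulEquiv
          exact Group.nilpotent_of_mulEquiv e
        · rcases eq_or_ne (normalizer (M : Set G)) M with h | h
          · exact h
          · exfalso
            apply hMn
            rw [← normalizer_eq_top_iff]
            exact hM.2 _ (lt_of_le_of_ne le_normalizer (Ne.symm h))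
      · -- K proper
        obtain ⟨⟨C', hC'⟩, -⟩ := hsub K hKtop
        set C := C'.map K.subtype with hCdef
        have hCK : C ≤ K := map_subtype_le C'
        have hC'e : C.subgroupOf K = C' := by
          rw [hCdef, subgroupOf, comap_map_eq_self_of_injective K.subtype_injective]
        have hCnil : Group.IsNilpotent C := by
          have := hC'.1
          exact Group.nilpotent_of_mulEquiv (C'.equivMapOfInjective K.subtype K.subtype_injective)
        -- C N = K
        have hCN : C ⊔ N = K := by
          have h1 : IsCarter (C'.map (QuotientGroup.mk' (N.subgroupOf K))) := by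
            apply hC'.map_mk
            intro h
            have h2 : Nat.card ↥(C' ⊔ N.subgroupOf K) < n := by
              refine lt_of_le_of_lt (card_le_card_group _) ?_
              rw [← hn]
              refine lt_of_le_of_ne (card_le_card_group K) ?_
              intro h
              exact hKtop ((card_eq_iff_eq_top K).mp h)
            exact (ih _ h2 _ rfl inferInstance).2
          have hQn : Group.IsNilpotent (K ⧸ N.subgroupOf K) := by
            have h2 : N.subgroupOf K = ((QuotientGroup.mk' N).comp K.subtype).ker := by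
              ext x
              rw [MonoidHom.mem_ker, mem_subgroupOf]
              exact (QuotientGroup.eq_one_iff (x : G)).symm
            have e1 : (K ⧸ N.subgroupOf K) ≃* ((QuotientGroup.mk' N).comp K.subtype).range :=
              (QuotientGroup.quotientMulEquivOfEq h2).trans
                (QuotientGroup.quotientKerEquivRange _)
            have h3 : ((QuotientGroup.mk' N).comp K.subtype).range = Kq := by
              rw [MonoidHom.range_comp, range_subtype, hK,
                map_comap_eq_self_of_surjective (QuotientGroup.mk'_surjective N)]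
            have h4 := hKq.1
            rw [← h3] at h4
            exact Group.nilpotent_of_mulEquiv e1.symm
          have h5 := h1.eq_top hQn
          have h6 := congrArg (Subgroup.comap (QuotientGroup.mk' (N.subgroupOf K))) h5
          rw [comap_map_eq, QuotientGroup.ker_mk', comap_top] at h6
          have h7 := congrArg (Subgroup.map K.subtype) h6
          rw [Subgroup.map_sup, subgroupOf_map_subtype, ← MonoidHom.range_eq_map, range_subtype,
            inf_eq_left.mpr hNK] at h7
          exact h7
        refine ⟨C, hCnil, ?_⟩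
        apply le_antisymm _ le_normalizer
        intro x hx
        have hxK : x ∈ K := by
          have h1 : QuotientGroup.mk' N x ∈ normalizer (Kq : Set (G ⧸ N)) := by
            have h2 : Kq = C.map (QuotientGroup.mk' N) := by
              have h3 : Kq = K.map (QuotientGroup.mk' N) := by
                rw [hK, map_comap_eq_self_of_surjective (QuotientGroup.mk'_surjective N)]
              rw [h3, ← hCN, Subgroup.map_sup, QuotientGroup.map_mk'_self, sup_bot_eq]
            rw [h2]
            apply H1.SZ.mem_normalizer_of_conj_smul_eq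
            rw [← H1.SZ.conj_smul_map, H1.SZ.conj_smul_eq_of_mem_normalizer hx]
          rw [hKq.2] at h1
          exact h1
        have h4 : (⟨x, hxK⟩ : K) ∈ normalizer (C' : Set K) := by
          rw [← hC'e, ← subgroupOf_normalizer_eq hCK]
          exact mem_subgroupOf.mpr hx
        rw [hC'.2, ← hC'e] at h4
        exact mem_subgroupOf.mp h4
    · -- conjugacy
      intro C₀ D hC₀ hD
      obtain ⟨gq, hgq⟩ := hQconj _ _ (hmapC C₀ hC₀) (hmapC D hD)
      obtain ⟨g₀, rfl⟩ := QuotientGroup.mk'_surjective N gq
      rw [← H1.SZ.conj_smul_map] at hgq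
      have hC := hC₀.smul g₀
      set C := MulAut.conj g₀ • C₀ with hCdef
      suffices h : ∃ g : G, MulAut.conj g • C = D by
        obtain ⟨g, hg⟩ := h
        exact ⟨g * g₀, by rw [H1.SZ.conj_mul_smul, ← hCdef, hg]⟩
      have hCD : C ⊔ N = D ⊔ N := by
        have h3 := congrArg (Subgroup.comap (QuotientGroup.mk' N)) hgq
        rwa [comap_map_eq, comap_map_eq, QuotientGroup.ker_mk'] at h3
      by_cases htop : D ⊔ N = ⊤
      · have hCtop : C ⊔ N = ⊤ := by rw [hCD, htop]
        have hnot : ∀ X : Subgroup G, IsCarter X → X ≠ ⊤ := by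
          rintro X hX rfl
          have := hX.1
          exact hnil (Group.nilpotent_of_mulEquiv Subgroup.topEquiv)
        have hNC : ¬ N ≤ C := by
          intro h
          rw [sup_eq_left.mpr h] at hCtop
          exact hnot C hC hCtop
        have hND : ¬ N ≤ D := by
          intro h
          rw [sup_eq_left.mpr h] at htop
          exact hnot D hD htop
        have hcC := isComplement'_of hCtop (inf_eq_bot hNn hNc hNmin hCtop hNC)
        have hcD := isComplement'_of htop (inf_eq_bot hNn hNc hNmin htop hND)
        have hNpg : IsPGroup p N := fun x => ⟨1, by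
          rw [pow_one]; exact Subtype.ext (hNp x x.2)⟩
        obtain ⟨k, hk⟩ := IsPGroup.iff_card.mp hNpg
        -- Hall p'-subgroups
        have key : ∀ X : Subgroup G, IsCarter X → X.IsComplement' N → ∃ Q : Subgroup G, Q ≤ X ∧
            X ≤ normalizer (Q : Set G) ∧ (Nat.card Q).Coprime p ∧
            ∃ a, Nat.card G = Nat.card Q * p ^ a := by
          intro X hX hXN
          have := hX.1
          refine ⟨(pPrimeCore p X).map X.subtype, map_subtype_le _, ?_, ?_, ?_⟩
          · apply H1.Coprime.le_normalizer_of_conj_mem
            rintro h hh k ⟨k', hk', rfl⟩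
            exact ⟨⟨h, hh⟩ * k' * ⟨h, hh⟩⁻¹, (inferInstance : (pPrimeCore p X).Normal).conj_mem k' hk' ⟨h, hh⟩, rfl⟩
          · rw [card_map_of_injective X.subtype_injective]
            exact H1.Cores.coprime_card_pPrimeCore p
          · obtain ⟨b, hb⟩ := H30.Nil2.index_pPrimeCore (G := X) p
            refine ⟨b + k, ?_⟩
            rw [card_map_of_injective X.subtype_injective, ← hXN.card_mul_card,
              ← (pPrimeCore p X).card_mul_index, hb, hk, pow_add, mul_assoc]
        obtain ⟨Q₁, hQ₁C, hQ₁n, hQ₁p, a₁, ha₁⟩ := key C hC hcC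
        obtain ⟨Q, hQD, hQn, hQp, a, ha⟩ := key D hD hcD
        have hcardQ : Nat.card Q₁ = Nat.card Q := by
          apply Nat.dvd_antisymm
          · have h1 : Nat.card Q₁ ∣ Nat.card Q * p ^ a := by rw [← ha, ha₁]; exact dvd_mul_right _ _
            exact (Nat.Coprime.pow_right a hQ₁p).dvd_of_dvd_mul_right h1
          · have h1 : Nat.card Q ∣ Nat.card Q₁ * p ^ a₁ := by rw [← ha₁, ha]; exact dvd_mul_right _ _
            exact (Nat.Coprime.pow_right a₁ hQp).dvd_of_dvd_mul_right h1
        obtain ⟨g, hg⟩ := H1.Hall.conj_of_card_eq hsol (Nat.card Q) (p ^ a) ha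
          (Nat.Coprime.pow_right a hQp) Q₁ Q hcardQ rfl
        have hgC : MulAut.conj g • C ≤ normalizer (Q : Set G) := by
          rw [← hg]
          apply H1.Coprime.le_normalizer_of_conj_mem
          intro x hx y hy
          rw [H1.SZ.mem_conj_smul] at hx hy ⊢
          have h1 := H1.Coprime.conj_mem_of_le_normalizer hQ₁n hx hy
          have h2 : g⁻¹ * (x * y * x⁻¹) * g = (g⁻¹ * x * g) * (g⁻¹ * y * g) * (g⁻¹ * x * g)⁻¹ := by
            group
          rw [h2]; exact h1
        rcases eq_bot_or_eq (X := normalizer (Q : Set G) ⊓ N) hNc hNmin htop inf_le_right (by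
          intro a ha k hk
          obtain ⟨h2, h3⟩ := mem_inf.mp hk
          exact mem_inf.mpr ⟨mul_mem (mul_mem (hQn ha) h2) (inv_mem (hQn ha)),
            hNn.conj_mem k h3 a⟩) with h | h
        · -- the normalizer of Q is D
          have hsup : normalizer (Q : Set G) ⊔ N = ⊤ := by
            rw [eq_top_iff, ← htop]
            exact sup_le_sup_right hQn N
          have hc := isComplement'_of hsup h
          have hcards : Nat.card (normalizer (Q : Set G)) = Nat.card D := by
            have h1 := hc.card_mul_card
            rw [← hcD.card_mul_card] at h1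
            exact Nat.eq_of_mul_eq_mul_right Nat.card_pos h1
          have hcards' : Nat.card C = Nat.card D := by
            have h1 := hcC.card_mul_card
            rw [← hcD.card_mul_card] at h1
            exact Nat.eq_of_mul_eq_mul_right Nat.card_pos h1
          have hD' : D = normalizer (Q : Set G) := eq_of_le_of_card_ge hQn (by rw [hcards])
          refine ⟨g, ?_⟩
          apply eq_of_le_of_card_ge
          · rw [hD']; exact hgC
          · rw [H1.SZ.card_conj_smul, hcards']
        · exfalso
          have hNQ : N ≤ normalizer (Q : Set G) := by rw [← h]; exact inf_le_left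
          have hQnorm : Q.Normal := by
            rw [← normalizer_eq_top_iff, eq_top_iff, ← htop]
            exact sup_le hQn hNQ
          have hGQ : Group.IsNilpotent (G ⧸ Q) := by
            have h1 : IsPGroup p (G ⧸ Q) := by
              apply IsPGroup.of_card (n := a)
              have h2 := card_eq_card_quotient_mul_card_subgroup Q
              rw [ha, mul_comm] at h2
              exact (Nat.eq_of_mul_eq_mul_right Nat.card_pos h2).symm
            exact h1.isNilpotent
          have h2 : normalizer (D.map (QuotientGroup.mk' Q) : Set (G ⧸ Q)) = D.map (QuotientGroup.mk' Q) := by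
            have h3 : (D.map (QuotientGroup.mk' Q)).comap (QuotientGroup.mk' Q) = D := by
              rw [comap_map_eq, QuotientGroup.ker_mk', sup_eq_left.mpr hQD]
            have h4 := comap_normalizer_eq_of_surjective (D.map (QuotientGroup.mk' Q))
              (QuotientGroup.mk'_surjective Q)
            rw [h3, hD.2] at h4
            rw [← map_comap_eq_self_of_surjective (QuotientGroup.mk'_surjective Q)
              (normalizer (D.map (QuotientGroup.mk' Q) : Set (G ⧸ Q))), h4]
          have h5 := normalizerCondition_iff_only_full_group_self_normalizing.mp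
            (Group.normalizerCondition_of_isNilpotent (G := G ⧸ Q)) _ h2
          have h6 := congrArg (Subgroup.comap (QuotientGroup.mk' Q)) h5
          rw [comap_map_eq, QuotientGroup.ker_mk', comap_top, sup_eq_left.mpr hQD] at h6
          exact hnot D hD h6
      · have hCle : C ≤ D ⊔ N := by rw [← hCD]; exact le_sup_left
        obtain ⟨g, -, hg⟩ := conj_in (hsub _ htop).2 hC hD hCle le_sup_left
        exact ⟨g, hg⟩

end H1.Carter
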