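import Mathlib
import Cfsg.Agent.Lib.H1.CritDim

set_option autoImplicit false

/-! The critical case, for a minimal invariant subspace and subgroups of an ambient group. -/

namespace H1.CritSub

open Module H30.Wts H30.FixRep H30.FrobDim H30.EndRep H30.EndRep2 H30.EndRep3 Subgroup H1.Crit

variable {F : Type*} [Field F] [IsAlgClosed F] {V : Type*} [AddCommGroup V] [Module F V] [FiniteDimensional F V]
  {Γ : Type*} [Group Γ] [Finite Γ]

/-- `M` is invariant under `Q` and `R` -/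
def Inv (ρ : Γ →* Module.End F V) (Q R : Subgroup Γ) (M : Submodule F V) : Prop :=
  (∀ g ∈ Q, ∀ v ∈ M, ρ g v ∈ M) ∧ (∀ g ∈ R, ∀ v ∈ M, ρ g v ∈ M)

/-- `M` is a minimal nonzero subspace invariant under `Q` and `R` -/
def Min (ρ : Γ →* Module.End F V) (Q R : Subgroup Γ) (M : Submodule F V) : Prop :=
  M ≠ ⊥ ∧ Inv ρ Q R M ∧ ∀ N : Submodule F V, N ≤ M → Inv ρ Q R N → N = ⊥ ∨ N = M

omit [IsAlgClosed F] [Finite Γ] in
theorem exists_min (ρ : Γ →* Module.End F V) (Q R : Subgroup Γ) (W : Submodule F V) (hW : W ≠ ⊥)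
    (hinv : Inv ρ Q R W) : ∃ M ≤ W, Min ρ Q R M := by
  obtain ⟨n, hn⟩ : ∃ n, finrank F W = n := ⟨_, rfl⟩
  induction n using Nat.strong_induction_on generalizing W with
  | _ n ih =>
    by_cases h : Min ρ Q R W
    · exact ⟨W, le_rfl, h⟩
    · have h1 : ∃ N : Submodule F V, N ≤ W ∧ Inv ρ Q R N ∧ N ≠ ⊥ ∧ N ≠ W := by
        by_contra hcon
        apply h
        refine ⟨hW, hinv, fun N hN hN' => ?_⟩
        by_contra hc
        push Not at hc
        exact hcon ⟨N, hN, hN', hc.1, hc.2⟩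
      obtain ⟨N, hN, hNi, hNb, hNW⟩ := h1
      have h2 : finrank F N < n := hn ▸ Submodule.finrank_lt_finrank_of_lt (lt_of_le_of_ne hN hNW)
      obtain ⟨M, hM, hM'⟩ := ih _ h2 N hNb hNi rfl
      exact ⟨M, hM.trans hN, hM'⟩

section aux

omit [IsAlgClosed F] [FiniteDimensional F V] in
/-- stabiliser of a subspace -/
def stab (ρ : Γ →* Module.End F V) (M : Submodule F V) : Subgroup Γ where
  carrier := {g | ∀ v ∈ M, ρ g v ∈ M}
  one_mem' := by intro v hv; rw [map_one]; exact hv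
  mul_mem' := by
    intro a b ha hb v hv
    rw [map_mul]
    exact ha _ (hb _ hv)
  inv_mem' := by
    intro a ha v hv
    have h1 : ∀ n : ℕ, ∀ v ∈ M, ρ (a ^ n) v ∈ M := by
      intro n
      induction n with
      | zero => intro v hv; rw [pow_zero, map_one]; exact hv
      | succ n ih =>
        intro v hv
        rw [pow_succ, map_mul]
        exact ih _ (ha v hv)
    have h2 : a⁻¹ = a ^ (orderOf a - 1) := by
      rw [inv_eq_iff_mul_eq_one, ← pow_succ', Nat.sub_add_cancel (orderOf_pos a), pow_orderOf_eq_one]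
    rw [h2]
    exact h1 _ v hv

variable (ρ : Γ →* Module.End F V) (Q C R : Subgroup Γ) (M : Submodule F V)

omit [IsAlgClosed F] [FiniteDimensional F V] in
theorem inv_sup (h : Inv ρ Q R M) : ∀ g : ↥(Q ⊔ R), ∀ v ∈ M, (ρ.comp (Q ⊔ R).subtype) g v ∈ M := by
  have h1 : Q ⊔ R ≤ stab ρ M := sup_le h.1 h.2
  intro g v hv
  exact h1 g.2 v hv

/-- restriction to `Q ⊔ R` and `M` -/
noncomputable def rs (h : Inv ρ Q R M) : ↥(Q ⊔ R) →* Module.End F M :=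
  sub (ρ.comp (Q ⊔ R).subtype) M (inv_sup ρ Q R M h)

omit [IsAlgClosed F] [FiniteDimensional F V] in
theorem rs_apply (h : Inv ρ Q R M) (g : ↥(Q ⊔ R)) (v : M) : ((rs ρ Q R M h g v : M) : V) = ρ g v := rfl

omit [IsAlgClosed F] [FiniteDimensional F V] in
theorem rs_irr (h : Min ρ Q R M) : ∀ W : Submodule F M, (∀ g, ∀ w ∈ W, rs ρ Q R M h.2.1 g w ∈ W) → W = ⊥ ∨ W = ⊤ := by
  intro W hW
  have h1 := h.2.2 (W.map M.subtype) (Submodule.map_subtype_le _ _) (by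
    refine ⟨?_, ?_⟩
    · rintro g hg _ ⟨w, hw, rfl⟩
      exact ⟨_, hW ⟨g, (le_sup_left : Q ≤ Q ⊔ R) hg⟩ w hw, rfl⟩
    · rintro g hg _ ⟨w, hw, rfl⟩
      exact ⟨_, hW ⟨g, (le_sup_right : R ≤ Q ⊔ R) hg⟩ w hw, rfl⟩)
  rcases h1 with h1 | h1
  · left
    exact Submodule.map_injective_of_injective (Submodule.injective_subtype M) (h1.trans (Submodule.map_bot _).symm)
  · right
    apply Submodule.map_injective_of_injective (Submodule.injective_subtype M)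
    rw [h1, Submodule.map_subtype_top]

omit [Finite Γ] in
theorem normal_subgroupOf_sup (hQ : Q ≤ normalizer (C : Set Γ)) (hR : R ≤ normalizer (C : Set Γ)) :
    (C.subgroupOf (Q ⊔ R)).Normal :=
  Subgroup.normal_subgroupOf_of_le_normalizer (sup_le hQ hR)

theorem rs_schur (h : Min ρ Q R M) :
    ∀ T : Module.End F M, (∀ g ∈ Q.subgroupOf (Q ⊔ R), rs ρ Q R M h.2.1 g * T = T * rs ρ Q R M h.2.1 g) →
      (∀ g ∈ R.subgroupOf (Q ⊔ R), rs ρ Q R M h.2.1 g * T = T * rs ρ Q R M h.2.1 g) →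
      ∃ c : F, T = c • (1 : Module.End F M) := by
  intro T h1 h2
  haveI : Nontrivial M := Submodule.nontrivial_iff_ne_bot.2 h.1
  apply schur (rs ρ Q R M h.2.1) (rs_irr ρ Q R M h) T
  -- the centraliser of `T`
  let S : Subgroup ↥(Q ⊔ R) :=
    { carrier := {g | rs ρ Q R M h.2.1 g * T = T * rs ρ Q R M h.2.1 g}
      one_mem' := by
        show _ * T = T * _
        rw [map_one, one_mul, mul_one]
      mul_mem' := by
        intro a b ha hb
        show _ * T = T * _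
        rw [map_mul, mul_assoc, show _ * T = T * _ from hb, ← mul_assoc, show _ * T = T * _ from ha, mul_assoc]
      inv_mem' := by
        intro a ha
        show rs ρ Q R M h.2.1 a⁻¹ * T = T * rs ρ Q R M h.2.1 a⁻¹
        have e1 := inv_mul_self (rs ρ Q R M h.2.1) a
        have e2 := mul_inv_self (rs ρ Q R M h.2.1) a
        calc rs ρ Q R M h.2.1 a⁻¹ * T = rs ρ Q R M h.2.1 a⁻¹ * (T * rs ρ Q R M h.2.1 a) * rs ρ Q R M h.2.1 a⁻¹ := by
              rw [mul_assoc, mul_assoc, e2, mul_one]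
          _ = rs ρ Q R M h.2.1 a⁻¹ * (rs ρ Q R M h.2.1 a * T) * rs ρ Q R M h.2.1 a⁻¹ := by
              rw [show rs ρ Q R M h.2.1 a * T = T * _ from ha]
          _ = _ := by rw [← mul_assoc, e1, one_mul] }
  have hS : Q ⊔ R ≤ S.map (Q ⊔ R).subtype := by
    refine sup_le ?_ ?_
    · intro g hg
      exact ⟨⟨g, (le_sup_left : Q ≤ Q ⊔ R) hg⟩, h1 _ (Subgroup.mem_subgroupOf.2 hg), rfl⟩
    · intro g hg
      exact ⟨⟨g, (le_sup_right : R ≤ Q ⊔ R) hg⟩, h2 _ (Subgroup.mem_subgroupOf.2 hg), rfl⟩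
  rintro ⟨g, hg⟩
  obtain ⟨g', hg', e⟩ := hS hg
  have : g' = ⟨g, hg⟩ := Subtype.ext e
  rw [← this]
  exact hg'

/-- the square of the dimension, class two -/
theorem rs_sq (h : Min ρ Q R M) (hCQ : C ≤ Q) (hQC : Q ≤ normalizer (C : Set Γ))
    (hcard : (Nat.card Q : F) ≠ 0)
    (hCsc : ∀ c ∈ C, ∃ a : F, ∀ v ∈ M, ρ c v = a • v)
    (hab : ∀ a ∈ Q, ∀ b ∈ Q, a * b * a⁻¹ * b⁻¹ ∈ C)
    (hnd : ∀ t ∈ Q, (∀ y ∈ Q, ∀ v ∈ M, ρ (y * t * y⁻¹ * t⁻¹) v = v) → t ∈ C) :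
    finrank F M * finrank F M = C.relIndex Q * finrank F (fix (cj (rs ρ Q R M h.2.1)) (Q.subgroupOf (Q ⊔ R))) := by
  haveI : (C.subgroupOf Q).Normal := Subgroup.normal_subgroupOf_of_le_normalizer hQC
  haveI : Nontrivial M := Submodule.nontrivial_iff_ne_bot.2 h.1
  let τ : Q →* Module.End F M := (rs ρ Q R M h.2.1).comp (Subgroup.inclusion (le_sup_left : Q ≤ Q ⊔ R))
  have hτ : ∀ (g : Q) (v : M), ((τ g v : M) : V) = ρ g v := fun g v => rfl
  have h1 := sq_eq τ hcard (C.subgroupOf Q) (by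
    rw [commutator_def, Subgroup.commutator_le]
    intro a _ b _
    rw [Subgroup.mem_subgroupOf]
    exact hab a a.2 b b.2) (by
    intro z hz
    obtain ⟨a, ha⟩ := hCsc z hz
    refine ⟨a, LinearMap.ext fun v => Subtype.ext ?_⟩
    rw [hτ, ha v v.2]
    rfl) (by
    intro t ht
    rw [Subgroup.mem_subgroupOf]
    refine hnd t t.2 fun y hy v hv => ?_
    have h2 := ht ⟨y, hy⟩
    have h3 := congrArg (fun f : Module.End F M => ((f ⟨v, hv⟩ : M) : V)) h2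
    exact h3)
  rw [h1]
  congr 1
  refine congrArg (fun S : Submodule F (Module.End F M) => finrank F S) ?_
  ext T
  rw [mem_fix_cj, mem_fix_cj]
  constructor
  · rintro hT ⟨g, hg⟩ hg'
    exact hT ⟨g, hg'⟩ (mem_top _)
  · rintro hT g _
    exact hT (Subgroup.inclusion (le_sup_left : Q ≤ Q ⊔ R) g) (Subgroup.mem_subgroupOf.2 g.2)

end aux

theorem card_subgroupOf_ne (Q K : Subgroup Γ) (h : Q ≤ K) (hcard : (Nat.card Q : F) ≠ 0) :
    (Nat.card (Q.subgroupOf K) : F) ≠ 0 := by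
  rw [Nat.card_congr (Subgroup.subgroupOfEquivOfLe h).toEquiv]
  exact hcard

/-- modular critical case for a minimal invariant subspace -/
theorem modular_sub (ρ : Γ →* Module.End F V) (p b : ℕ) [Fact p.Prime] [CharP F p] (x : Γ) (hx : orderOf x = p ^ b)
    (Q C : Subgroup Γ) (hCQ : C ≤ Q) (hxQ : Subgroup.zpowers x ≤ normalizer (Q : Set Γ)) (hQC : Q ≤ normalizer (C : Set Γ))
    (hxC : Subgroup.zpowers x ≤ normalizer (C : Set Γ)) (hQs : Group.IsSolvable Q) (hcard : (Nat.card Q : F) ≠ 0)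
    (hRQ : Subgroup.zpowers x ⊓ Q = ⊥) (M : Submodule F V) (hM : Min ρ Q (Subgroup.zpowers x) M)
    (hCsc : ∀ c ∈ C, ∃ a : F, ∀ v ∈ M, ρ c v = a • v)
    (hfp : ∀ r ∈ Subgroup.zpowers x, r ≠ 1 → ∀ g ∈ Q, r * g * r⁻¹ * g⁻¹ ∈ C → g ∈ C)
    (hab : ∀ a ∈ Q, ∀ b ∈ Q, a * b * a⁻¹ * b⁻¹ ∈ C)
    (hnd : ∀ t ∈ Q, (∀ y ∈ Q, ∀ v ∈ M, ρ (y * t * y⁻¹ * t⁻¹) v = v) → t ∈ C) (hCQ' : C ≠ Q)
    (hN : ∀ v ∈ M, ((ρ x - 1) ^ (p ^ b - 1)) v = 0) :
    finrank F M = p ^ b - 1 ∧ (p ^ b - 1) ^ 2 = C.relIndex Q ∧ ∃ v ∈ M, ((ρ x - 1) ^ (p ^ b - 2)) v ≠ 0 := by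
  set R := Subgroup.zpowers x with hR
  have hxR : x ∈ Q ⊔ R := (le_sup_right : R ≤ Q ⊔ R) (Subgroup.mem_zpowers x)
  haveI : (Q.subgroupOf (Q ⊔ R)).Normal := normal_subgroupOf_sup Q Q R Q.le_normalizer hxQ
  haveI : (C.subgroupOf (Q ⊔ R)).Normal := normal_subgroupOf_sup Q C R hQC hxC
  haveI : Nontrivial M := Submodule.nontrivial_iff_ne_bot.2 hM.1
  have hzx : Subgroup.zpowers (⟨x, hxR⟩ : ↥(Q ⊔ R)) = R.subgroupOf (Q ⊔ R) := by
    ext g
    rw [Subgroup.mem_subgroupOf]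
    show g ∈ _ ↔ (g : Γ) ∈ Subgroup.zpowers x
    rw [Subgroup.mem_zpowers_iff, Subgroup.mem_zpowers_iff]
    constructor
    · rintro ⟨k, hk⟩
      exact ⟨k, by rw [← hk]; rfl⟩
    · rintro ⟨k, hk⟩
      exact ⟨k, Subtype.ext hk⟩
  have hpow : ∀ (k : ℕ) (v : M), (((rs ρ Q R M hM.2.1 ⟨x, hxR⟩ - 1) ^ k) v : V) = ((ρ x - 1) ^ k) v := by
    intro k
    induction k with
    | zero => intro v; rfl
    | succ k ih =>
      intro v
      rw [pow_succ, pow_succ]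
      show (((rs ρ Q R M hM.2.1 ⟨x, hxR⟩ - 1) ^ k) ((rs ρ Q R M hM.2.1 ⟨x, hxR⟩ - 1) v) : V) = ((ρ x - 1) ^ k) ((ρ x - 1) v)
      rw [ih]
      rfl
  have h1 := modular (rs ρ Q R M hM.2.1) (Q.subgroupOf (Q ⊔ R)) (C.subgroupOf (Q ⊔ R)) p b ⟨x, hxR⟩
    (by rw [← hx, Subgroup.orderOf_mk]) (by
      haveI := hQs
      exact Group.isSolvable_of_isSolvable_injective (f := (Subgroup.subgroupOfEquivOfLe (le_sup_left : Q ≤ Q ⊔ R)).toMonoidHom)
        (Subgroup.subgroupOfEquivOfLe (le_sup_left : Q ≤ Q ⊔ R)).injective)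
    (card_subgroupOf_ne Q _ le_sup_left hcard)
    (by
      intro c hc
      obtain ⟨a, ha⟩ := hCsc c (Subgroup.mem_subgroupOf.1 hc)
      exact ⟨a, LinearMap.ext fun v => Subtype.ext (ha v v.2)⟩)
    (by
      rw [hzx, eq_bot_iff]
      rintro g ⟨hg1, hg2⟩
      have : (g : Γ) ∈ R ⊓ Q := ⟨Subgroup.mem_subgroupOf.1 hg1, hCQ (Subgroup.mem_subgroupOf.1 hg2)⟩
      rw [hRQ, Subgroup.mem_bot] at this
      exact Subgroup.mem_bot.2 (Subtype.ext this))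
    (by
      intro r hr hr1 g hg hg'
      rw [hzx] at hr
      exact Subgroup.mem_subgroupOf.2 (hfp r (Subgroup.mem_subgroupOf.1 hr) (fun h => hr1 (Subtype.ext h)) g
        (Subgroup.mem_subgroupOf.1 hg) (Subgroup.mem_subgroupOf.1 hg')))
    (by
      intro T hT1 hT2
      rw [hzx] at hT2
      exact rs_schur ρ Q R M hM T hT1 hT2)
    (by
      ext v
      rw [hpow]
      exact hN v v.2)
  have h2 := rs_sq ρ Q C R M hM hCQ hQC hcard hCsc hab hnd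
  obtain ⟨h3, s, hs1, hs2, hs3⟩ := h1
  have h4 : finrank F M ≠ 1 := by
    intro h
    rw [h, one_mul] at h2
    have h5 : C.relIndex Q = 1 := Nat.eq_one_of_mul_eq_one_right h2.symm
    exact hCQ' (le_antisymm hCQ (Subgroup.relIndex_eq_one.1 h5))
  obtain ⟨h5, h6⟩ := h3.resolve_left h4
  refine ⟨h5, ?_, ?_⟩
  · rw [h6, mul_one, h5] at h2
    rw [pow_two]; exact h2
  · have hs : s = p ^ b - 2 := by omega
    by_contra hcon
    push Not at hcon
    apply hs2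
    ext v
    rw [hpow, hs, hcon v v.2]
    rfl

/-- coprime critical case for a minimal invariant subspace -/
theorem coprime_sub (ρ : Γ →* Module.End F V) (R : Subgroup Γ)
    (Q C : Subgroup Γ) (hCQ : C ≤ Q) (hxQ : R ≤ normalizer (Q : Set Γ)) (hQC : Q ≤ normalizer (C : Set Γ))
    (hxC : R ≤ normalizer (C : Set Γ)) (hQs : Group.IsSolvable Q) (hcard : (Nat.card Q : F) ≠ 0)
    (hRQ : R ⊓ Q = ⊥) (M : Submodule F V) (hM : Min ρ Q R M)
    (hCsc : ∀ c ∈ C, ∃ a : F, ∀ v ∈ M, ρ c v = a • v)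
    (hfp : ∀ r ∈ R, r ≠ 1 → ∀ g ∈ Q, r * g * r⁻¹ * g⁻¹ ∈ C → g ∈ C)
    (hab : ∀ a ∈ Q, ∀ b ∈ Q, a * b * a⁻¹ * b⁻¹ ∈ C)
    (hnd : ∀ t ∈ Q, (∀ y ∈ Q, ∀ v ∈ M, ρ (y * t * y⁻¹ * t⁻¹) v = v) → t ∈ C) (hCQ' : C ≠ Q)
    (hRF : (Nat.card R : F) ≠ 0) (hRab : ∀ a ∈ R, ∀ b ∈ R, a * b = b * a)
    (hN : ∀ v ∈ M, (∀ r ∈ R, ρ r v = v) → v = 0) :
    finrank F M = Nat.card R - 1 ∧ (Nat.card R - 1) ^ 2 = C.relIndex Q := by
  haveI : (Q.subgroupOf (Q ⊔ R)).Normal := normal_subgroupOf_sup Q Q R Q.le_normalizer hxQ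
  haveI : (C.subgroupOf (Q ⊔ R)).Normal := normal_subgroupOf_sup Q C R hQC hxC
  haveI : Nontrivial M := Submodule.nontrivial_iff_ne_bot.2 hM.1
  have hcR : Nat.card (R.subgroupOf (Q ⊔ R)) = Nat.card R :=
    Nat.card_congr (Subgroup.subgroupOfEquivOfLe (le_sup_right : R ≤ Q ⊔ R)).toEquiv
  have h1 := coprime (rs ρ Q R M hM.2.1) (Q.subgroupOf (Q ⊔ R)) (C.subgroupOf (Q ⊔ R)) (R.subgroupOf (Q ⊔ R))
    (by
      haveI := hQs
      exact Group.isSolvable_of_isSolvable_injective (f := (Subgroup.subgroupOfEquivOfLe (le_sup_left : Q ≤ Q ⊔ R)).toMonoidHom)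
        (Subgroup.subgroupOfEquivOfLe (le_sup_left : Q ≤ Q ⊔ R)).injective)
    (card_subgroupOf_ne Q _ le_sup_left hcard)
    (by
      intro c hc
      obtain ⟨a, ha⟩ := hCsc c (Subgroup.mem_subgroupOf.1 hc)
      exact ⟨a, LinearMap.ext fun v => Subtype.ext (ha v v.2)⟩)
    (by
      rw [eq_bot_iff]
      rintro g ⟨hg1, hg2⟩
      have : (g : Γ) ∈ R ⊓ Q := ⟨Subgroup.mem_subgroupOf.1 hg1, hCQ (Subgroup.mem_subgroupOf.1 hg2)⟩
      rw [hRQ, Subgroup.mem_bot] at this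
      exact Subgroup.mem_bot.2 (Subtype.ext this))
    (by
      intro r hr hr1 g hg hg'
      exact Subgroup.mem_subgroupOf.2 (hfp r (Subgroup.mem_subgroupOf.1 hr) (fun h => hr1 (Subtype.ext h)) g
        (Subgroup.mem_subgroupOf.1 hg) (Subgroup.mem_subgroupOf.1 hg')))
    (rs_schur ρ Q R M hM)
    (by rw [hcR]; exact hRF)
    (by
      intro a ha b hb
      exact Subtype.ext (hRab a (Subgroup.mem_subgroupOf.1 ha) b (Subgroup.mem_subgroupOf.1 hb)))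
    (by
      rw [eq_bot_iff]
      intro v hv
      rw [Submodule.mem_bot]
      apply Subtype.ext
      refine hN v v.2 fun r hr => ?_
      exact congrArg Subtype.val (hv ⟨r, (le_sup_right : R ≤ Q ⊔ R) hr⟩ (Subgroup.mem_subgroupOf.2 hr)))
  have h2 := rs_sq ρ Q C R M hM hCQ hQC hcard hCsc hab hnd
  have h4 : finrank F M ≠ 1 := by
    intro h
    rw [h, one_mul] at h2
    have h5 : C.relIndex Q = 1 := Nat.eq_one_of_mul_eq_one_right h2.symm
    exact hCQ' (le_antisymm hCQ (Subgroup.relIndex_eq_one.1 h5))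
  obtain ⟨h5, h6⟩ := h1.resolve_left h4
  rw [hcR] at h5
  refine ⟨h5, ?_⟩
  rw [h6, mul_one, h5] at h2
  rw [pow_two]; exact h2

end H1.CritSub
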