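import Mathlib.LinearAlgebra.Span.Basic
import Mathlib.Algebra.Module.ZMod
import Mathlib.Tactic.Module
import Mathlib.Tactic.LinearCombination

set_option autoImplicit false

/-!
Linear algebra over the field of three elements: a four-group permuted by a cubic block element.
-/

namespace H1.FG19

variable {E : Type*} [AddCommGroup E] [Module (ZMod 3) E]

theorem three (v : E) : v + v + v = 0 := by
  have h : ((3 : ZMod 3)) • v = 0 := by
    rw [show (3 : ZMod 3) = 0 from rfl, zero_smul]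
  have h2 : ((3 : ZMod 3)) • v = v + v + v := by module
  rw [← h2, h]

theorem zcases (c : ZMod 3) : c = 0 ∨ c = 1 ∨ c = -1 := by
  revert c; decide

theorem eq_zero_of_neg {v : E} (h : v = -v) : v = 0 := by
  have h3 := three v
  have : v + v = 0 := by nth_rw 2 [h]; abel
  rw [this, zero_add] at h3
  exact h3

/-- the data of the block of `β`: two vectors `w1`, `w2` with `β v - v = x w1 + y w2`,
`(β - 1)^2 v = x w2`. -/
structure Blk (β : E →ₗ[ZMod 3] E) (w1 w2 : E) : Prop where
  ne : w2 ≠ 0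
  ex : ∀ v, ∃ x y : ZMod 3, β v - v = x • w1 + y • w2 ∧ β (β v - v) - (β v - v) = x • w2

structure Q4 (T U β : E →ₗ[ZMod 3] E) : Prop where
  tt : ∀ v, T (T v) = v
  uu : ∀ v, U (U v) = v
  tu : ∀ v, U (T v) = T (U v)
  bt : ∀ v, β (T v) = U (β v)
  bu : ∀ v, β (U v) = T (U (β v))
  bb : ∀ v, β (β (β v)) = v
  ne : ∃ v, T v ≠ v

structure Q4R (T U β : E →ₗ[ZMod 3] E) (e : E) : Prop where
  ne : e ≠ 0
  te : T e = e
  ue : U e = -e
  fix : ∀ v, T v = v → U v = v → β v = v
  l1 : ∀ v, T v = v → U v = -v → ∃ c : ZMod 3, v = c • e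
  l2 : ∀ v, T v = -v → U v = v → ∃ c : ZMod 3, v = c • β e
  l3 : ∀ v, T v = -v → U v = -v → ∃ c : ZMod 3, v = c • β (β e)
  t2 : T (β e) = -β e
  u2 : U (β e) = β e
  t3 : T (β (β e)) = -β (β e)
  u3 : U (β (β e)) = -β (β e)

theorem dec {T U β : E →ₗ[ZMod 3] E} (h : Q4 T U β) (v : E) :
    ∃ a0 a1 a2 a3 : E, T a0 = a0 ∧ U a0 = a0 ∧ T a1 = a1 ∧ U a1 = -a1 ∧ T a2 = -a2 ∧
      U a2 = a2 ∧ T a3 = -a3 ∧ U a3 = -a3 ∧ v = a0 + a1 + a2 + a3 := by
  obtain ⟨tt, uu, tu, bt, bu, bb, vv, hvv⟩ := h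
  refine ⟨v + T v + U v + T (U v), v + T v - U v - T (U v), v - T v + U v - T (U v),
    v - T v - U v + T (U v), ?_, ?_, ?_, ?_, ?_, ?_, ?_, ?_, ?_⟩
  all_goals try simp only [map_add, map_sub, tt, uu, tu]
  all_goals try abel
  have h := three v
  linear_combination (norm := module) -h

theorem Q4R.dec {T U β : E →ₗ[ZMod 3] E} {e : E} (h : Q4 T U β) (hr : Q4R T U β e) (v : E) :
    ∃ (a : E) (x y z : ZMod 3), T a = a ∧ U a = a ∧
      v = a + x • e + y • β e + z • β (β e) := by
  obtain ⟨a0, a1, a2, a3, h0, h0', h1, h1', h2, h2', h3, h3', hs⟩ := FG19.dec h v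
  obtain ⟨x, hx⟩ := hr.l1 a1 h1 h1'
  obtain ⟨y, hy⟩ := hr.l2 a2 h2 h2'
  obtain ⟨z, hz⟩ := hr.l3 a3 h3 h3'
  exact ⟨a0, x, y, z, h0, h0', by rw [← hx, ← hy, ← hz, ← hs]⟩

theorem proj {T U : E →ₗ[ZMod 3] E} (a0 a1 a2 a3 : E) (h0 : T a0 = a0) (h0' : U a0 = a0)
    (h1 : T a1 = a1) (h1' : U a1 = -a1) (h2 : T a2 = -a2)
    (h2' : U a2 = a2) (h3 : T a3 = -a3) (h3' : U a3 = -a3) (hs : a0 + a1 + a2 + a3 = 0) :
    a0 = 0 ∧ a1 = 0 ∧ a2 = 0 ∧ a3 = 0 := by
  have e1 := congrArg T hs
  have e2 := congrArg U hs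
  have e3 := congrArg U e1
  simp only [map_add, map_neg, map_zero, h0, h0', h1, h1', h2, h2', h3, h3', neg_neg] at e1 e2 e3
  refine ⟨?_, ?_, ?_, ?_⟩
  · have : a0 + a0 + a0 + a0 = 0 := by
      linear_combination (norm := module) hs + e1 + e2 + e3
    have h3 := three a0
    rw [h3, zero_add] at this
    exact this
  · have : a1 + a1 + a1 + a1 = 0 := by
      linear_combination (norm := module) hs + e1 - e2 - e3
    have h3 := three a1
    rw [h3, zero_add] at this
    exact this
  · have : a2 + a2 + a2 + a2 = 0 := by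
      linear_combination (norm := module) hs - e1 + e2 - e3
    have h3 := three a2
    rw [h3, zero_add] at this
    exact this
  · have : a3 + a3 + a3 + a3 = 0 := by
      linear_combination (norm := module) hs - e1 - e2 + e3
    have h3 := three a3
    rw [h3, zero_add] at this
    exact this

theorem q4 {T U β : E →ₗ[ZMod 3] E} (h : Q4 T U β) {w1 w2 : E} (hB : Blk β w1 w2) :
    ∃ e, Q4R T U β e := by
  obtain ⟨tt, uu, tu, bt, bu, bb, vv, hvv⟩ := h
  obtain ⟨hw, hex⟩ := hB
  have tb : ∀ v, T (β v) = β (T (U v)) := by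
    intro v
    have h1 := bt (U v)
    have h2 := bu v
    rw [h1, h2, tu, uu]
  have tb2 : ∀ v, T (β (β v)) = β (β (U v)) := by
    intro v
    rw [tb, ← bt, tb, tu, tt]
  have ub2 : ∀ v, U (β (β v)) = β (β (T (U v))) := by
    intro v
    rw [← bt, tb]
  -- membership in the three lines
  have inE2 : ∀ v, T v = v → U v = -v → T (β v) = -β v ∧ U (β v) = β v := by
    intro v h1 h2
    refine ⟨?_, ?_⟩
    · rw [tb, h2, map_neg, h1, map_neg]
    · rw [← bt, h1]
  have inE3 : ∀ v, T v = v → U v = -v → T (β (β v)) = -β (β v) ∧ U (β (β v)) = -β (β v) := by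
    intro v h1 h2
    refine ⟨?_, ?_⟩
    · rw [tb2, h2, map_neg, map_neg]
    · rw [ub2, h2, map_neg, h1, map_neg, map_neg]
  have E2E1 : ∀ v, T v = -v → U v = v → T (β (β v)) = β (β v) ∧ U (β (β v)) = -β (β v) := by
    intro v h1 h2
    refine ⟨?_, ?_⟩
    · rw [tb2, h2]
    · rw [ub2, h2, h1, map_neg, map_neg]
  have E3E1 : ∀ v, T v = -v → U v = -v → T (β v) = β v ∧ U (β v) = -β v := by
    intro v h1 h2
    refine ⟨?_, ?_⟩
    · rw [tb, h2, map_neg, h1, neg_neg]
    · rw [← bt, h1, map_neg]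
  have proj : ∀ a0 a1 a2 a3 : E, T a0 = a0 → U a0 = a0 → T a1 = a1 → U a1 = -a1 → T a2 = -a2 →
      U a2 = a2 → T a3 = -a3 → U a3 = -a3 → a0 + a1 + a2 + a3 = 0 →
      a0 = 0 ∧ a1 = 0 ∧ a2 = 0 ∧ a3 = 0 := by
    intro a0 a1 a2 a3 h0 h0' h1 h1' h2 h2' h3 h3' hs
    have e1 := congrArg T hs
    have e2 := congrArg U hs
    have e3 := congrArg U e1
    simp only [map_add, map_neg, map_zero, h0, h0', h1, h1', h2, h2', h3, h3', neg_neg] at e1 e2 e3
    refine ⟨?_, ?_, ?_, ?_⟩
    · have : a0 + a0 + a0 + a0 = 0 := by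
        linear_combination (norm := module) hs + e1 + e2 + e3
      have h3 := three a0
      rw [h3, zero_add] at this
      exact this
    · have : a1 + a1 + a1 + a1 = 0 := by
        linear_combination (norm := module) hs + e1 - e2 - e3
      have h3 := three a1
      rw [h3, zero_add] at this
      exact this
    · have : a2 + a2 + a2 + a2 = 0 := by
        linear_combination (norm := module) hs - e1 + e2 - e3
      have h3 := three a2
      rw [h3, zero_add] at this
      exact this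
    · have : a3 + a3 + a3 + a3 = 0 := by
        linear_combination (norm := module) hs - e1 - e2 + e3
      have h3 := three a3
      rw [h3, zero_add] at this
      exact this
  have neg2 : ∀ v : E, -(v + v) = v := by
    intro v
    have h := three v
    linear_combination (norm := module) -h
  have dec : ∀ v, ∃ a0 a1 a2 a3 : E, T a0 = a0 ∧ U a0 = a0 ∧ T a1 = a1 ∧ U a1 = -a1 ∧ T a2 = -a2 ∧
      U a2 = a2 ∧ T a3 = -a3 ∧ U a3 = -a3 ∧ v = a0 + a1 + a2 + a3 := by
    intro v
    refine ⟨v + T v + U v + T (U v), v + T v - U v - T (U v), v - T v + U v - T (U v),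
      v - T v - U v + T (U v), ?_, ?_, ?_, ?_, ?_, ?_, ?_, ?_, ?_⟩
    all_goals try simp only [map_add, map_sub, tt, uu, tu]
    all_goals try abel
    have h := three v
    linear_combination (norm := module) -h
  -- every vector of the line `E1` with `n² v = 0` vanishes
  have sq0 : ∀ v, β (β v - v) - (β v - v) = β (β v) + β v + v := by
    intro v
    rw [map_sub]
    have h := three (β v)
    linear_combination (norm := module) -h
  have key : ∀ v, T v = v → U v = -v → β (β v) + β v + v = 0 → v = 0 := by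
    intro v h1 h2 h3
    have a2 := inE2 v h1 h2
    have a3 := inE3 v h1 h2
    have := proj 0 v (β v) (β (β v)) (map_zero T) (map_zero U) h1 h2 a2.1 a2.2 a3.1 a3.2
      (by linear_combination (norm := module) h3)
    exact this.2.1
  -- existence of `e`
  have hne : ∃ e, e ≠ 0 ∧ T e = e ∧ U e = -e := by
    by_contra hcon
    push Not at hcon
    have hz : ∀ v, T v = v → U v = -v → v = 0 := by
      intro v h1 h2
      by_contra h3
      exact hcon v h3 h1 h2
    apply hvv
    obtain ⟨a0, a1, a2, a3, h0, h0', h1, h1', h2, h2', h3, h3', hs⟩ := dec vv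
    have z1 := hz a1 h1 h1'
    have z2 := hz _ (E2E1 a2 h2 h2').1 (E2E1 a2 h2 h2').2
    have z3 := hz _ (E3E1 a3 h3 h3').1 (E3E1 a3 h3 h3').2
    have z2' : a2 = 0 := by rw [← bb a2, z2, map_zero]
    have z3' : a3 = 0 := by rw [← bb a3, z3, map_zero, map_zero]
    rw [hs, z1, z2', z3']
    simp only [add_zero, h0]
  obtain ⟨e, he, hte, hue⟩ := hne
  obtain ⟨xe, ye, hxe1, hxe2⟩ := hex e
  rw [sq0] at hxe2
  have hxe0 : xe ≠ 0 := by
    rintro rfl
    rw [zero_smul] at hxe2
    exact he (key e hte hue hxe2)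
  have hxx : xe * xe = 1 := by
    rcases zcases xe with h | h | h
    · exact absurd h hxe0
    · rw [h]; rfl
    · rw [h]; rfl
  have hw2 : w2 = xe • (β (β e) + β e + e) := by
    rw [hxe2, smul_smul, hxx, one_smul]
  have l1 : ∀ v, T v = v → U v = -v → ∃ c : ZMod 3, v = c • e := by
    intro v h1 h2
    obtain ⟨x, y, hx1, hx2⟩ := hex v
    rw [sq0] at hx2
    refine ⟨x * xe, ?_⟩
    have : v - (x * xe) • e = 0 := by
      apply key
      · rw [map_sub, map_smul, h1, hte]
      · rw [map_sub, map_smul, h2, hue, smul_neg]; abel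
      · simp only [map_sub, map_smul]
        rw [hw2] at hx2
        linear_combination (norm := module) hx2
    exact sub_eq_zero.mp this
  have e2 := inE2 e hte hue
  have e3 := inE3 e hte hue
  refine ⟨e, he, hte, hue, ?_, l1, ?_, ?_, e2.1, e2.2, e3.1, e3.2⟩
  · intro v h1 h2
    obtain ⟨x, y, hx1, hx2⟩ := hex v
    have hb0 : T (β v) = β v ∧ U (β v) = β v := by
      refine ⟨?_, ?_⟩
      · rw [tb, h2, h1]
      · rw [← bt, h1]
    have hb00 : T (β (β v)) = β (β v) ∧ U (β (β v)) = β (β v) := by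
      refine ⟨?_, ?_⟩
      · rw [tb2, h2]
      · rw [ub2, h2, h1]
    rw [sq0] at hx2
    -- x = 0
    have hx0 : x = 0 := by
      have := proj (β (β v) + β v + v) (-(x * xe) • e) (-(x * xe) • β e)
        (-(x * xe) • β (β e))
        (by rw [map_add, map_add, hb0.1, hb00.1, h1]) (by rw [map_add, map_add, hb0.2, hb00.2, h2])
        (by rw [map_smul, hte]) (by rw [map_smul, hue, smul_neg])
        (by rw [map_smul, e2.1, smul_neg]) (by rw [map_smul, e2.2])
        (by rw [map_smul, e3.1, smul_neg]) (by rw [map_smul, e3.2, smul_neg])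
        (by rw [hw2] at hx2; linear_combination (norm := module) hx2)
      have h0 := this.1
      rw [hx2] at h0
      rcases zcases x with h | h | h
      · exact h
      · rw [h, one_smul] at h0
        exact absurd h0 hw
      · rw [h, neg_smul, one_smul, neg_eq_zero] at h0
        exact absurd h0 hw
    rw [hx0, zero_smul, zero_add] at hx1
    have := proj (β v - v) (-(y * xe) • e) (-(y * xe) • β e)
        (-(y * xe) • β (β e))
        (by rw [map_sub, hb0.1, h1]) (by rw [map_sub, hb0.2, h2])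
        (by rw [map_smul, hte]) (by rw [map_smul, hue, smul_neg])
        (by rw [map_smul, e2.1, smul_neg]) (by rw [map_smul, e2.2])
        (by rw [map_smul, e3.1, smul_neg]) (by rw [map_smul, e3.2, smul_neg])
        (by rw [hw2] at hx1; linear_combination (norm := module) hx1)
    exact sub_eq_zero.mp this.1
  · intro v h1 h2
    obtain ⟨c, hc⟩ := l1 _ (E2E1 v h1 h2).1 (E2E1 v h1 h2).2
    refine ⟨c, ?_⟩
    rw [← map_smul, ← hc, bb]
  · intro v h1 h2
    obtain ⟨c, hc⟩ := l1 _ (E3E1 v h1 h2).1 (E3E1 v h1 h2).2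
    refine ⟨c, ?_⟩
    rw [← map_smul, ← map_smul, ← hc, bb]

end H1.FG19
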