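import Cfsg.Agent.Lib.H1.FGb
import Cfsg.Agent.Lib.H1.Solv
import Cfsg.Agent.Lib.H1.Cores
import Cfsg.Agent.Lib.H1.Coprime2
import Cfsg.Agent.Lib.H13.CoprimeHyper

set_option autoImplicit false

/-!
A four-group permuted by a cubic block element of order three: irreducibility and centralizer
lemmas.
-/

namespace H1.FG19

open Subgroup

variable {S : Type*} [Group S] {E : Type*} [AddCommGroup E] [Module (ZMod 3) E]
  {ρ : Representation (ZMod 3) S E}

/-- two commuting involutions permuted by an element of order three. -/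
structure Pair (b t u : S) : Prop where
  b3 : b * b * b = 1
  tt : t * t = 1
  uu : u * u = 1
  tu : u * t = t * u
  ne : t ≠ 1
  bt : b * t = u * b
  bu : b * u = t * u * b

theorem Pair.rot {b t u : S} (h : Pair b t u) : Pair b u (t * u) where
  b3 := h.b3
  tt := h.uu
  uu := by
    calc t * u * (t * u) = t * (u * t) * u := by group
      _ = (t * t) * (u * u) := by rw [h.tu]; group
      _ = 1 := by rw [h.tt, h.uu, one_mul]
  tu := by
    rw [← mul_assoc, ← h.tu]
  ne := by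
    intro hu
    have h1 := h.bt
    rw [hu, one_mul] at h1
    exact h.ne (mul_eq_left.mp h1)
  bt := h.bu
  bu := by
    rw [← mul_assoc, h.bt, mul_assoc u b u, h.bu]; group

theorem Pair.q4 (hρ : Function.Injective ρ) {b t u : S} (h : Pair b t u) :
    Q4 (ρ t) (ρ u) (ρ b) where
  tt v := by rw [← rmul, h.tt, rone]
  uu v := by rw [← rmul, h.uu, rone]
  tu v := by rw [← rmul, ← rmul, h.tu]
  bt v := by rw [← rmul, ← rmul, h.bt]
  bu v := by rw [← rmul, ← rmul, ← rmul, h.bu, mul_assoc]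
  bb v := by rw [← rmul, ← rmul, h.b3, rone]
  ne := by
    by_contra hcon
    push Not at hcon
    apply h.ne
    apply hρ
    ext v
    rw [hcon, rone]

theorem minus_mem {T U β : E →ₗ[ZMod 3] E} {e : E} (h : Q4 T U β) (hr : Q4R T U β e) {v : E}
    (hv : T v = -v) : v ∈ Submodule.span (ZMod 3) {β e, β (β e)} := by
  obtain ⟨a, x, y, z, ha, ha', hs⟩ := hr.dec h v
  have h1 := hv
  rw [hs] at h1
  simp only [map_add, map_smul, ha, hr.te, hr.t2, hr.t3] at h1
  have h2 : (a + x • e) = 0 := by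
    have h3 : (a + x • e) + (a + x • e) = 0 := by linear_combination (norm := module) h1
    have h4 := three (a + x • e)
    rw [h3, zero_add] at h4
    exact h4
  rw [hs, h2, zero_add]
  exact Submodule.add_mem _ (Submodule.smul_mem _ _ (Submodule.subset_span (by simp)))
    (Submodule.smul_mem _ _ (Submodule.subset_span (by simp)))

theorem plus_sub {T U β : E →ₗ[ZMod 3] E} {e : E} (h : Q4 T U β) (hr : Q4R T U β e) {v : E}
    (hv : T v = v) : ∃ c : ZMod 3, U v = v + c • e := by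
  obtain ⟨c, hc⟩ := hr.l1 (U v - v) (by rw [map_sub, ← h.tu, hv]) (by rw [map_sub, h.uu]; abel)
  exact ⟨c, by rw [← hc]; abel⟩

theorem finrank_span_pair_le [Finite E] (x y : E) :
    Module.finrank (ZMod 3) (Submodule.span (ZMod 3) {x, y}) ≤ 2 := by
  classical
  have h := finrank_span_finset_le_card (R := ZMod 3) ({x, y} : Finset E)
  have h2 : (({x, y} : Finset E) : Set E) = {x, y} := by simp
  unfold Set.finrank at h
  rw [h2] at h
  exact h.trans Finset.card_le_two

theorem core [Finite E] (hρ : Function.Injective ρ) {b t u : S} (hP : Pair b t u)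
    {w1 w2 : E} (hB : Blk (ρ b) w1 w2) {r : ℕ} (hr : r.Prime) (h5 : 5 ≤ r)
    (Y : Subgroup S) (hY : IsPGroup r Y) (huY : ∀ y ∈ Y, u * y * u⁻¹ ∈ Y) {y : S} (hy : y ∈ Y)
    (hty : t * y = y * t) : u * y = y * u := by
  have h4 := hP.q4 hρ
  obtain ⟨e, he⟩ := FG19.q4 h4 hB
  obtain ⟨k, hk⟩ := hY ⟨y, hy⟩
  have hk' : y ^ r ^ k = 1 := congrArg Subtype.val hk
  -- y is trivial on D2
  have hty' : ∀ v, ρ t (ρ y v) = ρ y (ρ t v) := fun v => by rw [← rmul, ← rmul, hty]
  have hspan : ∀ v ∈ Submodule.span (ZMod 3) {ρ b e, ρ b (ρ b e)}, ρ t v = -v := by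
    intro v hv
    rw [Submodule.mem_span_pair] at hv
    obtain ⟨c, d, rfl⟩ := hv
    rw [map_add, map_smul, map_smul, he.t2, he.t3, smul_neg, smul_neg]; abel
  have htriv : ∀ v, ρ t v = -v → ρ y v = v := by
    intro v hv
    refine triv_two hr h5 hk' (Submodule.span (ZMod 3) {ρ b e, ρ b (ρ b e)}) ?_
      (finrank_span_pair_le _ _) v (minus_mem h4 he hv)
    intro w hw
    apply minus_mem h4 he
    rw [hty', hspan w hw, map_neg]
  have htriv' : ∀ v, ρ t v = -v → ρ y⁻¹ v = v := by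
    intro v hv
    have := htriv v hv
    nth_rw 1 [← this]
    rw [rinv]
  have hz : y * u * y⁻¹ * u⁻¹ = 1 := by
    have hzY : y * u * y⁻¹ * u⁻¹ ∈ Y := by
      have : y * u * y⁻¹ * u⁻¹ = y * (u * y⁻¹ * u⁻¹) := by group
      rw [this]
      exact Y.mul_mem hy (huY _ (Y.inv_mem hy))
    obtain ⟨l, hl⟩ := hY ⟨_, hzY⟩
    have hl' : (y * u * y⁻¹ * u⁻¹) ^ r ^ l = 1 := congrArg Subtype.val hl
    refine triv_two' hρ hr h5 hl' (Submodule.span (ZMod 3) {e, ρ y e}) ?_ (finrank_span_pair_le _ _)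
    have hu' : u⁻¹ = u := inv_eq_of_mul_eq_one_left hP.uu
    have hcomp : ∀ v, ρ (y * u * y⁻¹ * u⁻¹) v = ρ y (ρ u (ρ y⁻¹ (ρ u v))) := by
      intro v
      rw [rmul, rmul, rmul, hu']
    have hm : ∀ v, ρ t v = -v → ρ (y * u * y⁻¹ * u⁻¹) v = v := by
      intro v hv
      have h1 : ρ t (ρ u v) = -ρ u v := by rw [← h4.tu, hv, map_neg]
      rw [hcomp, htriv' _ h1, h4.uu, htriv v hv]
    have hp : ∀ v, ρ t v = v → ρ (y * u * y⁻¹ * u⁻¹) v - v ∈
        Submodule.span (ZMod 3) {e, ρ y e} := by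
      intro v hv
      obtain ⟨c1, hc1⟩ := plus_sub h4 he hv
      have h1 : ρ t (ρ y⁻¹ (ρ u v)) = ρ y⁻¹ (ρ u v) := by
        have h2 : ρ t (ρ u v) = ρ u v := by rw [← h4.tu, hv]
        have h3 : t * y⁻¹ = y⁻¹ * t := by
          have := hty
          calc t * y⁻¹ = y⁻¹ * (y * t) * y⁻¹ := by group
            _ = y⁻¹ * t := by rw [← hty]; group
        rw [← rmul, h3, rmul, h2]
      obtain ⟨c2, hc2⟩ := plus_sub h4 he h1
      rw [hcomp, hc2, map_add, map_smul, rinv', hc1, Submodule.mem_span_pair]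
      exact ⟨c1, c2, by abel⟩
    rw [mem_KD]
    intro v
    have hv : v = -(v + ρ t v) + -(v - ρ t v) := by
      have := three v
      linear_combination (norm := module) this
    have e1 : ρ t (-(v + ρ t v)) = -(v + ρ t v) := by
      rw [map_neg, map_add, h4.tt]; abel
    have e2 : ρ t (-(v - ρ t v)) = -(-(v - ρ t v)) := by
      rw [map_neg, map_sub, h4.tt]; abel
    have key : ∀ p q : E, ρ (y * u * y⁻¹ * u⁻¹) q = q →
        ρ (y * u * y⁻¹ * u⁻¹) (p + q) - (p + q) = ρ (y * u * y⁻¹ * u⁻¹) p - p := by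
      intro p q hq
      rw [map_add, hq]; abel
    have this := key (-(v + ρ t v)) _ (hm _ e2)
    rw [← hv] at this
    rw [this]
    exact hp _ e1
  have : y * u = u * y := by
    have h1 : y * u = (y * u * y⁻¹ * u⁻¹) * u * y := by group
    rw [h1, hz, one_mul]
  exact this.symm

/-- the subspace fixed by `R`. -/
def F1 (ρ : Representation (ZMod 3) S E) (R : Subgroup S) : Submodule (ZMod 3) E where
  carrier := {v | ∀ r ∈ R, ρ r v = v}
  zero_mem' := fun r _ => map_zero _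
  add_mem' := by intro x y hx hy r hr; rw [map_add, hx r hr, hy r hr]
  smul_mem' := by intro c x hx r hr; rw [map_smul, hx r hr]

/-- the commutator subspace of `R`. -/
def F0 (ρ : Representation (ZMod 3) S E) (R : Subgroup S) : Submodule (ZMod 3) E :=
  Submodule.span (ZMod 3) {w | ∃ r ∈ R, ∃ v, w = ρ r v - v}

theorem mem_F1 {R : Subgroup S} {v : E} : v ∈ F1 ρ R ↔ ∀ r ∈ R, ρ r v = v := Iff.rfl

theorem sub_mem_F0 {R : Subgroup S} {r : S} (hr : r ∈ R) (v : E) : ρ r v - v ∈ F0 ρ R :=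
  Submodule.subset_span ⟨r, hr, v, rfl⟩

theorem F0_le {R : Subgroup S} {D : Submodule (ZMod 3) E} (h : R ≤ KD ρ D) : F0 ρ R ≤ D := by
  rw [F0, Submodule.span_le]
  rintro _ ⟨r, hr, v, rfl⟩
  exact h hr v

theorem F0_inv {R : Subgroup S} {g : S} (hg : ∀ x ∈ R, g * x * g⁻¹ ∈ R) {v : E}
    (hv : v ∈ F0 ρ R) : ρ g v ∈ F0 ρ R := by
  refine Submodule.span_induction ?_ ?_ ?_ ?_ hv
  · rintro _ ⟨r, hr, w, rfl⟩
    have : ρ g (ρ r w - w) = ρ (g * r * g⁻¹) (ρ g w) - ρ g w := by
      rw [map_sub, rmul, rmul, rinv]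
    rw [this]
    exact sub_mem_F0 (hg r hr) _
  · rw [map_zero]; exact Submodule.zero_mem _
  · intro x y _ _ hx hy; rw [map_add]; exact Submodule.add_mem _ hx hy
  · intro c x _ hx; rw [map_smul]; exact Submodule.smul_mem _ _ hx

theorem card_cases [Finite S] {R : Subgroup S} (h3 : (Nat.card R).Coprime 3) :
    (Nat.card R : ZMod 3) * (Nat.card R : ZMod 3) = 1 := by
  have h : (Nat.card R : ZMod 3) ≠ 0 := by
    rw [Ne, ZMod.natCast_eq_zero_iff]
    intro h
    have := Nat.Coprime.eq_one_of_dvd h3.symm h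
    omega
  rcases zcases (Nat.card R : ZMod 3) with h' | h' | h'
  · exact absurd h' h
  · rw [h']; rfl
  · rw [h']; rfl

theorem F0_F1 [Finite S] (ρ : Representation (ZMod 3) S E) {R : Subgroup S}
    (h3 : (Nat.card R).Coprime 3) :
    F0 ρ R ⊓ F1 ρ R = ⊥ ∧ F0 ρ R ⊔ F1 ρ R = ⊤ := by
  classical
  have := Fintype.ofFinite R
  let π : E →ₗ[ZMod 3] E := ∑ r : R, ρ (r : S)
  have hπ : ∀ v, π v = ∑ r : R, ρ (r : S) v := fun v => by
    simp only [π, LinearMap.sum_apply]
  have hc := card_cases h3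
  have h1 : ∀ v, (Nat.card R : ZMod 3) • v - π v ∈ F0 ρ R := by
    intro v
    have : (Nat.card R : ZMod 3) • v - π v = ∑ r : R, -(ρ (r : S) v - v) := by
      rw [hπ, Finset.sum_neg_distrib, Finset.sum_sub_distrib, Finset.sum_const, Finset.card_univ,
        ← Nat.card_eq_fintype_card, ← Nat.cast_smul_eq_nsmul (ZMod 3)]
      abel
    rw [this]
    apply Submodule.sum_mem
    intro r _
    exact Submodule.neg_mem _ (sub_mem_F0 r.2 v)
  have h2 : ∀ v, π v ∈ F1 ρ R := by
    intro v s hs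
    rw [hπ, map_sum]
    refine Fintype.sum_equiv (Equiv.mulLeft (⟨s, hs⟩ : R)) _ _ ?_
    intro r
    rw [Equiv.coe_mulLeft, Subgroup.coe_mul, rmul]
  have h3' : ∀ v ∈ F1 ρ R, π v = (Nat.card R : ZMod 3) • v := by
    intro v hv
    rw [hπ, Finset.sum_congr rfl (fun (r : R) _ => hv r r.2), Finset.sum_const, Finset.card_univ,
        ← Nat.card_eq_fintype_card, ← Nat.cast_smul_eq_nsmul (ZMod 3)]
  have h4 : ∀ v ∈ F0 ρ R, π v = 0 := by
    intro v hv
    refine Submodule.span_induction ?_ ?_ ?_ ?_ hv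
    · rintro _ ⟨r, hr, w, rfl⟩
      rw [map_sub, sub_eq_zero, hπ, hπ]
      refine Fintype.sum_equiv (Equiv.mulRight (⟨r, hr⟩ : R)) _ _ ?_
      intro x
      rw [Equiv.coe_mulRight, Subgroup.coe_mul, rmul]
    · rw [map_zero]
    · intro x y _ _ hx hy; rw [map_add, hx, hy, add_zero]
    · intro c x _ hx; rw [map_smul, hx, smul_zero]
  constructor
  · rw [eq_bot_iff]
    intro v hv
    rw [Submodule.mem_inf] at hv
    have e1 := h3' v hv.2
    rw [h4 v hv.1] at e1
    rw [Submodule.mem_bot]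
    have : v = (Nat.card R : ZMod 3) • ((Nat.card R : ZMod 3) • v) := by
      rw [smul_smul, hc, one_smul]
    rw [this, ← e1, smul_zero]
  · rw [eq_top_iff]
    intro v _
    have : v = (Nat.card R : ZMod 3) • ((Nat.card R : ZMod 3) • v - π v) +
        (Nat.card R : ZMod 3) • π v := by
      rw [smul_sub, smul_smul, hc, one_smul]; abel
    rw [this]
    exact Submodule.add_mem_sup (Submodule.smul_mem _ _ (h1 v)) (Submodule.smul_mem _ _ (h2 v))

/-- if `b` acts trivially on `N2 / N1`, so does `⁅R, ⟨b⟩⁆`. -/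
theorem com {R : Subgroup S} {b : S} (hb3 : b * b * b = 1) (hR : R ≤ ⁅R, zpowers b⁆)
    {N1 N2 : Submodule (ZMod 3) E} (h12 : N1 ≤ N2) (hN1 : ∀ r ∈ R, ∀ v ∈ N1, ρ r v ∈ N1)
    (hN2 : ∀ r ∈ R, ∀ v ∈ N2, ρ r v ∈ N2) (hb : ∀ v ∈ N2, ρ b v - v ∈ N1) :
    ∀ r ∈ R, ∀ v ∈ N2, ρ r v - v ∈ N1 := by
  let K : Subgroup S :=
    { carrier := {g | (∀ v ∈ N2, ρ g v - v ∈ N1) ∧ ∀ v ∈ N2, ρ g⁻¹ v - v ∈ N1}
      one_mem' := by
        refine ⟨fun v _ => ?_, fun v _ => ?_⟩
        · rw [rone, sub_self]; exact N1.zero_mem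
        · rw [inv_one, rone, sub_self]; exact N1.zero_mem
      mul_mem' := by
        have aux : ∀ g h : S, (∀ v ∈ N2, ρ g v - v ∈ N1) → (∀ v ∈ N2, ρ h v - v ∈ N1) →
            ∀ v ∈ N2, ρ (g * h) v - v ∈ N1 := by
          intro g h hg hh v hv
          have h1 := hh v hv
          have h2 : ρ h v ∈ N2 := by
            have : ρ h v = (ρ h v - v) + v := by abel
            rw [this]
            exact N2.add_mem (h12 h1) hv
          have : ρ (g * h) v - v = (ρ g (ρ h v) - ρ h v) + (ρ h v - v) := by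
            rw [rmul]; abel
          rw [this]
          exact N1.add_mem (hg _ h2) h1
        intro g h hg hh
        refine ⟨aux g h hg.1 hh.1, ?_⟩
        rw [mul_inv_rev]
        exact aux _ _ hh.2 hg.2
      inv_mem' := by
        intro g hg
        exact ⟨hg.2, by rw [inv_inv]; exact hg.1⟩ }
  have hbinv : b⁻¹ = b * b := inv_eq_of_mul_eq_one_left hb3
  have hbK : b ∈ K := by
    refine ⟨hb, ?_⟩
    intro v hv
    have h1 := hb v hv
    have h2 : ρ b v ∈ N2 := by
      have : ρ b v = (ρ b v - v) + v := by abel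
      rw [this]
      exact N2.add_mem (h12 h1) hv
    have : ρ b⁻¹ v - v = (ρ b (ρ b v) - ρ b v) + (ρ b v - v) := by
      rw [hbinv, rmul]; abel
    rw [this]
    exact N1.add_mem (hb _ h2) h1
  have hRK : ⁅R, zpowers b⁆ ≤ K := by
    rw [Subgroup.commutator_le]
    intro r hr g hg
    have hgK : g ∈ K := (zpowers_le.mpr hbK) hg
    have hconj : r * g * r⁻¹ ∈ K := by
      have aux : ∀ g : S, (∀ v ∈ N2, ρ g v - v ∈ N1) → ∀ v ∈ N2, ρ (r * g * r⁻¹) v - v ∈ N1 := by
        intro g hg v hv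
        have : ρ (r * g * r⁻¹) v - v = ρ r (ρ g (ρ r⁻¹ v) - ρ r⁻¹ v) := by
          rw [map_sub, rinv', rmul, rmul]
        rw [this]
        exact hN1 r hr _ (hg _ (hN2 _ (R.inv_mem hr) _ hv))
      refine ⟨aux g hgK.1, ?_⟩
      have : (r * g * r⁻¹)⁻¹ = r * g⁻¹ * r⁻¹ := by group
      rw [this]
      exact aux _ hgK.2
    rw [commutatorElement_def]
    exact K.mul_mem hconj (K.inv_mem hgK)
  intro r hr
  exact (hRK (hR hr)).1

end H1.FG19
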