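import Cfsg.Agent.Lib.H1.FGc

set_option autoImplicit false

/-!
Irreducibility and faithfulness on the commutator subspace; the odd cores vanish.
-/

namespace H1.FG19

open Subgroup

variable {S : Type*} [Group S] {E : Type*} [AddCommGroup E] [Module (ZMod 3) E]
  {ρ : Representation (ZMod 3) S E}

theorem e_mem_F0 {b t u : S} {e : E} (he : Q4R (ρ t) (ρ u) (ρ b) e) {R : Subgroup S}
    (hu : u ∈ R) : e ∈ F0 ρ R := by
  have h := sub_mem_F0 (ρ := ρ) hu e
  rw [he.ue] at h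
  have h3 := three e
  have : e = -e - e := by linear_combination (norm := module) h3
  rw [this]
  exact h

theorem e_mem_of {b t u : S} (hρ : Function.Injective ρ) (hP : Pair b t u)
    {e : E} (he : Q4R (ρ t) (ρ u) (ρ b) e)
    {N : Submodule (ZMod 3) E} (hNt : ∀ v ∈ N, ρ t v ∈ N) (hNu : ∀ v ∈ N, ρ u v ∈ N)
    (hNb : ∀ v ∈ N, ρ b v ∈ N) : e ∈ N ∨ ∀ v ∈ N, ρ b v = v := by
  by_cases hex : e ∈ N
  · exact Or.inl hex
  right
  intro v hv
  have h4 := hP.q4 hρ
  obtain ⟨a, x, y, z, ha, ha', hs⟩ := he.dec h4 v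
  have hsc : ∀ (c : ZMod 3) (w : E), c • w ∈ N → w ∉ N → c = 0 := by
    intro c w h1 h2
    rcases zcases c with h | h | h
    · exact h
    · rw [h, one_smul] at h1; exact absurd h1 h2
    · rw [h, neg_smul, one_smul, Submodule.neg_mem_iff] at h1; exact absurd h1 h2
  have n2 : ρ b e ∉ N := by
    intro h
    apply hex
    have := hNb _ (hNb _ h)
    rwa [h4.bb] at this
  have n3 : ρ b (ρ b e) ∉ N := by
    intro h
    apply hex
    have := hNb _ h
    rwa [h4.bb] at this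
  have ht := hNt v hv
  have hu := hNu v hv
  have htu := hNt _ hu
  have et : ρ t v = a + x • e - y • ρ b e - z • ρ b (ρ b e) := by
    rw [hs]; simp only [map_add, map_smul, ha, he.te, he.t2, he.t3, smul_neg]; abel
  have eu : ρ u v = a - x • e + y • ρ b e - z • ρ b (ρ b e) := by
    rw [hs]; simp only [map_add, map_smul, ha', he.ue, he.u2, he.u3, smul_neg]; abel
  have etu : ρ t (ρ u v) = a - x • e - y • ρ b e + z • ρ b (ρ b e) := by
    rw [eu]; simp only [map_add, map_sub, map_smul, ha, he.te, he.t2, he.t3, smul_neg]; abel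
  have hx : x • e ∈ N := by
    have : x • e = v + ρ t v - ρ u v - ρ t (ρ u v) := by
      rw [etu, eu, et]
      nth_rw 1 [hs]
      have := three (x • e)
      linear_combination (norm := module) -this
    rw [this]
    exact N.sub_mem (N.sub_mem (N.add_mem hv ht) hu) htu
  have hy : y • ρ b e ∈ N := by
    have : y • ρ b e = v - ρ t v + ρ u v - ρ t (ρ u v) := by
      rw [etu, eu, et]
      nth_rw 1 [hs]
      have := three (y • ρ b e)
      linear_combination (norm := module) -this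
    rw [this]
    exact N.sub_mem (N.add_mem (N.sub_mem hv ht) hu) htu
  have hz : z • ρ b (ρ b e) ∈ N := by
    have : z • ρ b (ρ b e) = v - ρ t v - ρ u v + ρ t (ρ u v) := by
      rw [etu, eu, et]
      nth_rw 1 [hs]
      have := three (z • ρ b (ρ b e))
      linear_combination (norm := module) -this
    rw [this]
    exact N.add_mem (N.sub_mem (N.sub_mem hv ht) hu) htu
  rw [hsc _ _ hx hex, hsc _ _ hy n2, hsc _ _ hz n3, zero_smul, zero_smul, zero_smul, add_zero,
    add_zero, add_zero] at hs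
  rw [hs]
  exact he.fix a ha ha'

theorem b_sub_mem {b t u : S} (hρ : Function.Injective ρ) (hP : Pair b t u)
    {e : E} (he : Q4R (ρ t) (ρ u) (ρ b) e) {N : Submodule (ZMod 3) E} (h1 : e ∈ N)
    (h2 : ρ b e ∈ N) (h3 : ρ b (ρ b e) ∈ N) (v : E) : ρ b v - v ∈ N := by
  have h4 := hP.q4 hρ
  obtain ⟨a, x, y, z, ha, ha', hs⟩ := he.dec h4 v
  have : ρ b v - v = x • (ρ b e - e) + y • (ρ b (ρ b e) - ρ b e) + z • (e - ρ b (ρ b e)) := by
    rw [hs]
    simp only [map_add, map_smul, he.fix a ha ha', h4.bb]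
    module
  rw [this]
  exact N.add_mem (N.add_mem (N.smul_mem _ (N.sub_mem h2 h1)) (N.smul_mem _ (N.sub_mem h3 h2)))
    (N.smul_mem _ (N.sub_mem h1 h3))

theorem irred [Finite S] {b t u : S} (hρ : Function.Injective ρ) (hP : Pair b t u)
    {e : E} (he : Q4R (ρ t) (ρ u) (ρ b) e) {R : Subgroup S} (h3 : (Nat.card R).Coprime 3)
    (hR : R ≤ ⁅R, zpowers b⁆) (ht : t ∈ R) (hu : u ∈ R)
    {N : Submodule (ZMod 3) E} (hN0 : N ≤ F0 ρ R) (hN : ∀ r ∈ R, ∀ v ∈ N, ρ r v ∈ N)
    (hNb : ∀ v ∈ N, ρ b v ∈ N) : N = ⊥ ∨ (e ∈ N ∧ N = F0 ρ R) := by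
  rcases e_mem_of hρ hP he (hN t ht) (hN u hu) hNb with h | h
  · right
    refine ⟨h, le_antisymm hN0 ?_⟩
    apply F0_le
    intro r hr
    have := com (ρ := ρ) hP.b3 hR (N1 := N) (N2 := ⊤) le_top hN (fun _ _ _ _ => trivial)
      (fun v _ => b_sub_mem hρ hP he h (hNb _ h) (hNb _ (hNb _ h)) v)
    intro v
    exact this r hr v trivial
  · left
    have := com (ρ := ρ) hP.b3 hR (N1 := ⊥) (N2 := N) bot_le
      (fun r _ v hv => by rw [Submodule.mem_bot] at hv ⊢; rw [hv, map_zero]) hN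
      (fun v hv => by rw [h v hv, sub_self]; exact Submodule.zero_mem _)
    rw [eq_bot_iff, ← (F0_F1 ρ h3).1]
    apply le_inf hN0
    intro v hv r hr
    have := this r hr v hv
    rw [Submodule.mem_bot, sub_eq_zero] at this
    exact this

theorem faithful_R [Finite S] (hρ : Function.Injective ρ) {R : Subgroup S}
    (h3 : (Nat.card R).Coprime 3) {g : S} (hg : g ∈ R) (h : ∀ v ∈ F0 ρ R, ρ g v = v) : g = 1 := by
  apply unip hρ (fun v => sub_mem_F0 hg v) h
  have : orderOf g ∣ Nat.card R := Subgroup.orderOf_dvd_natCard R hg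
  exact Nat.Coprime.coprime_dvd_left this h3

theorem zpow_cases {b : S} (hb : b * b * b = 1) {x : S} (hx : x ∈ zpowers b) :
    x = 1 ∨ x = b ∨ x = b * b := by
  have h3 : b ^ 3 = 1 := by rw [pow_succ, pow_two, hb]
  have hfin : IsOfFinOrder b := isOfFinOrder_iff_pow_eq_one.mpr ⟨3, by norm_num, h3⟩
  rw [← hfin.mem_powers_iff_mem_zpowers] at hx
  obtain ⟨n, rfl⟩ := hx
  have hn : b ^ n = b ^ (n % 3) := by
    conv_lhs => rw [← Nat.div_add_mod n 3, pow_add, pow_mul, h3, one_pow, one_mul]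
  simp only [hn]
  have : n % 3 < 3 := Nat.mod_lt _ (by norm_num)
  interval_cases n % 3
  · left; rw [pow_zero]
  · right; left; rw [pow_one]
  · right; right; rw [pow_two]

theorem mem_sup_cases {b : S} {R : Subgroup S} (hb : b * b * b = 1)
    (hbR : ∀ x ∈ R, b * x * b⁻¹ ∈ R) {g : S} (hg : g ∈ R ⊔ zpowers b) :
    ∃ x ∈ R, g = x ∨ g = x * b ∨ g = x * (b * b) := by
  have hbR2 : ∀ x ∈ R, b * b * x * (b * b)⁻¹ ∈ R := by
    intro x hx
    have := hbR _ (hbR x hx)
    have e : b * b * x * (b * b)⁻¹ = b * (b * x * b⁻¹) * b⁻¹ := by group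
    rw [e]; exact this
  have h4 : b * b * (b * b) = b := by
    calc b * b * (b * b) = (b * b * b) * b := by group
      _ = b := by rw [hb, one_mul]
  have h3' : b * (b * b) = 1 := by rw [← mul_assoc]; exact hb
  refine Subgroup.closure_induction (G := S) (k := (R : Set S) ∪ (zpowers b : Set S))
    (p := fun g _ => ∃ x ∈ R, g = x ∨ g = x * b ∨ g = x * (b * b)) ?_ ?_ ?_ ?_
    (by rw [Subgroup.closure_union, Subgroup.closure_eq, Subgroup.closure_eq]; exact hg)
  · rintro x (hx | hx)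
    · exact ⟨x, hx, Or.inl rfl⟩
    · rcases zpow_cases hb hx with h | h | h
      · exact ⟨1, R.one_mem, Or.inl h⟩
      · exact ⟨1, R.one_mem, Or.inr (Or.inl (by rw [h, one_mul]))⟩
      · exact ⟨1, R.one_mem, Or.inr (Or.inr (by rw [h, one_mul]))⟩
  · exact ⟨1, R.one_mem, Or.inl rfl⟩
  · rintro g h _ _ ⟨x, hx, h1⟩ ⟨y, hy, h2⟩
    rcases h1 with rfl | rfl | rfl
    · rcases h2 with rfl | rfl | rfl
      · exact ⟨_, R.mul_mem hx hy, Or.inl rfl⟩
      · exact ⟨_, R.mul_mem hx hy, Or.inr (Or.inl (by rw [mul_assoc]))⟩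
      · exact ⟨_, R.mul_mem hx hy, Or.inr (Or.inr (by rw [mul_assoc]))⟩
    · rcases h2 with rfl | rfl | rfl
      · exact ⟨_, R.mul_mem hx (hbR _ hy), Or.inr (Or.inl (by group))⟩
      · exact ⟨_, R.mul_mem hx (hbR _ hy), Or.inr (Or.inr (by group))⟩
      · refine ⟨_, R.mul_mem hx (hbR _ hy), Or.inl ?_⟩
        calc x * b * (y * (b * b)) = x * (b * y * b⁻¹) * (b * b * b) := by group
          _ = _ := by rw [hb, mul_one]
    · rcases h2 with rfl | rfl | rfl
      · exact ⟨_, R.mul_mem hx (hbR2 _ hy), Or.inr (Or.inr (by group))⟩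
      · refine ⟨_, R.mul_mem hx (hbR2 _ hy), Or.inl ?_⟩
        calc x * (b * b) * (y * b) = x * (b * b * y * (b * b)⁻¹) * (b * b * b) := by group
          _ = _ := by rw [hb, mul_one]
      · refine ⟨_, R.mul_mem hx (hbR2 _ hy), Or.inr (Or.inl ?_)⟩
        have h5 : ∀ c : S, x * c * (y * c) = x * (c * y * c⁻¹) * (c * c) := by intro c; group
        rw [h5, h4]
  · rintro g _ ⟨x, hx, h1⟩
    have hbi : b⁻¹ = b * b := inv_eq_of_mul_eq_one_left hb
    have hbi2 : (b * b)⁻¹ = b := inv_eq_of_mul_eq_one_left h3'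
    rcases h1 with rfl | rfl | rfl
    · exact ⟨_, R.inv_mem hx, Or.inl rfl⟩
    · refine ⟨_, hbR2 _ (R.inv_mem hx), Or.inr (Or.inr ?_)⟩
      rw [mul_inv_rev, hbi]; group
    · refine ⟨_, hbR _ (R.inv_mem hx), Or.inr (Or.inl ?_)⟩
      rw [mul_inv_rev, hbi2]; group

theorem faithful_RB [Finite S] {b t u : S} (hρ : Function.Injective ρ) (hP : Pair b t u)
    {e : E} (he : Q4R (ρ t) (ρ u) (ρ b) e) {R : Subgroup S} (h3 : (Nat.card R).Coprime 3)
    (hbR : ∀ x ∈ R, b * x * b⁻¹ ∈ R) (hu : u ∈ R) {g : S} (hg : g ∈ R ⊔ zpowers b)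
    (h : ∀ v ∈ F0 ρ R, ρ g v = v) : g = 1 := by
  -- `b` moves `e`
  have heF := e_mem_F0 he hu
  have hbe : ρ b e ≠ e := by
    intro hc
    have h1 := he.t2
    rw [hc, he.te] at h1
    exact he.ne (eq_zero_of_neg h1)
  have hgi : ∀ v ∈ F0 ρ R, ρ g⁻¹ v = v := by
    intro v hv
    nth_rw 1 [← h v hv]
    rw [rinv]
  -- g normalizes R
  have hbi : b⁻¹ = b * b := inv_eq_of_mul_eq_one_left hP.b3
  have hbR2 : ∀ x ∈ R, b⁻¹ * x * b ∈ R := by
    intro x hx
    have := hbR _ (hbR x hx)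
    have e1 : b⁻¹ * x * b = b * (b * x * b⁻¹) * b⁻¹ := by
      have h2 : b = b⁻¹ * b⁻¹ := by
        rw [← mul_inv_rev, ← hbi, inv_inv]
      calc b⁻¹ * x * b = b⁻¹ * x * (b⁻¹ * b⁻¹) := by rw [← h2]
        _ = (b * b) * x * (b⁻¹ * b⁻¹) := by rw [← hbi]
        _ = _ := by group
    rw [e1]; exact this
  have hN : R ⊔ zpowers b ≤ normalizer (R : Set S) := by
    apply sup_le le_normalizer
    rw [zpowers_le]
    rw [Subgroup.mem_normalizer_iff]
    intro x
    constructor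
    · exact hbR x
    · intro hx
      have := hbR2 _ hx
      have e1 : b⁻¹ * (b * x * b⁻¹) * b = x := by group
      rwa [e1] at this
  have hgR : ∀ x ∈ R, g * x * g⁻¹ ∈ R := fun x hx =>
    (Subgroup.mem_normalizer_iff.mp (hN hg) x).mp hx
  have hcomm : ∀ x ∈ R, g * x = x * g := by
    intro x hx
    have h1 : g * x * g⁻¹ * x⁻¹ ∈ R := R.mul_mem (hgR x hx) (R.inv_mem hx)
    have h2 : g * x * g⁻¹ * x⁻¹ = 1 := by
      apply faithful_R hρ h3 h1
      intro v hv
      have hx1 : ρ x⁻¹ v ∈ F0 ρ R :=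
        F0_inv (fun y hy => R.mul_mem (R.mul_mem (R.inv_mem hx) hy) (R.inv_mem (R.inv_mem hx))) hv
      rw [rmul, rmul, rmul, hgi _ hx1, rinv', h v hv]
    calc g * x = (g * x * g⁻¹ * x⁻¹) * x * g := by group
      _ = x * g := by rw [h2, one_mul]
  have order3 : ∀ x ∈ R, x * x * x = 1 → x = 1 := by
    intro x hx h1
    have h2 : orderOf x ∣ 3 := orderOf_dvd_of_pow_eq_one (by rw [pow_succ, pow_two, h1])
    have h4 : orderOf x ∣ Nat.card R := Subgroup.orderOf_dvd_natCard R hx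
    exact orderOf_eq_one_iff.mp (Nat.eq_one_of_dvd_coprimes h3 h4 h2)
  have hcube : ∀ x ∈ R, ∀ c : S, c * c * c = 1 → g = x * c → x = 1 := by
    intro x hx c hc hgx
    have h1 := hcomm x hx
    have hxc : c = x⁻¹ * g := by rw [hgx]; group
    have h2 : g * g * g = x * x * x := by
      have hxg : g * x⁻¹ = x⁻¹ * g := by
        calc g * x⁻¹ = x⁻¹ * (x * g) * x⁻¹ := by group
          _ = x⁻¹ * g := by rw [← h1]; group
      have h4 : c * c * c = x⁻¹ * x⁻¹ * x⁻¹ * (g * g * g) := by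
        rw [hxc]
        calc x⁻¹ * g * (x⁻¹ * g) * (x⁻¹ * g) = x⁻¹ * (g * x⁻¹) * (g * x⁻¹) * g := by group
          _ = x⁻¹ * (x⁻¹ * g) * (x⁻¹ * g) * g := by rw [hxg]
          _ = x⁻¹ * x⁻¹ * (g * x⁻¹) * g * g := by group
          _ = x⁻¹ * x⁻¹ * (x⁻¹ * g) * g * g := by rw [hxg]
          _ = _ := by group
      rw [hc] at h4
      calc g * g * g = x * x * x * (x⁻¹ * x⁻¹ * x⁻¹ * (g * g * g)) := by group
        _ = _ := by rw [← h4, mul_one]
    have h5 : x * x * x = 1 := by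
      apply faithful_R hρ h3 (R.mul_mem (R.mul_mem hx hx) hx)
      intro v hv
      rw [← h2, rmul, rmul, h v hv, h v hv, h v hv]
    exact order3 x hx h5
  obtain ⟨x, hx, hc⟩ := mem_sup_cases hP.b3 hbR hg
  rcases hc with hc | hc | hc
  · rw [hc] at h ⊢
    exact faithful_R hρ h3 hx h
  · have h1 := hcube x hx b hP.b3 hc
    rw [h1, one_mul] at hc
    rw [hc] at h
    exact absurd (h e heF) hbe
  · have h1 := hcube x hx (b * b) (by
      calc b * b * (b * b) * (b * b) = (b * b * b) * (b * b * b) := by group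
        _ = 1 := by rw [hP.b3, one_mul]) hc
    rw [h1, one_mul] at hc
    rw [hc] at h
    have h2 := h e heF
    apply absurd _ hbe
    have h4 := (hP.q4 hρ).bb e
    rw [rmul] at h2
    rw [h2] at h4
    exact h4

end H1.FG19
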