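import Cfsg.Agent.Lib.H1.FGd
import Cfsg.Agent.Lib.H13.Cores
import Cfsg.Agent.Lib.H65.PBasic2

set_option autoImplicit false

/-!
The commutator group is a 2-group.
-/

namespace H1.FG19

open Subgroup

variable {S : Type*} [Group S] {E : Type*} [AddCommGroup E] [Module (ZMod 3) E]
  {ρ : Representation (ZMod 3) S E}

/-- the four-group of a pair. -/
def four {b t u : S} (h : Pair b t u) : Subgroup S where
  carrier := {x | x = 1 ∨ x = t ∨ x = u ∨ x = t * u}
  one_mem' := Or.inl rfl
  mul_mem' := by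
    have htt := h.tt
    have huu := h.uu
    have htu := h.tu
    have e1 : t * (t * u) = u := by rw [← mul_assoc, htt, one_mul]
    have e2 : u * (t * u) = t := by rw [← mul_assoc, htu, mul_assoc, huu, mul_one]
    have e3 : t * u * t = u := by rw [mul_assoc, htu, e1]
    have e4 : t * u * u = t := by rw [mul_assoc, huu, mul_one]
    have e5 : t * u * (t * u) = 1 := by rw [← mul_assoc, e3, huu]
    rintro x y (rfl | rfl | rfl | rfl) (rfl | rfl | rfl | rfl)
    · left; rw [one_mul]
    · right; left; rw [one_mul]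
    · right; right; left; rw [one_mul]
    · right; right; right; rw [one_mul]
    · right; left; rw [mul_one]
    · left; exact htt
    · right; right; right; rfl
    · right; right; left; exact e1
    · right; right; left; rw [mul_one]
    · right; right; right; exact htu
    · left; exact huu
    · right; left; exact e2
    · right; right; right; rw [mul_one]
    · right; right; left; exact e3
    · right; left; exact e4
    · left; exact e5
  inv_mem' := by
    have e5 : t * u * (t * u) = 1 := by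
      rw [mul_assoc, ← mul_assoc u t u, h.tu, mul_assoc t u u, h.uu, mul_one, h.tt]
    rintro x (rfl | rfl | rfl | rfl)
    · left; rw [inv_one]
    · right; left; exact inv_eq_of_mul_eq_one_left h.tt
    · right; right; left; exact inv_eq_of_mul_eq_one_left h.uu
    · right; right; right; exact inv_eq_of_mul_eq_one_left e5

theorem mem_four {b t u : S} (h : Pair b t u) {x : S} :
    x ∈ four h ↔ x = 1 ∨ x = t ∨ x = u ∨ x = t * u := Iff.rfl

theorem card_four {b t u : S} (h : Pair b t u) : Nat.card (four h) = 4 := by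
  classical
  have hu1 : u ≠ 1 := h.rot.ne
  have htu1 : t * u ≠ 1 := h.rot.rot.ne
  have htu : t ≠ u := by
    intro hc; apply htu1; rw [hc]; exact h.uu
  have e1 : t ≠ t * u := by
    intro hc; exact hu1 (left_eq_mul.mp hc)
  have e2 : u ≠ t * u := by
    intro hc; exact h.ne (right_eq_mul.mp hc)
  have h1 : ((four h : Subgroup S) : Set S) = ({1, t, u, t * u} : Finset S) := by
    ext x
    simp only [Finset.coe_insert, Finset.coe_singleton, Set.mem_insert_iff, Set.mem_singleton_iff]
    exact Iff.rfl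
  change Nat.card ((four h : Subgroup S) : Set S) = 4
  rw [h1, Nat.card_coe_set_eq, Set.ncard_coe_finset]
  rw [Finset.card_insert_of_notMem, Finset.card_insert_of_notMem, Finset.card_insert_of_notMem,
    Finset.card_singleton]
  · simp only [Finset.mem_singleton]; exact e2
  · simp only [Finset.mem_insert, Finset.mem_singleton, not_or]; exact ⟨htu, e1⟩
  · simp only [Finset.mem_insert, Finset.mem_singleton, not_or]
    exact ⟨fun hc => h.ne hc.symm, fun hc => hu1 hc.symm, fun hc => htu1 hc.symm⟩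

theorem four_elem {b t u : S} (h : Pair b t u) : Cfsg.IsElementaryAbelian 2 (four h) := by
  constructor
  · refine ⟨⟨fun x y => Subtype.ext ?_⟩⟩
    have htu := h.tu
    have e : ∀ x ∈ four h, x * t = t * x ∧ x * u = u * x := by
      rintro x (rfl | rfl | rfl | rfl)
      · exact ⟨by rw [one_mul, mul_one], by rw [one_mul, mul_one]⟩
      · exact ⟨rfl, htu.symm⟩
      · exact ⟨htu, rfl⟩
      · exact ⟨by rw [mul_assoc, htu], by rw [← mul_assoc, htu]⟩
    have hx := e x x.2
    rcases y.2 with hy | hy | hy | hy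
    · change (x : S) * y = y * x; rw [hy, one_mul, mul_one]
    · change (x : S) * y = y * x; rw [hy, hx.1]
    · change (x : S) * y = y * x; rw [hy, hx.2]
    · change (x : S) * y = y * x; rw [hy, ← mul_assoc, hx.1, mul_assoc, hx.2, mul_assoc]
  · rintro x (rfl | rfl | rfl | rfl)
    · rw [one_pow]
    · rw [pow_two, h.tt]
    · rw [pow_two, h.uu]
    · rw [pow_two, h.rot.uu]

theorem binv {b : S} (hb : b * b * b = 1) {V : Subgroup S} (hV : ∀ y ∈ V, b * y * b⁻¹ ∈ V) :
    ∀ y ∈ V, b⁻¹ * y * b ∈ V := by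
  intro y hy
  have h1 := hV _ (hV _ hy)
  have e1 : b⁻¹ * y * b = b * (b * y * b⁻¹) * b⁻¹ := by
    calc b⁻¹ * y * b = b⁻¹ * (b * b * b) * y * (b * b * b)⁻¹ * b := by
          rw [hb, inv_one, mul_one, mul_one]
      _ = _ := by group
  rw [e1]; exact h1

theorem bnorm {b : S} (hb : b * b * b = 1) {V : Subgroup S} (hV : ∀ y ∈ V, b * y * b⁻¹ ∈ V) :
    zpowers b ≤ normalizer (V : Set S) := by
  rw [zpowers_le, Subgroup.mem_normalizer_iff]
  intro x
  constructor
  · exact hV x
  · intro hx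
    have := binv hb hV _ hx
    have e1 : b⁻¹ * (b * x * b⁻¹) * b = x := by group
    rwa [e1] at this

theorem v_cent [Finite S] [Finite E] (hρ : Function.Injective ρ) {b t u : S} (hP : Pair b t u)
    {w1 w2 : E} (hB : Blk (ρ b) w1 w2) {r : ℕ} (hr : r.Prime) (h5 : 5 ≤ r)
    (V : Subgroup S) (hV : IsPGroup r V) (htV : ∀ y ∈ V, t * y * t⁻¹ ∈ V)
    (huV : ∀ y ∈ V, u * y * u⁻¹ ∈ V) : ∀ y ∈ V, t * y = y * t ∧ u * y = y * u := by
  have hfr : Fact r.Prime := ⟨hr⟩
  have htuV : ∀ y ∈ V, (t * u) * y * (t * u)⁻¹ ∈ V := by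
    intro y hy
    have := htV _ (huV y hy)
    have e : (t * u) * y * (t * u)⁻¹ = t * (u * y * u⁻¹) * t⁻¹ := by group
    rw [e]; exact this
  have hbase : ∀ s ∈ four hP, s ≠ 1 → ∀ y ∈ V, s * y = y * s → t * y = y * t ∧ u * y = y * u := by
    intro s hs hs1 y hy hsy
    rcases hs with rfl | rfl | rfl | rfl
    · exact absurd rfl hs1
    · exact ⟨hsy, core hρ hP hB hr h5 V hV huV hy hsy⟩
    · have h1 := core hρ hP.rot hB hr h5 V hV htuV hy hsy
      refine ⟨?_, hsy⟩
      have e1 : t * s * y = t * y * s := by rw [mul_assoc, hsy, mul_assoc]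
      rw [e1] at h1
      have e2 : t * y * s = y * t * s := by rw [h1]; group
      exact mul_right_cancel e2
    · have e0 : u * (t * u) = t := by rw [← mul_assoc, hP.tu, mul_assoc, hP.uu, mul_one]
      have h1 := core hρ hP.rot.rot hB hr h5 V hV (by rw [e0]; exact htV) hy hsy
      rw [e0] at h1
      refine ⟨h1, ?_⟩
      have e1 : t * (u * y) = t * (y * u) := by
        rw [← mul_assoc, hsy, ← mul_assoc, ← mul_assoc, h1]
      exact mul_left_cancel e1
  have hco : (Nat.card V).Coprime 2 := by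
    obtain ⟨k, hk⟩ := IsPGroup.iff_card.mp hV
    rw [hk]
    apply Nat.Coprime.pow_left
    exact (Nat.coprime_primes hr Nat.prime_two).mpr (by omega)
  have hnorm : four hP ≤ normalizer (V : Set S) := by
    have hone : ∀ s : S, s * s = 1 → (∀ y ∈ V, s * y * s⁻¹ ∈ V) → s ∈ normalizer (V : Set S) := by
      intro s hs h1
      rw [Subgroup.mem_normalizer_iff]
      intro x
      constructor
      · exact h1 x
      · intro hx
        have := h1 _ hx
        have e1 : s * (s * x * s⁻¹) * s⁻¹ = (s * s) * x * (s * s)⁻¹ := by group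
        rw [e1, hs, one_mul, inv_one, mul_one] at this
        exact this
    rintro x (rfl | rfl | rfl | rfl)
    · exact one_mem _
    · exact hone _ hP.tt htV
    · exact hone _ hP.uu huV
    · exact hone _ hP.rot.uu htuV
  have hcb : ⁅V, four hP⁆ = ⊥ := by
    by_contra hne
    obtain ⟨B, hBA, hrel, hBne⟩ := H13.CoprimeHyper.exists_hyper (four_elem hP) hco hnorm hne
    apply hBne
    rw [Subgroup.commutator_eq_bot_iff_le_centralizer]
    have hB1 : B ≠ ⊥ := by
      rintro rfl
      rw [Subgroup.relIndex_bot_left, card_four] at hrel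
      omega
    obtain ⟨⟨s, hs⟩, hs1⟩ := Subgroup.ne_bot_iff_exists_ne_one.mp hB1
    have hs1' : (s : S) ≠ 1 := fun h => hs1 (Subtype.ext h)
    intro y hy
    rw [Subgroup.mem_inf] at hy
    have h1 := hbase s (hBA hs) hs1' y hy.1 (Subgroup.mem_centralizer_iff.mp hy.2 s hs)
    refine Subgroup.mem_centralizer_iff.2 ?_
    intro x hx
    rcases hx with rfl | rfl | rfl | rfl
    · rw [one_mul, mul_one]
    · exact h1.1
    · exact h1.2
    · rw [mul_assoc, h1.2, ← mul_assoc, h1.1, mul_assoc]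
  rw [Subgroup.commutator_eq_bot_iff_le_centralizer] at hcb
  intro y hy
  have := Subgroup.mem_centralizer_iff.mp (hcb hy)
  exact ⟨this t (Or.inr (Or.inl rfl)), this u (Or.inr (Or.inr (Or.inl rfl)))⟩

theorem v_bot [Finite S] [Finite E] (hρ : Function.Injective ρ) {b t u : S} (hP : Pair b t u)
    {w1 w2 : E} (hB : Blk (ρ b) w1 w2) {r : ℕ} (hr : r.Prime) (h5 : 5 ≤ r)
    {R : Subgroup S} (h3 : (Nat.card R).Coprime 3)
    (hR : R ≤ ⁅R, zpowers b⁆) (hbR : ∀ x ∈ R, b * x * b⁻¹ ∈ R) (ht : t ∈ R) (hu : u ∈ R)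
    (V : Subgroup S) (hV : IsPGroup r V) (hVR : V ≤ R) (hRV : ∀ x ∈ R, ∀ y ∈ V, x * y * x⁻¹ ∈ V)
    (hbV : ∀ y ∈ V, b * y * b⁻¹ ∈ V) : V = ⊥ := by
  have h4 := hP.q4 hρ
  obtain ⟨e, he⟩ := FG19.q4 h4 hB
  have hc := v_cent hρ hP hB hr h5 V hV (hRV t ht) (hRV u hu)
  have hfix : ∀ y ∈ V, ρ y e = e := by
    intro y hy
    have hin : ∀ z ∈ V, ρ z e ∈ Submodule.span (ZMod 3) {e, e} := by
      intro z hz
      obtain ⟨c, hc'⟩ := he.l1 (ρ z e) (by rw [← rmul, (hc z hz).1, rmul, he.te])
        (by rw [← rmul, (hc z hz).2, rmul, he.ue, map_neg])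
      rw [hc']
      exact Submodule.smul_mem _ _ (Submodule.subset_span (by simp))
    obtain ⟨k, hk⟩ := hV ⟨y, hy⟩
    have hk' : y ^ r ^ k = 1 := congrArg Subtype.val hk
    refine triv_two hr h5 hk' (Submodule.span (ZMod 3) {e, e}) ?_ (finrank_span_pair_le _ _) e
      (Submodule.subset_span (by simp))
    intro w hw
    rw [Submodule.mem_span_pair] at hw
    obtain ⟨c, d, rfl⟩ := hw
    rw [map_add, map_smul, map_smul]
    exact Submodule.add_mem _ (Submodule.smul_mem _ _ (hin y hy))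
      (Submodule.smul_mem _ _ (hin y hy))
  have heF := e_mem_F0 he hu
  have hN1 : ∀ r ∈ R, ∀ v ∈ F0 ρ R ⊓ F1 ρ V, ρ r v ∈ F0 ρ R ⊓ F1 ρ V := by
    intro r hr v hv
    refine ⟨F0_inv (fun x hx => R.mul_mem (R.mul_mem hr hx) (R.inv_mem hr)) hv.1, ?_⟩
    intro y hy
    have h1 := hRV _ (R.inv_mem hr) y hy
    rw [inv_inv] at h1
    have e1 : y * r = r * (r⁻¹ * y * r) := by group
    rw [← rmul, e1, rmul, hv.2 _ h1]
  have hN2 : ∀ v ∈ F0 ρ R ⊓ F1 ρ V, ρ b v ∈ F0 ρ R ⊓ F1 ρ V := by
    intro v hv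
    refine ⟨?_, ?_⟩
    · exact F0_inv hbR hv.1
    · intro y hy
      have h1 := binv hP.b3 hbV y hy
      have e1 : y * b = b * (b⁻¹ * y * b) := by group
      rw [← rmul, e1, rmul, hv.2 _ h1]
  rcases irred hρ hP he h3 hR ht hu (N := F0 ρ R ⊓ F1 ρ V) inf_le_left hN1 hN2 with h | ⟨_, h⟩
  · exfalso
    have : e ∈ F0 ρ R ⊓ F1 ρ V := ⟨heF, hfix⟩
    rw [h, Submodule.mem_bot] at this
    exact he.ne this
  · rw [eq_bot_iff]
    intro y hy
    rw [Subgroup.mem_bot]
    apply faithful_R hρ h3 (hVR hy)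
    intro v hv
    rw [← h] at hv
    exact hv.2 y hy

end H1.FG19
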