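import Cfsg.Agent.Lib.H1.FGe

set_option autoImplicit false

/-!
The commutator group is a 2-group.
-/

namespace H1.FG19

open Subgroup

variable {S : Type*} [Group S] {E : Type*} [AddCommGroup E] [Module (ZMod 3) E]
  {ρ : Representation (ZMod 3) S E}

theorem cent_two [Finite S] [Group.IsSolvable S] [Finite E] (hρ : Function.Injective ρ)
    {b t u : S} (hP : Pair b t u)
    {w1 w2 : E} (hB : Blk (ρ b) w1 w2)
    {R : Subgroup S} (h3 : (Nat.card R).Coprime 3)
    (hR : R ≤ ⁅R, zpowers b⁆) (hbR : ∀ x ∈ R, b * x * b⁻¹ ∈ R) (ht : t ∈ R) (hu : u ∈ R)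
    {x : S} (hx : x ∈ R)
    (hxc : ∀ y ∈ (Cfsg.pCore 2 R).map R.subtype, x * y = y * x) :
    x ∈ (Cfsg.pCore 2 R).map R.subtype := by
  have hcore : ∀ p : ℕ, p.Prime → p ≠ 2 → Cfsg.pCore p R = ⊥ := by
    intro p hp h2
    have : Fact p.Prime := ⟨hp⟩
    by_cases hp3 : p = 3
    · subst hp3
      have h1 := H1.Cores.isPGroup_pCore (G := R) 3
      obtain ⟨k, hk⟩ := IsPGroup.iff_card.mp h1
      have h4 : Nat.card (Cfsg.pCore 3 R) ∣ Nat.card R := Subgroup.card_subgroup_dvd_card _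
      have h5 : Nat.card (Cfsg.pCore 3 R) = 1 := by
        have h6 : (Nat.card (Cfsg.pCore 3 R)).Coprime (Nat.card (Cfsg.pCore 3 R)) := by
          apply Nat.Coprime.coprime_dvd_left h4
          rw [hk]
          exact Nat.Coprime.pow_right k h3
        exact (Nat.coprime_self _).mp h6
      exact Subgroup.card_eq_one.mp h5
    · have h5 : 5 ≤ p := by
        have := hp.two_le
        by_contra hlt
        have h4 : p = 4 := by omega
        rw [h4] at hp
        exact absurd hp (by norm_num)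
      have hV := v_bot hρ hP hB hp h5 h3 hR hbR ht hu ((Cfsg.pCore p R).map R.subtype)
        ((H1.Cores.isPGroup_pCore (G := R) p).map _) (map_subtype_le _) (by
          intro x hx y hy
          obtain ⟨z, hz, rfl⟩ := hy
          exact ⟨(⟨x, hx⟩ : R) * z * (⟨x, hx⟩ : R)⁻¹,
            (H1.Cores.pCore_normal (G := R) p).conj_mem z hz ⟨x, hx⟩, rfl⟩) (by
          intro y hy
          have h1 := bnorm hP.b3 hbR
          have h2 := h1.trans (H13.Cores.normalizer_le_normalizer_map R (Cfsg.pCore p R))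
          exact (Subgroup.mem_normalizer_iff.mp (h2 (mem_zpowers b)) y).mp hy)
      exact (Subgroup.map_eq_bot_iff_of_injective _ R.subtype_injective).mp hV
  have hfit : Cfsg.fittingSubgroup R ≤ Cfsg.pCore 2 R := by
    rw [H1.Cores.fittingSubgroup_eq_iSup_pCore]
    apply iSup_le
    intro p
    by_cases h2 : (p : ℕ) = 2
    · rw [h2]
    · rw [hcore p p.2 h2]; exact bot_le
  have hfit' : Cfsg.pCore 2 R ≤ Cfsg.fittingSubgroup R := by
    have : Fact (Nat.Prime 2) := ⟨Nat.prime_two⟩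
    exact H1.Cores.pCore_le_fittingSubgroup 2
  have heq := le_antisymm hfit hfit'
  have hs : Group.IsSolvable R := inferInstance
  have hc := H1.Solv.centralizer_fitting_le hs
  rw [heq] at hc
  refine ⟨⟨x, hx⟩, hc ?_, rfl⟩
  refine Subgroup.mem_centralizer_iff.2 ?_
  intro y hy
  apply Subtype.ext
  exact (hxc y ⟨y, hy, rfl⟩).symm

theorem no_comm {b y : S} (hb : b * b * b = 1) {r k : ℕ} (hr : r.Prime) (h5 : 5 ≤ r)
    (hk : (y * b * y⁻¹ * b⁻¹) ^ r ^ k = 1)
    (hc : b * (y * b * y⁻¹ * b⁻¹) = (y * b * y⁻¹ * b⁻¹) * b) : y * b * y⁻¹ * b⁻¹ = 1 := by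
  generalize hx : y * b * y⁻¹ * b⁻¹ = x at *
  have h1 : x * b = y * b * y⁻¹ := by rw [← hx]; group
  have h2 : (x * b) * (x * b) * (x * b) = 1 := by
    rw [h1]
    calc y * b * y⁻¹ * (y * b * y⁻¹) * (y * b * y⁻¹) = y * (b * b * b) * y⁻¹ := by group
      _ = 1 := by rw [hb]; group
  have h3 : (x * b) * (x * b) * (x * b) = x * x * x * (b * b * b) := by
    calc (x * b) * (x * b) * (x * b) = x * (b * x) * (b * x) * b := by group
      _ = x * (x * b) * (x * b) * b := by rw [hc]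
      _ = x * x * (b * x) * b * b := by group
      _ = x * x * (x * b) * b * b := by rw [hc]
      _ = _ := by group
  rw [h3, hb, mul_one] at h2
  have h4 : orderOf x ∣ 3 := orderOf_dvd_of_pow_eq_one (by rw [pow_succ, pow_two, h2])
  have h6 : orderOf x ∣ r ^ k := orderOf_dvd_of_pow_eq_one hk
  have h7 : (r ^ k).Coprime 3 := by
    apply Nat.Coprime.pow_left
    exact (Nat.coprime_primes hr Nat.prime_three).mpr (by omega)
  exact orderOf_eq_one_iff.mp (Nat.eq_one_of_dvd_coprimes h7 h6 h4)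

theorem blk_mem {b : S} {w1 w2 : E} (hB : Blk (ρ b) w1 w2) (v : E) :
    ρ b v - v ∈ Submodule.span (ZMod 3) {w1, w2} := by
  obtain ⟨x, y, h, _⟩ := hB.ex v
  rw [h, Submodule.mem_span_pair]
  exact ⟨x, y, rfl⟩

theorem conj_mem_KD {b y : S} {W : Submodule (ZMod 3) E} (hb : b ∈ KD ρ W) :
    y * b * y⁻¹ ∈ KD ρ (W.map (ρ y)) := by
  intro v
  have : ρ (y * b * y⁻¹) v - v = ρ y (ρ b (ρ y⁻¹ v) - ρ y⁻¹ v) := by
    rw [map_sub, rinv', rmul, rmul]
  rw [this]
  exact ⟨_, hb _, rfl⟩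

theorem finrank_triple [Finite E] (x y z : E) :
    Module.finrank (ZMod 3) (Submodule.span (ZMod 3) {x, y, z}) ≤ 3 := by
  classical
  have h := finrank_span_finset_le_card (R := ZMod 3) ({x, y, z} : Finset E)
  have h2 : (({x, y, z} : Finset E) : Set E) = {x, y, z} := by simp
  unfold Set.finrank at h
  rw [h2] at h
  exact h.trans Finset.card_le_three

theorem cent_r [Finite S] [Group.IsSolvable S] [Finite E] (hρ : Function.Injective ρ)
    {b t u : S} (hP : Pair b t u)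
    {w1 w2 : E} (hB : Blk (ρ b) w1 w2)
    {R : Subgroup S} (h3 : (Nat.card R).Coprime 3)
    (hbR : ∀ x ∈ R, b * x * b⁻¹ ∈ R) (ht : t ∈ R) (hu : u ∈ R)
    {r : ℕ} (hr : r.Prime) (h5 : 5 ≤ r) (Y : Subgroup S) (hY : IsPGroup r Y) (hYR : Y ≤ R)
    (hbY : ∀ y ∈ Y, b * y * b⁻¹ ∈ Y) {y : S} (hy : y ∈ Y) : y * b * y⁻¹ * b⁻¹ = 1 := by
  classical
  have hfr : Fact r.Prime := ⟨hr⟩
  have h4 := hP.q4 hρ
  obtain ⟨e, he⟩ := FG19.q4 h4 hB
  have hypow : ∀ z ∈ Y, ∃ k, z ^ r ^ k = 1 := by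
    intro z hz
    obtain ⟨k, hk⟩ := hY ⟨z, hz⟩
    exact ⟨k, congrArg Subtype.val hk⟩
  have hcomm : ∀ z ∈ Y, z * b * z⁻¹ * b⁻¹ ∈ Y := by
    intro z hz
    have : z * b * z⁻¹ * b⁻¹ = z * (b * z⁻¹ * b⁻¹) := by group
    rw [this]
    exact Y.mul_mem hz (hbY _ (Y.inv_mem hz))
  by_contra hne
  have hyY := hcomm y hy
  -- first subspace
  have hr13 : r = 13 := by
    set W := Submodule.span (ZMod 3) {w1, w2} with hW
    set D := W ⊔ W.map (ρ y) with hD
    have hbD : b ∈ KD ρ D := KD_mono le_sup_left (blk_mem hB)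
    have hbD' : y * b * y⁻¹ ∈ KD ρ D := KD_mono le_sup_right (conj_mem_KD (blk_mem hB))
    have hyD : y * b * y⁻¹ * b⁻¹ ∈ KD ρ D := (KD ρ D).mul_mem hbD' ((KD ρ D).inv_mem hbD)
    have hfin : Module.finrank (ZMod 3) D ≤ 4 := by
      have h1 : Module.finrank (ZMod 3) W ≤ 2 := finrank_span_pair_le _ _
      have h2 : Module.finrank (ZMod 3) (W.map (ρ y)) ≤ 2 := (Submodule.finrank_map_le _ _).trans h1
      have h3 : Module.finrank (ZMod 3) D ≤ Module.finrank (ZMod 3) W +
          Module.finrank (ZMod 3) (W.map (ρ y)) :=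
        Submodule.finrank_add_le_finrank_add_finrank W (W.map (ρ y))
      omega
    have hle : Y ⊓ KD ρ D ≤ Y := inf_le_left
    have hcop : (Nat.card (Y ⊓ KD ρ D : Subgroup S)).Coprime 3 :=
      Nat.Coprime.coprime_dvd_left (Subgroup.card_dvd_of_le (hle.trans hYR)) h3
    have hdvd := (card_dvd hρ (Y ⊓ KD ρ D) D inf_le_right hcop).trans (card_GL4 hfin)
    obtain ⟨k, hk⟩ := IsPGroup.iff_card.mp (hY.to_le hle)
    have hk0 : k ≠ 0 := by
      rintro rfl
      rw [pow_zero, Subgroup.card_eq_one] at hk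
      have : y * b * y⁻¹ * b⁻¹ ∈ Y ⊓ KD ρ D := ⟨hyY, hyD⟩
      rw [hk, Subgroup.mem_bot] at this
      exact hne this
    have hrd : r ∣ 24261120 := (dvd_pow_self r hk0).trans (hk ▸ hdvd)
    have hr' : r = 5 ∨ r = 13 := by
      have h1 : (24261120 : ℕ) = 2 ^ 9 * 3 ^ 6 * 5 * 13 := by norm_num
      rw [h1] at hrd
      rcases (Nat.Prime.dvd_mul hr).mp hrd with h | h
      · rcases (Nat.Prime.dvd_mul hr).mp h with h | h
        · rcases (Nat.Prime.dvd_mul hr).mp h with h | h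
          · have := (Nat.prime_dvd_prime_iff_eq hr Nat.prime_two).mp (hr.dvd_of_dvd_pow h)
            omega
          · have := (Nat.prime_dvd_prime_iff_eq hr Nat.prime_three).mp (hr.dvd_of_dvd_pow h)
            omega
        · left
          exact (Nat.prime_dvd_prime_iff_eq hr Nat.prime_five).mp h
      · right
        exact (Nat.prime_dvd_prime_iff_eq hr (by norm_num)).mp h
    rcases hr' with hr5 | h
    · exfalso
      subst hr5
      have hk1 : k = 1 := by
        by_contra hk1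
        have h2 : 2 ≤ k := by omega
        have h3 : 5 ^ 2 ∣ 24261120 := (pow_dvd_pow 5 h2).trans (hk ▸ hdvd)
        norm_num at h3
      rw [hk1, pow_one] at hk
      set y0 := y * b * y⁻¹ * b⁻¹ with hy0
      have hy0Y : y0 ∈ Y ⊓ KD ρ D := ⟨hyY, hyD⟩
      have hord : orderOf y0 = 5 := by
        have h1 : orderOf y0 ∣ 5 := by
          rw [← hk]; exact Subgroup.orderOf_dvd_natCard _ hy0Y
        rcases (Nat.dvd_prime Nat.prime_five).mp h1 with h | h
        · exact absurd (orderOf_eq_one_iff.mp h) hne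
        · exact h
      have hzp : zpowers y0 = Y ⊓ KD ρ D := by
        apply Subgroup.eq_of_le_of_card_ge
        · rw [zpowers_le]; exact hy0Y
        · rw [hk, Nat.card_zpowers, hord]
      have hby : b * y0 * b⁻¹ ∈ zpowers y0 := by
        rw [hzp]
        refine ⟨hbY _ hyY, ?_⟩
        exact (KD ρ D).mul_mem ((KD ρ D).mul_mem hbD hyD) ((KD ρ D).inv_mem hbD)
      have hfo : IsOfFinOrder y0 := isOfFinOrder_of_finite y0
      rw [← hfo.mem_powers_iff_mem_zpowers] at hby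
      obtain ⟨n, hn⟩ := hby
      obtain ⟨j, hj, hjb⟩ : ∃ j, j < 5 ∧ y0 ^ j = b * y0 * b⁻¹ :=
        ⟨n % 5, Nat.mod_lt _ (by norm_num), by rw [← hord, pow_mod_orderOf]; exact hn⟩
      have hc2 : ∀ m : ℕ, b * y0 ^ m * b⁻¹ = y0 ^ (j * m) := by
        intro m
        rw [← conj_pow, ← hjb, ← pow_mul]
      have hc3 : y0 = y0 ^ (j * (j * j)) := by
        have e1 : b * (b * (b * y0 * b⁻¹) * b⁻¹) * b⁻¹ = y0 := by
          calc b * (b * (b * y0 * b⁻¹) * b⁻¹) * b⁻¹ = (b * b * b) * y0 * (b * b * b)⁻¹ := by group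
            _ = y0 := by rw [hP.b3, one_mul, inv_one, mul_one]
        rw [← hjb, hc2, hc2] at e1
        exact e1.symm
      have h55 : y0 ^ 5 = 1 := by rw [← hord]; exact pow_orderOf_eq_one y0
      have hfinal : b * y0 * b⁻¹ = y0 := by
        have hmod : 1 ≡ j * (j * j) [MOD 5] := by
          rw [← hord]
          apply (pow_eq_pow_iff_modEq).mp
          rw [pow_one]; exact hc3
        have hj1 : j = 1 := by
          interval_cases j
          · exact absurd hmod (by decide)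
          · rfl
          · exact absurd hmod (by decide)
          · exact absurd hmod (by decide)
          · exact absurd hmod (by decide)
        rw [← hjb, hj1, pow_one]
      obtain ⟨k', hk'⟩ := hypow y0 hyY
      apply hne
      apply no_comm hP.b3 hr h5 hk'
      rw [← hy0]
      calc b * y0 = (b * y0 * b⁻¹) * b := by group
        _ = y0 * b := by rw [hfinal]
    · exact h
  -- second subspace
  subst hr13
  set W := Submodule.span (ZMod 3) {w1, w2} with hW
  set U := Submodule.span (ZMod 3) {e, ρ b e, ρ b (ρ b e)} with hU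
  set D := U ⊔ W.map (ρ y) with hD
  have heU : e ∈ U := Submodule.subset_span (by simp)
  have heU2 : ρ b e ∈ U := Submodule.subset_span (by simp)
  have heU3 : ρ b (ρ b e) ∈ U := Submodule.subset_span (by simp)
  have hbU : b ∈ KD ρ U := fun v => b_sub_mem hρ hP he heU heU2 heU3 v
  have hbD : b ∈ KD ρ D := KD_mono le_sup_left hbU
  have hbD' : y * b * y⁻¹ ∈ KD ρ D := KD_mono le_sup_right (conj_mem_KD (blk_mem hB))
  have hyD : y * b * y⁻¹ * b⁻¹ ∈ KD ρ D := (KD ρ D).mul_mem hbD' ((KD ρ D).inv_mem hbD)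
  have htD : t ∈ KD ρ D := by
    apply KD_mono (D := U) le_sup_left
    intro v
    obtain ⟨a, x, y', z, ha, ha', hs⟩ := he.dec h4 v
    have : ρ t v - v = y' • ρ b e + z • ρ b (ρ b e) := by
      rw [hs]
      simp only [map_add, map_smul, ha, he.te, he.t2, he.t3]
      have h1 := three (y' • ρ b e)
      have h2 := three (z • ρ b (ρ b e))
      linear_combination (norm := module) -h1 - h2
    rw [this]
    exact U.add_mem (U.smul_mem _ heU2) (U.smul_mem _ heU3)
  have huD : u ∈ KD ρ D := by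
    apply KD_mono (D := U) le_sup_left
    intro v
    obtain ⟨a, x, y', z, ha, ha', hs⟩ := he.dec h4 v
    have : ρ u v - v = x • e + z • ρ b (ρ b e) := by
      rw [hs]
      simp only [map_add, map_smul, ha', he.ue, he.u2, he.u3]
      have h1 := three (x • e)
      have h2 := three (z • ρ b (ρ b e))
      linear_combination (norm := module) -h1 - h2
    rw [this]
    exact U.add_mem (U.smul_mem _ heU) (U.smul_mem _ heU3)
  have hfin : Module.finrank (ZMod 3) D ≤ 5 := by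
    have h1 : Module.finrank (ZMod 3) W ≤ 2 := finrank_span_pair_le _ _
    have h2 : Module.finrank (ZMod 3) (W.map (ρ y)) ≤ 2 := (Submodule.finrank_map_le _ _).trans h1
    have h3 : Module.finrank (ZMod 3) D ≤ Module.finrank (ZMod 3) U +
          Module.finrank (ZMod 3) (W.map (ρ y)) :=
      Submodule.finrank_add_le_finrank_add_finrank U (W.map (ρ y))
    have h4 : Module.finrank (ZMod 3) U ≤ 3 := finrank_triple _ _ _
    omega
  set X := R ⊓ KD ρ D with hX
  have hbX : ∀ x ∈ X, b * x * b⁻¹ ∈ X := fun x hx =>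
    ⟨hbR x hx.1, (KD ρ D).mul_mem ((KD ρ D).mul_mem hbD hx.2) ((KD ρ D).inv_mem hbD)⟩
  have hXn : zpowers b ≤ normalizer (X : Set S) := bnorm hP.b3 hbX
  have hXc : (Nat.card X).Coprime 3 :=
    Nat.Coprime.coprime_dvd_left (Subgroup.card_dvd_of_le inf_le_left) h3
  have hbcard : Nat.card (zpowers b) ∣ 3 := by
    rw [Nat.card_zpowers]
    exact orderOf_dvd_of_pow_eq_one (by rw [pow_succ, pow_two, hP.b3])
  have hcopX : (Nat.card (zpowers b)).Coprime (Nat.card X) :=
    Nat.Coprime.coprime_dvd_left hbcard hXc.symm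
  set R1 := ⁅X, zpowers b⁆ with hR1
  have hR1X : R1 ≤ X := H1.Coprime2.commutator_le_left hXn
  have hR1R : R1 ≤ ⁅R1, zpowers b⁆ := by
    have := H1.Coprime2.commutator_commutator_eq (zpowers b) X hXn hcopX (Or.inr inferInstance)
    rw [hR1, this]
  have hR1c : (Nat.card R1).Coprime 3 :=
    Nat.Coprime.coprime_dvd_left (Subgroup.card_dvd_of_le hR1X) hXc
  have hbR1 : ∀ x ∈ R1, b * x * b⁻¹ ∈ R1 := by
    intro x hx
    have := H1.Coprime2.le_normalizer_commutator_right X (zpowers b) (mem_zpowers b)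
    exact (Subgroup.mem_normalizer_iff.mp this x).mp hx
  have hcm : ∀ x ∈ X, x * b * x⁻¹ * b⁻¹ ∈ R1 := fun x hx =>
    Subgroup.commutator_mem_commutator hx (mem_zpowers b)
  have htX : t ∈ X := ⟨ht, htD⟩
  have huX : u ∈ X := ⟨hu, huD⟩
  have htu1 : t * u ∈ R1 := by
    have h1 := hcm t htX
    have h2 : t⁻¹ = t := inv_eq_of_mul_eq_one_left hP.tt
    have h5 : t * b * t⁻¹ * b⁻¹ = t * u := by
      rw [h2, mul_assoc t b t, hP.bt]; group
    rwa [h5] at h1
  have ht1 : t ∈ R1 := by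
    have h1 := hcm u huX
    have h2 : u⁻¹ = u := inv_eq_of_mul_eq_one_left hP.uu
    have h5 : u * b * u⁻¹ * b⁻¹ = t := by
      rw [h2, mul_assoc u b u, hP.bu]
      have h6 : u * (t * u) = t := by rw [← mul_assoc, hP.tu, mul_assoc, hP.uu, mul_one]
      calc u * (t * u * b) * b⁻¹ = u * (t * u) := by group
        _ = t := h6
    rwa [h5] at h1
  have hu1 : u ∈ R1 := by
    have h1 := R1.mul_mem ht1 htu1
    have h2 : t * (t * u) = u := by rw [← mul_assoc, hP.tt, one_mul]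
    rwa [h2] at h1
  set y0 := y * b * y⁻¹ * b⁻¹ with hy0
  have hy0X : y0 ∈ X := ⟨hYR hyY, hyD⟩
  have hy1R : y0 * b * y0⁻¹ * b⁻¹ ∈ R1 := hcm y0 hy0X
  have hy1Y : y0 * b * y0⁻¹ * b⁻¹ ∈ Y := hcomm y0 hyY
  have hy1ne : y0 * b * y0⁻¹ * b⁻¹ ≠ 1 := by
    intro hc
    obtain ⟨k', hk'⟩ := hypow y0 hyY
    apply hne
    apply no_comm hP.b3 hr h5 hk'
    rw [← hy0]
    calc b * y0 = (y0 * b * y0⁻¹ * b⁻¹)⁻¹ * y0 * b := by group
      _ = y0 * b := by rw [hc, inv_one, one_mul]
  set y1 := y0 * b * y0⁻¹ * b⁻¹ with hy1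
  set T := (Cfsg.pCore 2 R1).map R1.subtype with hT
  have hT2 : IsPGroup 2 T := (H1.Cores.isPGroup_pCore (G := R1) 2).map _
  have hTR1 : T ≤ R1 := map_subtype_le _
  have hTc : (Nat.card T).Coprime 3 :=
    Nat.Coprime.coprime_dvd_left (Subgroup.card_dvd_of_le hTR1) hR1c
  have hTD : T ≤ KD ρ D := hTR1.trans (hR1X.trans inf_le_right)
  have hTdvd := (card_dvd hρ T D hTD hTc).trans (card_GL5 hfin)
  have hf2 : Fact (Nat.Prime 2) := ⟨Nat.prime_two⟩
  obtain ⟨k, hk⟩ := IsPGroup.iff_card.mp hT2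
  have hk10 : k ≤ 10 := by
    by_contra hk10
    have h2 : 11 ≤ k := by omega
    have h3 : 2 ^ 11 ∣ 475566474240 := (pow_dvd_pow 2 h2).trans (hk ▸ hTdvd)
    norm_num at h3
  have hy1T : zpowers y1 ≤ normalizer (T : Set S) := by
    rw [zpowers_le, Subgroup.mem_normalizer_iff]
    have aux : ∀ z ∈ R1, ∀ x ∈ T, z * x * z⁻¹ ∈ T := by
      rintro z hz _ ⟨x, hx, rfl⟩
      exact ⟨(⟨z, hz⟩ : R1) * x * (⟨z, hz⟩ : R1)⁻¹,
            (H1.Cores.pCore_normal (G := R1) 2).conj_mem x hx ⟨z, hz⟩, rfl⟩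
    intro x
    constructor
    · exact aux y1 hy1R x
    · intro hx
      have := aux _ (R1.inv_mem hy1R) _ hx
      have e1 : y1⁻¹ * (y1 * x * y1⁻¹) * y1⁻¹⁻¹ = x := by group
      rwa [e1] at this
  have hzp13 : IsPGroup 13 (zpowers y1) := hY.to_le (by rw [zpowers_le]; exact hy1Y)
  have hmod := H65.PBasic2.card_modEq_card_inf_centralizer (p := 13) (zpowers y1) T hzp13 hy1T
  obtain ⟨a, ha⟩ := IsPGroup.iff_card.mp (hT2.to_le (inf_le_left (b := centralizer (zpowers y1 : Set S))))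
  have hak : 2 ^ a ≤ 2 ^ k := by
    rw [← ha, ← hk]
    exact Subgroup.card_le_of_le inf_le_left
  have hak' : a ≤ k := (Nat.pow_le_pow_iff_right (by norm_num)).mp hak
  have haeq : a = k := by
    rw [hk, ha] at hmod
    have key : ∀ k ≤ 10, ∀ a ≤ k, 2 ^ k ≡ 2 ^ a [MOD 13] → a = k := by decide
    exact key k hk10 a hak' hmod
  have hTeq : T ⊓ centralizer (zpowers y1 : Set S) = T := by
    apply Subgroup.eq_of_le_of_card_ge inf_le_left
    rw [ha, hk, haeq]
  have hy1in : y1 ∈ T := by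
    apply cent_two hρ hP hB hR1c hR1R hbR1 ht1 hu1 hy1R
    intro z hz
    change z ∈ T at hz
    rw [← hTeq] at hz
    exact Subgroup.mem_centralizer_iff.mp hz.2 y1 (mem_zpowers y1)
  apply hy1ne
  have h13 : y1 ∈ T ⊓ Y := ⟨hy1in, hy1Y⟩
  have hdis : T ⊓ Y = ⊥ := by
    apply disjoint_iff.mp
    apply Subgroup.disjoint_of_coprime_natCard
    rw [hk]
    obtain ⟨l, hl⟩ := IsPGroup.iff_card.mp hY
    rw [hl]
    exact Nat.Coprime.pow _ _ (by norm_num)
  rw [hdis, Subgroup.mem_bot] at h13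
  exact h13

end H1.FG19
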