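import Cfsg.Agent.Lib.H1.FGe
import Mathlib.GroupTheory.Nilpotent

set_option autoImplicit false

/-!
A 2-group with an automorphism of order three: a good elementary abelian normal section.
-/

namespace H1.FG19

open Subgroup

variable {S : Type*} [Group S]

theorem exists_omega [Finite S] (R N : Subgroup S) (hR : IsPGroup 2 R)
    (hn : ∀ g ∈ R, ∀ x ∈ N, g * x * g⁻¹ ∈ N) (hne : ∃ x ∈ R, x ∉ N) :
    ∃ x ∈ R, x ∉ N ∧ x * x ∈ N ∧ ∀ g ∈ R, g * x * g⁻¹ * x⁻¹ ∈ N := by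
  have hf2 : Fact (Nat.Prime 2) := ⟨Nat.prime_two⟩
  have hnor : (N.subgroupOf R).Normal := ⟨fun x hx g => by
    rw [Subgroup.mem_subgroupOf] at hx ⊢
    exact hn g g.2 x hx⟩
  have hnt : Nontrivial (R ⧸ N.subgroupOf R) := by
    obtain ⟨x, hx, hxN⟩ := hne
    refine ⟨⟨QuotientGroup.mk ⟨x, hx⟩, 1, ?_⟩⟩
    rw [Ne, QuotientGroup.eq_one_iff, Subgroup.mem_subgroupOf]
    exact hxN
  have hp : IsPGroup 2 (R ⧸ N.subgroupOf R) := hR.to_quotient _
  have hc := hp.center_nontrivial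
  have hpc : IsPGroup 2 (center (R ⧸ N.subgroupOf R)) := hp.to_subgroup _
  obtain ⟨k, hk⟩ := IsPGroup.iff_card.mp hpc
  have h2 : 2 ∣ Nat.card (center (R ⧸ N.subgroupOf R)) := by
    rw [hk]
    apply dvd_pow_self
    rintro rfl
    rw [pow_zero, Nat.card_eq_one_iff_unique] at hk
    exact not_subsingleton _ hk.1
  obtain ⟨⟨q, hq⟩, hord⟩ := exists_prime_orderOf_dvd_card' 2 h2
  obtain ⟨⟨x, hx⟩, rfl⟩ := QuotientGroup.mk_surjective q
  rw [← Subgroup.orderOf_coe] at hord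
  change orderOf (QuotientGroup.mk (⟨x, hx⟩ : R) : R ⧸ N.subgroupOf R) = 2 at hord
  refine ⟨x, hx, ?_, ?_, ?_⟩
  · intro hxN
    have : (QuotientGroup.mk (⟨x, hx⟩ : R) : R ⧸ N.subgroupOf R) = 1 := by
      rw [QuotientGroup.eq_one_iff, Subgroup.mem_subgroupOf]; exact hxN
    rw [this, orderOf_one] at hord
    omega
  · have h1 := pow_orderOf_eq_one (QuotientGroup.mk (⟨x, hx⟩ : R) : R ⧸ N.subgroupOf R)
    rw [hord, pow_two, ← QuotientGroup.mk_mul, QuotientGroup.eq_one_iff,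
      Subgroup.mem_subgroupOf] at h1
    exact h1
  · intro g hg
    have h1 := (Subgroup.mem_center_iff.mp hq) (QuotientGroup.mk (⟨g, hg⟩ : R))
    have h3 : (QuotientGroup.mk ((⟨g, hg⟩ : R) * ⟨x, hx⟩ * (⟨g, hg⟩ : R)⁻¹ * (⟨x, hx⟩ : R)⁻¹) :
        R ⧸ N.subgroupOf R) = 1 := by
      rw [QuotientGroup.mk_mul, QuotientGroup.mk_mul, QuotientGroup.mk_mul, h1,
        QuotientGroup.mk_inv, QuotientGroup.mk_inv]
      group
    rw [QuotientGroup.eq_one_iff, Subgroup.mem_subgroupOf] at h3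
    exact h3

/-- the central elements of `R` fixed by `b`. -/
def Zc (R : Subgroup S) (b : S) : Subgroup S :=
  (R ⊓ centralizer (R : Set S)) ⊓ centralizer ({b} : Set S)

theorem mem_Zc {R : Subgroup S} {b x : S} :
    x ∈ Zc R b ↔ x ∈ R ∧ (∀ g ∈ R, g * x = x * g) ∧ b * x = x * b := by
  unfold Zc
  rw [Subgroup.mem_inf, Subgroup.mem_inf, Subgroup.mem_centralizer_iff,
    Subgroup.mem_centralizer_iff]
  simp only [Set.mem_singleton_iff, forall_eq, SetLike.mem_coe, and_assoc]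

theorem key_cent {R : Subgroup S} {b : S} (hR : R ≤ ⁅R, zpowers b⁆) {y : S} (hy : y ∈ R)
    (hby : b * y = y * b) (h : ∀ g ∈ R, g * y * g⁻¹ * y⁻¹ ∈ Zc R b) : y ∈ Zc R b := by
  rw [mem_Zc]
  refine ⟨hy, ?_, hby⟩
  have hle : ⁅R, zpowers b⁆ ≤ centralizer ({y} : Set S) := by
    rw [Subgroup.commutator_le]
    intro g hg k hk
    refine Subgroup.mem_centralizer_iff.2 ?_
    intro x hx
    rw [Set.mem_singleton_iff] at hx
    subst hx
    have hk1 : ∀ c : S, b * c = c * b → k * c = c * k := by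
      intro c hc
      have : k ∈ centralizer ({c} : Set S) := by
        have h1 : b ∈ centralizer ({c} : Set S) := by
          refine Subgroup.mem_centralizer_iff.2 ?_
          intro d hd
          rw [Set.mem_singleton_iff] at hd
          rw [hd]; exact hc.symm
        exact (zpowers_le.mpr h1) hk
      exact (Subgroup.mem_centralizer_iff.mp this c rfl).symm
    have hkx := hk1 x hby
    obtain ⟨c, hc⟩ : ∃ c, c = g * x * g⁻¹ * x⁻¹ := ⟨_, rfl⟩
    have hcZ := h g hg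
    rw [← hc, mem_Zc] at hcZ
    have hkc := hk1 c hcZ.2.2
    have hgx : g * x = c * x * g := by rw [hc]; group
    have hgc := hcZ.2.1 g hg
    -- x commutes with g k g⁻¹ k⁻¹
    rw [commutatorElement_def]
    have e1 : g⁻¹ * x = c⁻¹ * x * g⁻¹ := by
      have h1 : x * g = c⁻¹ * (g * x) := by rw [hgx]; group
      have hgc' : g⁻¹ * c⁻¹ = c⁻¹ * g⁻¹ := by
        rw [← mul_inv_rev, ← mul_inv_rev, hgc]
      calc g⁻¹ * x = g⁻¹ * (x * g) * g⁻¹ := by group
        _ = g⁻¹ * c⁻¹ * g * x * g⁻¹ := by rw [h1]; group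
        _ = c⁻¹ * x * g⁻¹ := by rw [hgc']; group
    have hkx' : k⁻¹ * x = x * k⁻¹ := by
      calc k⁻¹ * x = k⁻¹ * (x * k) * k⁻¹ := by group
        _ = x * k⁻¹ := by rw [← hkx]; group
    have hkc' : k * c⁻¹ = c⁻¹ * k := by
      calc k * c⁻¹ = c⁻¹ * (c * k) * c⁻¹ := by group
        _ = c⁻¹ * k := by rw [← hkc]; group
    have hgc'' : g * c⁻¹ = c⁻¹ * g := by
      calc g * c⁻¹ = c⁻¹ * (c * g) * c⁻¹ := by group
        _ = c⁻¹ * g := by rw [← hgc]; group
    have : g * k * g⁻¹ * k⁻¹ * x = x * (g * k * g⁻¹ * k⁻¹) := by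
      calc g * k * g⁻¹ * k⁻¹ * x = g * k * g⁻¹ * (k⁻¹ * x) := by group
        _ = g * k * (g⁻¹ * x) * k⁻¹ := by rw [hkx']; group
        _ = g * (k * c⁻¹) * x * g⁻¹ * k⁻¹ := by rw [e1]; group
        _ = g * c⁻¹ * (k * x) * g⁻¹ * k⁻¹ := by rw [hkc']; group
        _ = c⁻¹ * (g * x) * k * g⁻¹ * k⁻¹ := by rw [hgc'', hkx]; group
        _ = x * (g * k * g⁻¹ * k⁻¹) := by rw [hgx]; group
    exact this.symm
  intro g hg
  exact (Subgroup.mem_centralizer_iff.mp (hle (hR hg)) y rfl).symm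

theorem cube_one {R : Subgroup S} (h2 : IsPGroup 2 R) {c : S} (hc : c ∈ R) (h3 : c * c * c = 1) :
    c = 1 := by
  obtain ⟨k, hk⟩ := h2 ⟨c, hc⟩
  have hk' : c ^ 2 ^ k = 1 := congrArg Subtype.val hk
  have h4 : orderOf c ∣ 3 := orderOf_dvd_of_pow_eq_one (by rw [pow_succ, pow_two, h3])
  have h6 : orderOf c ∣ 2 ^ k := orderOf_dvd_of_pow_eq_one hk'
  exact orderOf_eq_one_iff.mp
    (Nat.eq_one_of_dvd_coprimes (Nat.Coprime.pow_left k (by norm_num)) h6 h4)

theorem coset {R : Subgroup S} (h2 : IsPGroup 2 R) {b : S} (hb : b * b * b = 1) {y c : S}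
    (hc : c ∈ Zc R b) (h : b * y * b⁻¹ * y⁻¹ = c) : b * y = y * b := by
  have hcb := (mem_Zc.mp hc).2.2
  have h1 : b * y = c * y * b := by rw [← h]; group
  have h3 : (b * b * b) * y = c * c * c * y * (b * b * b) := by
    calc (b * b * b) * y = b * b * (b * y) := by group
      _ = b * (b * c) * y * b := by rw [h1]; group
      _ = b * (c * b) * y * b := by rw [hcb]
      _ = (b * c) * (b * y) * b := by group
      _ = (c * b) * (c * y * b) * b := by rw [hcb, h1]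
      _ = c * (b * c) * y * b * b := by group
      _ = c * (c * b) * y * b * b := by rw [hcb]
      _ = c * c * (b * y) * b * b := by group
      _ = c * c * c * y * (b * b * b) := by rw [h1]; group
  rw [hb, one_mul, mul_one] at h3
  have h4 : c * c * c = 1 := by
    have := mul_eq_right.mp h3.symm
    exact this
  have h5 := cube_one h2 (mem_Zc.mp hc).1 h4
  rw [h1, h5, one_mul]

/-- the subgroup `Y` of elements `y` with `y² ∈ Z`, `[R, y] ≤ Z`. -/
def Yc (R : Subgroup S) (b : S) : Subgroup S where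
  carrier := {y | y ∈ R ∧ y * y ∈ Zc R b ∧ ∀ g ∈ R, g * y * g⁻¹ * y⁻¹ ∈ Zc R b}
  one_mem' := ⟨R.one_mem, by rw [one_mul]; exact one_mem _, fun g _ => by
    have : g * 1 * g⁻¹ * 1⁻¹ = 1 := by group
    rw [this]; exact one_mem _⟩
  mul_mem' := by
    rintro x y ⟨hx1, hx2, hx3⟩ ⟨hy1, hy2, hy3⟩
    refine ⟨R.mul_mem hx1 hy1, ?_, ?_⟩
    · have hc := hx3 y hy1
      obtain ⟨c, hcc⟩ : ∃ c, c = y * x * y⁻¹ * x⁻¹ := ⟨_, rfl⟩
      rw [← hcc] at hc
      have h1 : y * x = c * x * y := by rw [hcc]; group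
      have h2 := (mem_Zc.mp hc).2.1 x hx1
      have : x * y * (x * y) = c * (x * x) * (y * y) := by
        calc x * y * (x * y) = x * (y * x) * y := by group
          _ = (x * c) * x * y * y := by rw [h1]; group
          _ = _ := by rw [h2]; group
      rw [this]
      exact mul_mem (mul_mem hc hx2) hy2
    · intro g hg
      have hc := hx3 g hg
      have hd := hy3 g hg
      obtain ⟨d, hdd⟩ : ∃ d, d = g * y * g⁻¹ * y⁻¹ := ⟨_, rfl⟩
      rw [← hdd] at hd
      have h1 : g * y * g⁻¹ = d * y := by rw [hdd]; group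
      have h2 := (mem_Zc.mp hd).2.1 x hx1
      have : g * (x * y) * g⁻¹ * (x * y)⁻¹ = (g * x * g⁻¹ * x⁻¹) * d := by
        calc g * (x * y) * g⁻¹ * (x * y)⁻¹ = g * x * g⁻¹ * (g * y * g⁻¹) * y⁻¹ * x⁻¹ := by group
          _ = g * x * g⁻¹ * (d * x⁻¹) := by rw [h1]; group
          _ = g * x * g⁻¹ * (x⁻¹ * (x * d) * x⁻¹) := by group
          _ = _ := by rw [h2]; group
      rw [this]
      exact mul_mem hc hd
  inv_mem' := by
    rintro x ⟨hx1, hx2, hx3⟩
    refine ⟨R.inv_mem hx1, ?_, ?_⟩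
    · rw [← mul_inv_rev]; exact inv_mem hx2
    · intro g hg
      have hc := hx3 g hg
      obtain ⟨c, hcc⟩ : ∃ c, c = g * x * g⁻¹ * x⁻¹ := ⟨_, rfl⟩
      rw [← hcc] at hc
      have h1 : g * x * g⁻¹ = c * x := by rw [hcc]; group
      have h2 := (mem_Zc.mp hc).2.1 x hx1
      have : g * x⁻¹ * g⁻¹ * x⁻¹⁻¹ = c⁻¹ := by
        calc g * x⁻¹ * g⁻¹ * x⁻¹⁻¹ = (g * x * g⁻¹)⁻¹ * x := by group
          _ = (c * x)⁻¹ * x := by rw [h1]
          _ = (x * c)⁻¹ * x := by rw [h2]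
          _ = c⁻¹ := by group
      rw [this]
      exact inv_mem hc

theorem mem_Yc {R : Subgroup S} {b y : S} :
    y ∈ Yc R b ↔ y ∈ R ∧ y * y ∈ Zc R b ∧ ∀ g ∈ R, g * y * g⁻¹ * y⁻¹ ∈ Zc R b := Iff.rfl

theorem Zc_le_Yc {R : Subgroup S} {b : S} : Zc R b ≤ Yc R b := by
  intro x hx
  rw [mem_Yc]
  refine ⟨(mem_Zc.mp hx).1, mul_mem hx hx, ?_⟩
  intro g hg
  have : g * x * g⁻¹ * x⁻¹ = 1 := by
    rw [(mem_Zc.mp hx).2.1 g hg]; group
  rw [this]; exact one_mem _

theorem Yc_b {R : Subgroup S} {b : S} (hb : b * b * b = 1) (hbR : ∀ x ∈ R, b * x * b⁻¹ ∈ R)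
    {y : S} (hy : y ∈ Yc R b) : b * y * b⁻¹ ∈ Yc R b := by
  rw [mem_Yc] at hy ⊢
  obtain ⟨h1, h2, h3⟩ := hy
  refine ⟨hbR y h1, ?_, ?_⟩
  · have : b * y * b⁻¹ * (b * y * b⁻¹) = y * y := by
      calc b * y * b⁻¹ * (b * y * b⁻¹) = (b * (y * y)) * b⁻¹ := by group
        _ = y * y := by rw [(mem_Zc.mp h2).2.2]; group
    rw [this]; exact h2
  · intro g hg
    have h4 := h3 _ (binv hb hbR g hg)
    have : g * (b * y * b⁻¹) * g⁻¹ * (b * y * b⁻¹)⁻¹ = b⁻¹ * g * b * y * (b⁻¹ * g * b)⁻¹ * y⁻¹ := by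
      calc g * (b * y * b⁻¹) * g⁻¹ * (b * y * b⁻¹)⁻¹
          = (b * (b⁻¹ * g * b * y * (b⁻¹ * g * b)⁻¹ * y⁻¹)) * b⁻¹ := by group
        _ = _ := by rw [(mem_Zc.mp h4).2.2]; group
    rw [this]
    exact h4

theorem fixY [Finite S] {R : Subgroup S} (h2 : IsPGroup 2 R) {b : S} (hb : b * b * b = 1)
    (hR : R ≤ ⁅R, zpowers b⁆) {y : S} (hy : y ∈ Yc R b)
    (h : b * y * b⁻¹ * y⁻¹ ∈ Zc R b) : y ∈ Zc R b :=
  key_cent hR (mem_Yc.mp hy).1 (coset h2 hb h rfl) (mem_Yc.mp hy).2.2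

theorem exists_sq [Finite S] {R : Subgroup S} (h2 : IsPGroup 2 R) {b z : S} (hb : b * b * b = 1)
    (hbR : ∀ x ∈ R, b * x * b⁻¹ ∈ R) (hR : R ≤ ⁅R, zpowers b⁆)
    (hz : ∀ x ∈ Zc R b, x = 1 ∨ x = z) {t : S} (ht : t ∈ R) (htt : t * t = 1) (hbt : b * t ≠ t * b) :
    ∃ y ∈ Yc R b, y ∉ Zc R b ∧ y * y = 1 := by
  have hcz : ∀ c ∈ Zc R b, ∀ g ∈ R, g * c = c * g := fun c hc => (mem_Zc.mp hc).2.1
  have hbz : ∀ c ∈ Zc R b, b * c = c * b := fun c hc => (mem_Zc.mp hc).2.2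
  have hZR : Zc R b ≤ R := fun c hc => (mem_Zc.mp hc).1
  have hsq : ∀ c ∈ Zc R b, c * c = 1 := by
    intro c hc
    rcases hz _ (mul_mem hc hc) with h | h
    · exact h
    · rcases hz c hc with h' | h'
      · rw [h', one_mul]
      · have : c * c = c := by rw [h, h']
        have h1 : c = 1 := mul_eq_left.mp this
        rw [h1, one_mul]
  have htZ : t ∉ Zc R b := fun h => hbt (hbz t h)
  have hZn : ∀ g ∈ R, ∀ x ∈ Zc R b, g * x * g⁻¹ ∈ Zc R b := by
    intro g hg x hx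
    rw [hcz x hx g hg]
    have : x * g * g⁻¹ = x := by group
    rw [this]; exact hx
  obtain ⟨y, hyR, hyZ, hyy, hyc⟩ := exists_omega R (Zc R b) h2 hZn ⟨t, ht, htZ⟩
  have hyY : y ∈ Yc R b := ⟨hyR, hyy, hyc⟩
  by_cases h1 : y * y = 1
  · exact ⟨y, hyY, hyZ, h1⟩
  have hyz : y * y = z := (hz _ hyy).resolve_left h1
  have hzZ : z ∈ Zc R b := hyz ▸ hyy
  have hz1 : z ≠ 1 := hyz ▸ h1
  have hzz : z * z = 1 := hsq z hzZ
  obtain ⟨y', hy'⟩ : ∃ y', y' = b * y * b⁻¹ := ⟨_, rfl⟩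
  have hy'Y : y' ∈ Yc R b := hy' ▸ Yc_b hb hbR hyY
  have hy'R : y' ∈ R := hy'Y.1
  have hy'z : y' * y' = z := by
    rw [hy']
    calc b * y * b⁻¹ * (b * y * b⁻¹) = b * (y * y) * b⁻¹ := by group
      _ = z := by rw [hyz, hbz z hzZ]; group
  by_cases hcom : y * y' = y' * y
  · refine ⟨y * y', mul_mem hyY hy'Y, ?_, ?_⟩
    · intro hc
      apply hyZ
      apply fixY h2 hb hR hyY
      rw [← hy']
      have : y' * y⁻¹ = (y * y') * (y * y)⁻¹ := by rw [hcom]; group
      rw [this]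
      exact mul_mem hc (inv_mem hyy)
    · calc y * y' * (y * y') = y * (y' * y) * y' := by group
        _ = (y * y) * (y' * y') := by rw [← hcom]; group
        _ = 1 := by rw [hyz, hy'z, hzz]
  -- quaternion case
  have hyy'z : y * y' * y⁻¹ * y'⁻¹ = z := by
    have h3 := hy'Y.2.2 y hyR
    rcases hz _ h3 with h | h
    · exfalso
      apply hcom
      calc y * y' = (y * y' * y⁻¹ * y'⁻¹) * y' * y := by group
        _ = y' * y := by rw [h, one_mul]
    · exact h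
  have hyy'c : y * y' = z * y' * y := by rw [← hyy'z]; group
  have hzy : z * y = y * z := (hcz z hzZ y hyR).symm
  have hzy' : z * y' = y' * z := (hcz z hzZ y' hy'R).symm
  have hy'y : y' * y = z * (y * y') := by
    rw [hyy'c]
    calc y' * y = 1 * y' * y := by group
      _ = _ := by rw [← hzz]; group
  let C : Subgroup S := (R ⊓ centralizer ({y} : Set S)) ⊓ centralizer ({y'} : Set S)
  have memC : ∀ x, x ∈ C ↔ x ∈ R ∧ y * x = x * y ∧ y' * x = x * y' := by
    intro x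
    change x ∈ (R ⊓ centralizer ({y} : Set S)) ⊓ centralizer ({y'} : Set S) ↔ _
    rw [Subgroup.mem_inf, Subgroup.mem_inf, Subgroup.mem_centralizer_iff,
      Subgroup.mem_centralizer_iff]
    simp only [Set.mem_singleton_iff, forall_eq, and_assoc]
  have hZC : Zc R b ≤ C := by
    intro x hx
    rw [memC]
    exact ⟨hZR hx, hcz x hx y hyR, hcz x hx y' hy'R⟩
  have hy1 : y⁻¹ = z * y := by
    apply inv_eq_of_mul_eq_one_left
    rw [mul_assoc, hyz, hzz]
  have hy1' : y'⁻¹ = z * y' := by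
    apply inv_eq_of_mul_eq_one_left
    rw [mul_assoc, hy'z, hzz]
  -- decomposition
  have hdec : ∀ g ∈ R, g ∈ C ∨ y * g ∈ C ∨ y' * g ∈ C ∨ y * y' * g ∈ C := by
    intro g hg
    have hzg : g * z = z * g := hcz z hzZ g hg
    have ha : g * y = y * g ∨ g * y = z * (y * g) := by
      rcases hz _ (hyc g hg) with h | h
      · left
        calc g * y = (g * y * g⁻¹ * y⁻¹) * y * g := by group
          _ = y * g := by rw [h, one_mul]
      · right
        calc g * y = (g * y * g⁻¹ * y⁻¹) * y * g := by group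
          _ = z * (y * g) := by rw [h, mul_assoc]
    have ha' : g * y' = y' * g ∨ g * y' = z * (y' * g) := by
      rcases hz _ (hy'Y.2.2 g hg) with h | h
      · left
        calc g * y' = (g * y' * g⁻¹ * y'⁻¹) * y' * g := by group
          _ = y' * g := by rw [h, one_mul]
      · right
        calc g * y' = (g * y' * g⁻¹ * y'⁻¹) * y' * g := by group
          _ = z * (y' * g) := by rw [h, mul_assoc]
    have hzcan : ∀ x : S, z * (z * x) = x := fun x => by rw [← mul_assoc, hzz, one_mul]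
    have hzy2 : ∀ x : S, y * (z * x) = z * (y * x) := fun x => by
      rw [← mul_assoc, ← hzy, mul_assoc]
    have hzy2' : ∀ x : S, y' * (z * x) = z * (y' * x) := fun x => by
      rw [← mul_assoc, ← hzy', mul_assoc]
    have hsw : ∀ x : S, y' * (y * x) = z * (y * (y' * x)) := fun x => by
      rw [← mul_assoc, hy'y]; group
    rcases ha with ha | ha <;> rcases ha' with ha' | ha'
    · left
      rw [memC]; exact ⟨hg, ha.symm, ha'.symm⟩
    · right; left
      rw [memC]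
      refine ⟨mul_mem hyR hg, ?_, ?_⟩
      · rw [mul_assoc, ha]
      · rw [mul_assoc, ha', hzy2, hsw]
    · right; right; left
      rw [memC]
      refine ⟨mul_mem hy'R hg, ?_, ?_⟩
      · rw [mul_assoc, ha, hzy2', hsw, hzcan]
      · rw [mul_assoc, ha']
    · right; right; right
      rw [memC]
      refine ⟨mul_mem (mul_mem hyR hy'R) hg, ?_, ?_⟩
      · rw [mul_assoc, mul_assoc, mul_assoc, ha, hzy2', hzy2, hsw, hzy2, hzcan]
      · rw [mul_assoc, mul_assoc, mul_assoc, ha', hzy2', hzy2, hsw]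
  -- C is bigger than Z
  have hCne : ∃ c ∈ C, c ∉ Zc R b := by
    by_contra hcon
    push Not at hcon
    have hkey : ∀ w : S, w * w = z → w ∈ R → w * t ∈ C → False := by
      intro w hw hwR hc
      have h3 := hcon _ hc
      have h4 := hsq _ h3
      have h5 := hcz _ h3 w hwR
      -- t = w⁻¹ c
      have h6 : t * t = w⁻¹ * w⁻¹ * ((w * t) * (w * t)) := by
        have h7 : w⁻¹ * (w * t) = (w * t) * w⁻¹ := by
          calc w⁻¹ * (w * t) = w⁻¹ * ((w * t) * w) * w⁻¹ := by group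
            _ = (w * t) * w⁻¹ := by rw [← h5]; group
        calc t * t = (w⁻¹ * (w * t)) * (w⁻¹ * (w * t)) := by group
          _ = ((w * t) * w⁻¹) * (w⁻¹ * (w * t)) := by rw [h7]
          _ = (w * t) * w⁻¹ * ((w * t) * w⁻¹) := by rw [h7]
          _ = (w * t) * (w⁻¹ * (w * t)) * w⁻¹ := by group
          _ = (w * t) * ((w * t) * w⁻¹) * w⁻¹ := by rw [h7]
          _ = ((w * t) * (w * t)) * (w⁻¹ * w⁻¹) := by group
          _ = _ := by rw [h4, one_mul, mul_one]
      rw [h4, mul_one, htt, ← mul_inv_rev, hw] at h6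
      exact hz1 (inv_eq_one.mp h6.symm)
    have hyy'2 : y * y' * (y * y') = z := by
      calc y * y' * (y * y') = y * (y' * y) * y' := by group
        _ = (y * z) * y * (y' * y') := by rw [hy'y]; group
        _ = z * (y * y) * (y' * y') := by rw [← hzy]; group
        _ = z := by rw [hyz, hy'z, hzz, one_mul]
    rcases hdec t ht with h | h | h | h
    · exact htZ (hcon t h)
    · exact hkey y hyz hyR h
    · exact hkey y' hy'z hy'R h
    · exact hkey (y * y') hyy'2 (mul_mem hyR hy'R) h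
  have hCR : C ≤ R := fun x hx => ((memC x).mp hx).1
  have hZnC : ∀ g ∈ C, ∀ x ∈ Zc R b, g * x * g⁻¹ ∈ Zc R b := fun g hg x hx => hZn g (hCR hg) x hx
  obtain ⟨c, hcC, hcZ, hcc, hccom⟩ := exists_omega C (Zc R b) (h2.to_le hCR) hZnC hCne
  have hcm := (memC c).mp hcC
  have hcY : c ∈ Yc R b := by
    refine ⟨hcm.1, hcc, ?_⟩
    intro g hg
    have hw : ∀ w : S, w * c = c * w → w ∈ R → w * g ∈ C → g * c * g⁻¹ * c⁻¹ ∈ Zc R b := by
      intro w hwc hwR hwg
      have h3 := hccom _ hwg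
      obtain ⟨d, hd⟩ : ∃ d, d = w * g * c * (w * g)⁻¹ * c⁻¹ := ⟨_, rfl⟩
      rw [← hd] at h3
      have h4 : w⁻¹ * c = c * w⁻¹ := by
        calc w⁻¹ * c = w⁻¹ * (c * w) * w⁻¹ := by group
          _ = c * w⁻¹ := by rw [← hwc]; group
      have h5 : w⁻¹ * d = d * w⁻¹ := hcz d h3 _ (inv_mem hwR)
      have : g * c * g⁻¹ * c⁻¹ = d := by
        calc g * c * g⁻¹ * c⁻¹ = w⁻¹ * (w * g * c * (w * g)⁻¹ * c⁻¹) * (c * w * c⁻¹) := by group
          _ = w⁻¹ * d * (c * w * c⁻¹) := by rw [← hd]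
          _ = d * w⁻¹ * (c * w * c⁻¹) := by rw [h5]
          _ = d := by rw [← hwc]; group
      rw [this]; exact h3
    have hyc' : y * c = c * y := hcm.2.1
    have hy'c' : y' * c = c * y' := hcm.2.2
    rcases hdec g hg with h | h | h | h
    · exact hccom g h
    · exact hw y hyc' hyR h
    · exact hw y' hy'c' hy'R h
    · refine hw (y * y') ?_ (mul_mem hyR hy'R) h
      rw [mul_assoc, hy'c', ← mul_assoc, hyc', mul_assoc]
  by_cases hc1 : c * c = 1
  · exact ⟨c, hcY, hcZ, hc1⟩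
  have hccz : c * c = z := (hz _ hcc).resolve_left hc1
  refine ⟨c * y, mul_mem hcY hyY, ?_, ?_⟩
  · intro h
    apply hcom
    have h3 : y ∈ C := by
      have : y = c⁻¹ * (c * y) := by group
      rw [this]
      exact mul_mem (inv_mem hcC) (hZC h)
    exact ((memC y).mp h3).2.2.symm
  · calc c * y * (c * y) = c * (y * c) * y := by group
      _ = (c * c) * (y * y) := by rw [hcm.2.1]; group
      _ = 1 := by rw [hccz, hyz, hzz]

theorem exists_a [Finite S] {R : Subgroup S} (h2 : IsPGroup 2 R) {b z : S} (hb : b * b * b = 1)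
    (hbR : ∀ x ∈ R, b * x * b⁻¹ ∈ R) (hR : R ≤ ⁅R, zpowers b⁆)
    (hz : ∀ x ∈ Zc R b, x = 1 ∨ x = z) {t : S} (ht : t ∈ R) (htt : t * t = 1) (hbt : b * t ≠ t * b) :
    ∃ a ∈ R, a ∉ Zc R b ∧ Pair b a (b * a * b⁻¹) ∧ ∀ g ∈ R, g * a * g⁻¹ * a⁻¹ ∈ Zc R b := by
  have hcz : ∀ c ∈ Zc R b, ∀ g ∈ R, g * c = c * g := fun c hc => (mem_Zc.mp hc).2.1
  have hbz : ∀ c ∈ Zc R b, b * c = c * b := fun c hc => (mem_Zc.mp hc).2.2
  have hsq : ∀ c ∈ Zc R b, c * c = 1 := by
    intro c hc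
    rcases hz _ (mul_mem hc hc) with h | h
    · exact h
    · rcases hz c hc with h' | h'
      · rw [h', one_mul]
      · have : c * c = c := by rw [h, h']
        have h1 : c = 1 := mul_eq_left.mp this
        rw [h1, one_mul]
  obtain ⟨y, hyY, hyZ, hyy⟩ := exists_sq h2 hb hbR hR hz ht htt hbt
  obtain ⟨y', hy'⟩ : ∃ y', y' = b * y * b⁻¹ := ⟨_, rfl⟩
  obtain ⟨y'', hy''⟩ : ∃ y'', y'' = b * y' * b⁻¹ := ⟨_, rfl⟩
  have hy'Y : y' ∈ Yc R b := hy' ▸ Yc_b hb hbR hyY
  have hy''Y : y'' ∈ Yc R b := hy'' ▸ Yc_b hb hbR hy'Y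
  have hb3 : b * y'' * b⁻¹ = y := by
    rw [hy'', hy']
    calc b * (b * (b * y * b⁻¹) * b⁻¹) * b⁻¹ = (b * b * b) * y * (b * b * b)⁻¹ := by group
      _ = y := by rw [hb, one_mul, inv_one, mul_one]
  have hy'1 : y' * y' = 1 := by
    rw [hy']
    calc b * y * b⁻¹ * (b * y * b⁻¹) = b * (y * y) * b⁻¹ := by group
      _ = 1 := by rw [hyy]; group
  have hy''1 : y'' * y'' = 1 := by
    rw [hy'']
    calc b * y' * b⁻¹ * (b * y' * b⁻¹) = b * (y' * y') * b⁻¹ := by group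
      _ = 1 := by rw [hy'1]; group
  obtain ⟨p, hp⟩ : ∃ p, p = y * y' * y'' := ⟨_, rfl⟩
  have hpY : p ∈ Yc R b := by rw [hp]; exact mul_mem (mul_mem hyY hy'Y) hy''Y
  have hpb : b * p * b⁻¹ = y⁻¹ * p * y := by
    rw [hp]
    calc b * (y * y' * y'') * b⁻¹ = (b * y * b⁻¹) * (b * y' * b⁻¹) * (b * y'' * b⁻¹) := by group
      _ = y' * y'' * y := by rw [hb3, ← hy', ← hy'']
      _ = _ := by group
  have hpZ : p ∈ Zc R b := by
    apply fixY h2 hb hR hpY
    rw [hpb]
    have := hpY.2.2 y⁻¹ (inv_mem hyY.1)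
    rw [inv_inv] at this
    exact this
  have hpp := hsq p hpZ
  have hyi : y⁻¹ = y := inv_eq_of_mul_eq_one_left hyy
  have hyi' : y'⁻¹ = y' := inv_eq_of_mul_eq_one_left hy'1
  have hy''e : y'' = y' * y * p := by
    rw [hp]
    calc y'' = y'⁻¹ * y⁻¹ * (y * y' * y'') := by group
      _ = _ := by rw [hyi, hyi']
  have hpy : y * p = p * y := hcz p hpZ y hyY.1
  have hpy' : y' * p = p * y' := hcz p hpZ y' hy'Y.1
  have hcom : y' * y = y * y' := by
    have h1 : y' * y * (y' * y) = 1 := by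
      have h3 := hy''1
      rw [hy''e] at h3
      calc y' * y * (y' * y) = y' * y * (y' * y) * (p * p) := by rw [hpp, mul_one]
        _ = y' * y * y' * (y * p) * p := by group
        _ = y' * y * (y' * p) * y * p := by rw [hpy]; group
        _ = y' * (y * p) * y' * y * p := by rw [hpy']; group
        _ = y' * y * p * (y' * y * p) := by group
        _ = 1 := h3
    calc y' * y = (y * y') * (y * y')⁻¹ * (y' * y) := by group
      _ = (y * y') * (y'⁻¹ * y⁻¹ * (y' * y)) := by group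
      _ = (y * y') * (y' * y * (y' * y)) := by rw [hyi, hyi']
      _ = y * y' := by rw [h1, mul_one]
  have hbp := hbz p hpZ
  have hba : b * (y * p) * b⁻¹ = y' * p := by
    rw [hy']
    calc b * (y * p) * b⁻¹ = b * y * b⁻¹ * (b * p) * b⁻¹ := by group
      _ = _ := by rw [hbp]; group
  refine ⟨y * p, mul_mem hyY.1 (mem_Zc.mp hpZ).1, ?_, ?_, ?_⟩
  · intro h
    apply hyZ
    have : y = y * p * p⁻¹ := by group
    rw [this]
    exact mul_mem h (inv_mem hpZ)
  · rw [hba]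
    have hc1 : y * p * (y' * p) = y * y' := by
      calc y * p * (y' * p) = y * (p * y') * p := by group
        _ = y * y' * (p * p) := by rw [← hpy']; group
        _ = y * y' := by rw [hpp, mul_one]
    have hc2 : y' * p * (y * p) = y' * y := by
      calc y' * p * (y * p) = y' * (p * y) * p := by group
        _ = y' * y * (p * p) := by rw [← hpy]; group
        _ = y' * y := by rw [hpp, mul_one]
    refine ⟨hb, ?_, ?_, ?_, ?_, ?_, ?_⟩
    · calc y * p * (y * p) = y * (p * y) * p := by group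
        _ = (y * y) * (p * p) := by rw [← hpy]; group
        _ = 1 := by rw [hyy, hpp, one_mul]
    · calc y' * p * (y' * p) = y' * (p * y') * p := by group
        _ = (y' * y') * (p * p) := by rw [← hpy']; group
        _ = 1 := by rw [hy'1, hpp, one_mul]
    · rw [hc1, hc2, hcom]
    · intro h
      apply hyZ
      have : y = p⁻¹ := eq_inv_of_mul_eq_one_left h
      rw [this]
      exact inv_mem hpZ
    · rw [← hba]; group
    · rw [hc1]
      calc b * (y' * p) = (b * y' * b⁻¹) * (b * p) := by group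
        _ = y'' * (p * b) := by rw [← hy'', hbp]
        _ = y' * y * (p * p) * b := by rw [hy''e]; group
        _ = y * y' * b := by rw [hpp, mul_one, hcom]
  · exact (mul_mem hyY (Zc_le_Yc hpZ) : y * p ∈ Yc R b).2.2

end H1.FG19
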