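import Cfsg.Agent.Lib.H1.FGg
import Mathlib.LinearAlgebra.Transvection.Basic
import Mathlib.LinearAlgebra.Dual.Lemmas

set_option autoImplicit false

/-!
The two final cases.
-/

namespace H1.FG19

open Subgroup

variable {S : Type*} [Group S] {E : Type*} [AddCommGroup E] [Module (ZMod 3) E]
  {ρ : Representation (ZMod 3) S E}

/-- an element commuting with `R` and `b` acts on `F0` as a scalar. -/
theorem scal [Finite S] {b t u : S} (hρ : Function.Injective ρ) (hP : Pair b t u)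
    {e : E} (he : Q4R (ρ t) (ρ u) (ρ b) e) {R : Subgroup S} (h3 : (Nat.card R).Coprime 3)
    (hR : R ≤ ⁅R, zpowers b⁆) (hbR : ∀ x ∈ R, b * x * b⁻¹ ∈ R) (ht : t ∈ R) (hu : u ∈ R)
    {x : S} (hx : ∀ g ∈ R, g * x = x * g) (hbx : b * x = x * b) :
    (∀ v ∈ F0 ρ R, ρ x v = v) ∨ (∀ v ∈ F0 ρ R, ρ x v = -v) := by
  have heF := e_mem_F0 he hu
  obtain ⟨c, hc⟩ := he.l1 (ρ x e) (by rw [← rmul, hx t ht, rmul, he.te])
    (by rw [← rmul, hx u hu, rmul, he.ue, map_neg])
  have key : ∀ v ∈ F0 ρ R, ρ x v = c • v := by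
    let N : Submodule (ZMod 3) E :=
      { carrier := {v | v ∈ F0 ρ R ∧ ρ x v = c • v}
        zero_mem' := ⟨Submodule.zero_mem _, by rw [map_zero, smul_zero]⟩
        add_mem' := by
          rintro v w ⟨h1, h2⟩ ⟨h3, h4⟩
          exact ⟨Submodule.add_mem _ h1 h3, by rw [map_add, h2, h4, smul_add]⟩
        smul_mem' := by
          rintro d v ⟨h1, h2⟩
          exact ⟨Submodule.smul_mem _ _ h1, by rw [map_smul, h2, smul_comm]⟩ }
    have hN1 : ∀ r ∈ R, ∀ v ∈ N, ρ r v ∈ N := by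
      rintro r hr v ⟨h1, h2⟩
      refine ⟨F0_inv (fun x hx => R.mul_mem (R.mul_mem hr hx) (R.inv_mem hr)) h1, ?_⟩
      rw [← rmul, ← hx r hr, rmul, h2, map_smul]
    have hN2 : ∀ v ∈ N, ρ b v ∈ N := by
      rintro v ⟨h1, h2⟩
      refine ⟨F0_inv hbR h1, ?_⟩
      rw [← rmul, ← hbx, rmul, h2, map_smul]
    rcases irred hρ hP he h3 hR ht hu (N := N) (fun v hv => hv.1) hN1 hN2 with h | ⟨_, h⟩
    · exfalso
      have : e ∈ N := ⟨heF, hc⟩
      rw [h, Submodule.mem_bot] at this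
      exact he.ne this
    · intro v hv
      rw [← h] at hv
      exact hv.2
  rcases zcases c with h | h | h
  · exfalso
    rw [h, zero_smul] at hc
    apply he.ne
    rw [← rinv ρ x e, hc, map_zero]
  · left
    intro v hv
    rw [key v hv, h, one_smul]
  · right
    intro v hv
    rw [key v hv, h, neg_smul, one_smul]

theorem eq_of_F0 [Finite S] (hρ : Function.Injective ρ) {R : Subgroup S}
    (h3 : (Nat.card R).Coprime 3) {g h : S} (hg : g ∈ R) (hh : h ∈ R)
    (heq : ∀ v ∈ F0 ρ R, ρ g v = ρ h v) : g = h := by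
  have h1 : h⁻¹ * g = 1 := by
    apply faithful_R hρ h3 (mul_mem (inv_mem hh) hg)
    intro v hv
    rw [rmul, heq v hv, rinv]
  rw [← mul_one h, ← h1]; group

theorem exists_z [Finite S] {b t u : S} (hρ : Function.Injective ρ) (hP : Pair b t u)
    {e : E} (he : Q4R (ρ t) (ρ u) (ρ b) e) {R : Subgroup S} (h3 : (Nat.card R).Coprime 3)
    (hR : R ≤ ⁅R, zpowers b⁆) (hbR : ∀ x ∈ R, b * x * b⁻¹ ∈ R) (ht : t ∈ R) (hu : u ∈ R) :
    ∃ z ∈ Zc R b, (∀ x ∈ Zc R b, x = 1 ∨ x = z) ∧ z * z = 1 ∧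
      (z ≠ 1 → ∀ v ∈ F0 ρ R, ρ z v = -v) := by
  have hm : ∀ x ∈ Zc R b, x ≠ 1 → ∀ v ∈ F0 ρ R, ρ x v = -v := by
    intro x hx hx1
    have hx' := mem_Zc.mp hx
    rcases scal hρ hP he h3 hR hbR ht hu hx'.2.1 hx'.2.2 with h | h
    · exact absurd (faithful_R hρ h3 hx'.1 h) hx1
    · exact h
  by_cases hex : ∃ z ∈ Zc R b, z ≠ 1
  · obtain ⟨z, hz, hz1⟩ := hex
    refine ⟨z, hz, ?_, ?_, fun h => hm z hz h⟩
    · intro x hx
      by_cases hx1 : x = 1
      · exact Or.inl hx1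
      right
      apply eq_of_F0 hρ h3 (mem_Zc.mp hx).1 (mem_Zc.mp hz).1
      intro v hv
      rw [hm x hx hx1 v hv, hm z hz hz1 v hv]
    · apply faithful_R hρ h3 (mul_mem (mem_Zc.mp hz).1 (mem_Zc.mp hz).1)
      intro v hv
      rw [rmul, hm z hz hz1 v hv, map_neg, hm z hz hz1 v hv, neg_neg]
  · push Not at hex
    exact ⟨1, one_mem _, fun x hx => Or.inl (hex x hx), one_mul 1, fun h => absurd rfl h⟩

/-- Case A: the four-group is central. -/
theorem caseA [Finite S] {b t u : S} (hρ : Function.Injective ρ) (hP : Pair b t u)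
    {e : E} (he : Q4R (ρ t) (ρ u) (ρ b) e) {R : Subgroup S} (h3 : (Nat.card R).Coprime 3)
    (hR : R ≤ ⁅R, zpowers b⁆) (hbR : ∀ x ∈ R, b * x * b⁻¹ ∈ R) (ht : t ∈ R) (hu : u ∈ R)
    (hct : ∀ g ∈ R, g * t = t * g) (hcu : ∀ g ∈ R, g * u = u * g) : R = four hP := by
  have h4 := hP.q4 hρ
  have heF := e_mem_F0 he hu
  have hline : ∀ g ∈ R, ∃ c1 c2 c3 : ZMod 3, ρ g e = c1 • e ∧ ρ g (ρ b e) = c2 • ρ b e ∧
      ρ g (ρ b (ρ b e)) = c3 • ρ b (ρ b e) := by
    intro g hg
    have c1 : ∀ v, ρ t (ρ g v) = ρ g (ρ t v) := fun v => by rw [← rmul, ← rmul, hct g hg]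
    have c2 : ∀ v, ρ u (ρ g v) = ρ g (ρ u v) := fun v => by rw [← rmul, ← rmul, hcu g hg]
    obtain ⟨x, hx⟩ := he.l1 (ρ g e) (by rw [c1, he.te]) (by rw [c2, he.ue, map_neg])
    obtain ⟨y, hy⟩ := he.l2 (ρ g (ρ b e)) (by rw [c1, he.t2, map_neg]) (by rw [c2, he.u2])
    obtain ⟨z, hz⟩ := he.l3 (ρ g (ρ b (ρ b e))) (by rw [c1, he.t3, map_neg])
      (by rw [c2, he.u3, map_neg])
    exact ⟨x, y, z, hx, hy, hz⟩
  have hF0 : F0 ρ R = Submodule.span (ZMod 3) {e, ρ b e, ρ b (ρ b e)} := by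
    set N := Submodule.span (ZMod 3) {e, ρ b e, ρ b (ρ b e)} with hN
    have n1 : e ∈ N := Submodule.subset_span (by simp)
    have n2 : ρ b e ∈ N := Submodule.subset_span (by simp)
    have n3 : ρ b (ρ b e) ∈ N := Submodule.subset_span (by simp)
    have hle : N ≤ F0 ρ R := by
      rw [hN, Submodule.span_le]
      rintro v (rfl | rfl | rfl)
      · exact heF
      · exact F0_inv hbR heF
      · exact F0_inv hbR (F0_inv hbR heF)
    have hinv : ∀ g : S, ρ g e ∈ N → ρ g (ρ b e) ∈ N → ρ g (ρ b (ρ b e)) ∈ N →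
        ∀ v ∈ N, ρ g v ∈ N := by
      intro g i1 i2 i3 v hv
      have : N ≤ N.comap (ρ g) := by
        rw [hN, Submodule.span_le]
        rintro w (rfl | rfl | rfl)
        · exact i1
        · exact i2
        · exact i3
      exact this hv
    rcases irred hρ hP he h3 hR ht hu hle (by
        intro r hr
        obtain ⟨c1, c2, c3, h1, h2, h3⟩ := hline r hr
        apply hinv
        · rw [h1]; exact N.smul_mem _ n1
        · rw [h2]; exact N.smul_mem _ n2
        · rw [h3]; exact N.smul_mem _ n3) (by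
        apply hinv
        · exact n2
        · exact n3
        · rw [h4.bb]; exact n1) with h | ⟨_, h⟩
    · exfalso
      rw [h, Submodule.mem_bot] at n1
      exact he.ne n1
    · exact h.symm
  have hprod : ∀ g ∈ R, ∃ c1 c2 c3 : ZMod 3, c1 * c2 * c3 = 1 ∧ ρ g e = c1 • e ∧
      ρ g (ρ b e) = c2 • ρ b e ∧ ρ g (ρ b (ρ b e)) = c3 • ρ b (ρ b e) := by
    have hsqc : ∀ c1 c2 c3 : ZMod 3, c1 * c2 * c3 = 1 → c1 * c1 = 1 ∧ c2 * c2 = 1 ∧ c3 * c3 = 1 := by
      decide
    let K : Subgroup S :=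
      { carrier := {g | ∃ c1 c2 c3 : ZMod 3, c1 * c2 * c3 = 1 ∧ ρ g e = c1 • e ∧
          ρ g (ρ b e) = c2 • ρ b e ∧ ρ g (ρ b (ρ b e)) = c3 • ρ b (ρ b e)}
        one_mem' := ⟨1, 1, 1, by decide, by rw [rone, one_smul], by rw [rone, one_smul],
          by rw [rone, one_smul]⟩
        mul_mem' := by
          rintro g h ⟨c1, c2, c3, hc, h1, h2, h3⟩ ⟨d1, d2, d3, hd, k1, k2, k3⟩
          refine ⟨d1 * c1, d2 * c2, d3 * c3, ?_, ?_, ?_, ?_⟩
          · calc d1 * c1 * (d2 * c2) * (d3 * c3) = (c1 * c2 * c3) * (d1 * d2 * d3) := by ring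
              _ = 1 := by rw [hc, hd, one_mul]
          · rw [rmul, k1, map_smul, h1, smul_smul]
          · rw [rmul, k2, map_smul, h2, smul_smul]
          · rw [rmul, k3, map_smul, h3, smul_smul]
        inv_mem' := by
          rintro g ⟨c1, c2, c3, hc, h1, h2, h3⟩
          obtain ⟨q1, q2, q3⟩ := hsqc c1 c2 c3 hc
          have aux : ∀ (c : ZMod 3) (v : E), c * c = 1 → ρ g v = c • v → ρ g⁻¹ v = c • v := by
            intro c v hc hv
            have : v = ρ g (c • v) := by rw [map_smul, hv, smul_smul, hc, one_smul]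
            nth_rw 1 [this]
            rw [rinv]
          exact ⟨c1, c2, c3, hc, aux _ _ q1 h1, aux _ _ q2 h2, aux _ _ q3 h3⟩ }
    have hle : ⁅R, zpowers b⁆ ≤ K := by
      rw [Subgroup.commutator_le]
      intro g hg k hk
      obtain ⟨c1, c2, c3, h1, h2, h3⟩ := hline g hg
      obtain ⟨d1, d2, d3, k1, k2, k3⟩ := hline g⁻¹ (inv_mem hg)
      have hcd : ∀ (c d : ZMod 3) (v : E), v ≠ 0 → ρ g v = c • v → ρ g⁻¹ v = d • v →
          c * d = 1 := by
        intro c d v hv e1 e2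
        have e3 : v = (c * d) • v := by
          have := rinv ρ g v
          rw [e1, map_smul, e2, smul_smul] at this
          exact this.symm
        rcases zcases (c * d) with h | h | h
        · rw [h, zero_smul] at e3; exact absurd e3 hv
        · exact h
        · rw [h, neg_smul, one_smul] at e3; exact absurd (eq_zero_of_neg e3) hv
      have ne2 : ρ b e ≠ 0 := by
        intro h; apply he.ne; rw [← rinv ρ b e, h, map_zero]
      have ne3 : ρ b (ρ b e) ≠ 0 := by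
        intro h; apply ne2; rw [← rinv ρ b (ρ b e), h, map_zero]
      have p1 := hcd c1 d1 e he.ne h1 k1
      have p2 := hcd c2 d2 _ ne2 h2 k2
      have p3 := hcd c3 d3 _ ne3 h3 k3
      have bi : ∀ v, ρ b⁻¹ v = ρ b (ρ b v) := by
        intro v
        have : b⁻¹ = b * b := inv_eq_of_mul_eq_one_left hP.b3
        rw [this, rmul]
      rcases zpow_cases hP.b3 hk with rfl | rfl | rfl
      · rw [commutatorElement_one_right]; exact one_mem _
      · rw [commutatorElement_def]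
        refine ⟨d3 * c1, d1 * c2, d2 * c3, ?_, ?_, ?_, ?_⟩
        · calc d3 * c1 * (d1 * c2) * (d2 * c3) = (c1 * d1) * (c2 * d2) * (c3 * d3) := by ring
            _ = 1 := by rw [p1, p2, p3]; rfl
        · rw [rmul, rmul, rmul, bi, k3, map_smul, map_smul, h4.bb, h1, smul_smul]
        · rw [rmul, rmul, rmul, rinv, k1, map_smul, map_smul, h2, smul_smul]
        · rw [rmul, rmul, rmul, rinv, k2, map_smul, map_smul, h3, smul_smul]
      · rw [commutatorElement_def]
        have bbi : (b * b)⁻¹ = b := by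
          apply inv_eq_of_mul_eq_one_left
          rw [← mul_assoc]; exact hP.b3
        refine ⟨d2 * c1, d3 * c2, d1 * c3, ?_, ?_, ?_, ?_⟩
        · calc d2 * c1 * (d3 * c2) * (d1 * c3) = (c1 * d1) * (c2 * d2) * (c3 * d3) := by ring
            _ = 1 := by rw [p1, p2, p3]; rfl
        · rw [bbi, rmul, rmul, rmul, rmul, k2, map_smul, map_smul, map_smul, h4.bb, h1, smul_smul]
        · rw [bbi, rmul, rmul, rmul, rmul, k3, map_smul, map_smul, map_smul, h4.bb, h2, smul_smul]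
        · rw [bbi, rmul, rmul, rmul, rmul, h4.bb, k1, map_smul, map_smul, map_smul, h3, smul_smul]
    intro g hg
    exact hle (hR hg)
  apply le_antisymm
  · intro g hg
    obtain ⟨c1, c2, c3, hc, h1, h2, h3'⟩ := hprod g hg
    have heq : ∀ h ∈ R, ρ h e = c1 • e → ρ h (ρ b e) = c2 • ρ b e →
        ρ h (ρ b (ρ b e)) = c3 • ρ b (ρ b e) → g = h := by
      intro h hh k1 k2 k3
      apply eq_of_F0 hρ h3 hg hh
      intro v hv
      rw [hF0] at hv
      refine LinearMap.eqOn_span (f := ρ g) (g := ρ h) ?_ hv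
      rintro w (rfl | rfl | rfl)
      · rw [h1, k1]
      · rw [h2, k2]
      · rw [h3', k3]
    have hcases : ∀ c1 c2 c3 : ZMod 3, c1 * c2 * c3 = 1 → (c1 = 1 ∧ c2 = 1 ∧ c3 = 1) ∨
        (c1 = 1 ∧ c2 = -1 ∧ c3 = -1) ∨ (c1 = -1 ∧ c2 = 1 ∧ c3 = -1) ∨
        (c1 = -1 ∧ c2 = -1 ∧ c3 = 1) := by decide
    rcases hcases c1 c2 c3 hc with ⟨rfl, rfl, rfl⟩ | ⟨rfl, rfl, rfl⟩ | ⟨rfl, rfl, rfl⟩ |
      ⟨rfl, rfl, rfl⟩
    · left
      exact heq 1 (one_mem _) (by rw [rone, one_smul]) (by rw [rone, one_smul])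
        (by rw [rone, one_smul])
    · right; left
      exact heq t ht (by rw [he.te, one_smul]) (by rw [he.t2, neg_smul, one_smul])
        (by rw [he.t3, neg_smul, one_smul])
    · right; right; left
      exact heq u hu (by rw [he.ue, neg_smul, one_smul]) (by rw [he.u2, one_smul])
        (by rw [he.u3, neg_smul, one_smul])
    · right; right; right
      exact heq (t * u) (mul_mem ht hu)
        (by rw [rmul, he.ue, map_neg, he.te, neg_smul, one_smul])
        (by rw [rmul, he.u2, he.t2, neg_smul, one_smul])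
        (by rw [rmul, he.u3, map_neg, he.t3, neg_neg, one_smul])
  · rintro g (rfl | rfl | rfl | rfl)
    · exact one_mem _
    · exact ht
    · exact hu
    · exact mul_mem ht hu

end H1.FG19
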