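import Cfsg.Agent.Lib.H96.FrDef
import Cfsg.Agent.Lib.H60.FrJ

set_option autoImplicit false

/-!
Identification of the `F4` type reflections.
-/

namespace H1.FrF4A

open Matrix H96.Fr H60.FrJ

variable {ι F : Type*} [Fintype ι] [DecidableEq ι] [Field F]
  {K : Subgroup ((ι → F) ≃ₗ[F] (ι → F))}

section alg

omit [Fintype ι] [DecidableEq ι] in
theorem alg_one (h2 : (2:F) ≠ 0) (P : F → F → F → F → Prop)
    (s1 : ∀ a b c d, P a b c d → P b a c d)
    (s2 : ∀ a b c d, P a b c d → P a c b d)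
    (n : ∀ a b c d, P a b c d → P (-a) b c d)
    (r : ∀ a b c d x y z t, P a b c d → P x y z t →
      P (x - 2 * (x * a + y * b + z * c + t * d) * a) (y - 2 * (x * a + y * b + z * c + t * d) * b)
        (z - 2 * (x * a + y * b + z * c + t * d) * c) (t - 2 * (x * a + y * b + z * c + t * d) * d))
    (Z : ∀ b c d, P 0 b c d → b ≠ 0 → c ≠ 0 → 2 * b ^ 2 = 1 ∧ 2 * c ^ 2 = 1 ∧ d = 0)
    {a b c d : F} (h : P a b c d) (hb : b ≠ 0) (hc : c ≠ 0) (had : 2 * (a ^ 2 + d ^ 2) = 1) :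
    b ^ 2 = c ^ 2 := by
  -- w = (a, c, -b, d)
  have w : P a c (-b) d := by
    have h1 := s1 _ _ _ _ (s2 _ _ _ _ (n _ _ _ _ (s1 _ _ _ _ h)))
    -- h : a b c d; s1: b a c d; n: -b a c d; s1
    have h3 := s1 _ _ _ _ h
    have h4 := n _ _ _ _ h3
    have h5 := s1 _ _ _ _ h4
    have h6 := s2 _ _ _ _ h5
    exact h6
  have h3 := r _ _ _ _ _ _ _ _ w h
  have e0 : a * a + b * c + c * (-b) + d * d = a ^ 2 + d ^ 2 := by ring
  rw [e0, had] at h3
  have e1 : a - 1 * a = 0 := by ring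
  have e2 : d - 1 * d = 0 := by ring
  have e3 : b - 1 * c = b - c := by ring
  have e4 : c - 1 * (-b) = b + c := by ring
  rw [e1, e2, e3, e4] at h3
  by_contra hne
  have h4 : b - c ≠ 0 := fun h5 => hne (by rw [sub_eq_zero.1 h5])
  have h5 : b + c ≠ 0 := fun h5 => hne (by rw [eq_neg_of_add_eq_zero_left h5]; ring)
  obtain ⟨z1, z2, _⟩ := Z _ _ _ h3 h4 h5
  have h6 : (2 * 2 * 2) * (b * c) = 0 := by linear_combination z2 - z1
  exact mul_ne_zero (mul_ne_zero (mul_ne_zero h2 h2) h2) (mul_ne_zero hb hc) h6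

omit [Fintype ι] [DecidableEq ι] in
theorem alg_two (h2 : (2:F) ≠ 0) (P : F → F → F → F → Prop)
    (s1 : ∀ a b c d, P a b c d → P b a c d)
    (s2 : ∀ a b c d, P a b c d → P a c b d)
    (s3 : ∀ a b c d, P a b c d → P a b d c)
    (n : ∀ a b c d, P a b c d → P (-a) b c d)
    (u : ∀ a b c d, P a b c d → a ^ 2 + b ^ 2 + c ^ 2 + d ^ 2 = 1)
    (e0 : P 1 0 0 0)
    (r : ∀ a b c d x y z t, P a b c d → P x y z t →
      P (x - 2 * (x * a + y * b + z * c + t * d) * a) (y - 2 * (x * a + y * b + z * c + t * d) * b)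
        (z - 2 * (x * a + y * b + z * c + t * d) * c) (t - 2 * (x * a + y * b + z * c + t * d) * d))
    (Z : ∀ b c d, P 0 b c d → b ≠ 0 → c ≠ 0 → 2 * b ^ 2 = 1 ∧ 2 * c ^ 2 = 1 ∧ d = 0)
    {a b c d : F} (h : P a b c d) (ha : a ≠ 0) (hb : b ≠ 0) (hc : c ≠ 0) (hd : d ≠ 0) :
    a ^ 2 = b ^ 2 ∧ c ^ 2 = d ^ 2 := by
  by_cases hA : 2 * a ^ 2 + 2 * b ^ 2 - 1 = 0
  · have hu := u _ _ _ _ h
    constructor
    · -- order (c,a,b,d)
      have h1 : P c a b d := s1 _ _ _ _ (s2 _ _ _ _ h)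
      exact alg_one h2 P s1 s2 n r Z h1 ha hb (by linear_combination 2 * hu - hA)
    · have h1 : P a c d b := s3 _ _ _ _ (s2 _ _ _ _ h)
      exact alg_one h2 P s1 s2 n r Z h1 hc hd (by linear_combination hA)
  · -- the general computation
    have key : ∀ a b c d : F, P a b c d →
        P 0 (2 * a ^ 2 + 2 * b ^ 2 - 1) (2 * (a * d + b * c)) (2 * (b * d - a * c)) := by
      intro a b c d h
      have x1 := r _ _ _ _ _ _ _ _ h e0
      have x2 := s3 _ _ _ _ (s1 _ _ _ _ x1)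
      -- (y, x, t, z)
      have n1 : ∀ a b c d, P a b c d → P a (-b) c d := fun a b c d h => s1 _ _ _ _ (n _ _ _ _ (s1 _ _ _ _ h))
      have n2 : ∀ a b c d, P a b c d → P a b (-c) d := fun a b c d h => s2 _ _ _ _ (n1 _ _ _ _ (s2 _ _ _ _ h))
      have x3 := n2 _ _ _ _ (n1 _ _ _ _ x2)
      have x4 := r _ _ _ _ _ _ _ _ h x3
      have hu := u _ _ _ _ h
      convert x4 using 1
      · ring
      · ring
      · ring
      · ring
    have k1 := key _ _ _ _ h
    have k2 := key _ _ _ _ (n _ _ _ _ h)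
    have k1' : a * d + b * c = 0 ∨ b * d - a * c = 0 := by
      by_contra hh
      push Not at hh
      exact mul_ne_zero h2 hh.2 (Z _ _ _ k1 hA (mul_ne_zero h2 hh.1)).2.2
    have hA' : 2 * (-a) ^ 2 + 2 * b ^ 2 - 1 ≠ 0 := by
      rwa [neg_sq]
    have k2' : (-a) * d + b * c = 0 ∨ b * d - (-a) * c = 0 := by
      by_contra hh
      push Not at hh
      exact mul_ne_zero h2 hh.2 (Z _ _ _ k2 hA' (mul_ne_zero h2 hh.1)).2.2
    rcases k1' with k1 | k1 <;> rcases k2' with k2 | k2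
    · exfalso
      have : 2 * (a * d) = 0 := by linear_combination k1 - k2
      exact mul_ne_zero h2 (mul_ne_zero ha hd) this
    · -- ad = -bc, bd = -ac
      constructor
      · apply mul_right_cancel₀ hd
        linear_combination a * k1 - b * k2
      · apply mul_left_cancel₀ ha
        linear_combination c * k2 - d * k1
    · -- bd = ac, bc = ad
      constructor
      · apply mul_right_cancel₀ hd
        linear_combination (-a) * k2 - b * k1
      · apply mul_left_cancel₀ ha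
        linear_combination d * k2 - c * k1
    · exfalso
      have : 2 * (b * d) = 0 := by linear_combination k1 + k2
      exact mul_ne_zero h2 (mul_ne_zero hb hd) this

omit [Fintype ι] [DecidableEq ι] in
theorem alg (h2 : (2:F) ≠ 0) (P : F → F → F → F → Prop)
    (s1 : ∀ a b c d, P a b c d → P b a c d)
    (s2 : ∀ a b c d, P a b c d → P a c b d)
    (s3 : ∀ a b c d, P a b c d → P a b d c)
    (n : ∀ a b c d, P a b c d → P (-a) b c d)
    (u : ∀ a b c d, P a b c d → a ^ 2 + b ^ 2 + c ^ 2 + d ^ 2 = 1)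
    (e0 : P 1 0 0 0)
    (r : ∀ a b c d x y z t, P a b c d → P x y z t →
      P (x - 2 * (x * a + y * b + z * c + t * d) * a) (y - 2 * (x * a + y * b + z * c + t * d) * b)
        (z - 2 * (x * a + y * b + z * c + t * d) * c) (t - 2 * (x * a + y * b + z * c + t * d) * d))
    (Z : ∀ b c d, P 0 b c d → b ≠ 0 → c ≠ 0 → 2 * b ^ 2 = 1 ∧ 2 * c ^ 2 = 1 ∧ d = 0)
    {a b c d : F} (h : P a b c d) (ha : a ≠ 0) (hb : b ≠ 0) (hc : c ≠ 0) (hd : d ≠ 0) :
    4 * a ^ 2 = 1 ∧ 4 * b ^ 2 = 1 ∧ 4 * c ^ 2 = 1 ∧ 4 * d ^ 2 = 1 := by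
  obtain ⟨h3, h4⟩ := alg_two h2 P s1 s2 s3 n u e0 r Z h ha hb hc hd
  obtain ⟨h5, h6⟩ := alg_two h2 P s1 s2 s3 n u e0 r Z (s2 _ _ _ _ h) ha hc hb hd
  have hu := u _ _ _ _ h
  refine ⟨?_, ?_, ?_, ?_⟩
  · linear_combination hu + h3 + h5 + (h4 + h5)
  · linear_combination hu - 3 * h3 + h5 + (h4 + h5)
  · linear_combination hu + h3 - 2 * h5 + h4 - h5 + h5
  · linear_combination hu + h3 - 2 * h5 - 3 * h4 + h5 - h5

end alg

section basic

lemma e_unit (l : ι) : (e l : ι → F) ⬝ᵥ e l = 1 := by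
  simp [e]

lemma rf_map {g : (ι → F) ≃ₗ[F] (ι → F)} (hg : Iso g) {v : ι → F} (hv : v ⬝ᵥ v = 1) :
    rf (g v) = g * rf v * g⁻¹ := by
  have h1 : g v ⬝ᵥ g v = 1 := by rw [hg, hv]
  apply LinearEquiv.ext
  intro x
  obtain ⟨y, rfl⟩ := g.surjective x
  have h3 : (g⁻¹ : (ι → F) ≃ₗ[F] (ι → F)) (g y) = y := g.symm_apply_apply y
  rw [rf_apply h1, LinearEquiv.mul_apply, LinearEquiv.mul_apply, h3, rf_apply hv, hg, map_sub, map_smul]

lemma phi_map (D : Dat K) {g : (ι → F) ≃ₗ[F] (ι → F)} (hg : g ∈ K) {l m : ι}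
    (hlm : g (e l) = e m) {v : ι → F} (hv : Phi K v) : Phi K (g v) := by
  have hi := D.iso g hg
  refine ⟨by rw [hi, hv.1], fun j => ?_⟩
  have h1 : rf (g v) * rf (e m) = g * (rf v * rf (e l)) * g⁻¹ := by
    rw [rf_map hi hv.1, ← hlm, rf_map hi (e_unit l)]; group
  have h2 := (phi_e D m).2 j
  have h3 : rf (g v) * rf (e j) = (rf (g v) * rf (e m)) * (rf (e m) * rf (e j)) := by
    rw [mul_assoc (rf (g v)), ← mul_assoc (rf (e m)) (rf (e m)), rf_mul_self (e_unit m), one_mul]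
  rw [h3, h1]
  exact K.mul_mem (K.mul_mem (K.mul_mem hg (hv.2 l)) (K.inv_mem hg)) h2

/-- permutations, two spare coordinates -/
lemma phi_pm (D : Dat K) {v : ι → F} {l m : ι} (hlm : l ≠ m) (hl : v l = 0) (hm : v m = 0)
    (hv : Phi K v) (σ : Equiv.Perm ι) : Phi K (pm σ v) := by
  rcases Int.units_eq_one_or (Equiv.Perm.sign σ) with h | h
  · exact phi_map D (D.pm σ h) (pm_e σ l) hv
  · have h1 : Equiv.Perm.sign (σ * Equiv.swap l m) = 1 := by
      rw [map_mul, h, Equiv.Perm.sign_swap hlm]; rfl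
    have h2 := phi_map D (D.pm _ h1) (pm_e _ l) hv
    convert h2 using 1
    funext k
    rw [pm_apply, pm_apply]
    have h3 : (σ * Equiv.swap l m).symm k = Equiv.swap l m (σ.symm k) := rfl
    rw [h3]
    by_cases h4 : σ.symm k = l
    · rw [h4, Equiv.swap_apply_left, hl, hm]
    · by_cases h5 : σ.symm k = m
      · rw [h5, Equiv.swap_apply_right, hl, hm]
      · rw [Equiv.swap_apply_of_ne_of_ne h4 h5]

/-- the three dimensional dichotomy -/
lemma phi_three (D : Dat K) (h2 : (2:F) ≠ 0) (hm : MonLe K 3) {w : ι → F} (hw : Phi K w) {J : Finset ι}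
    (hJ : J.card ≤ 3) (h0 : ∀ k, k ∉ J → w k = 0) {i j : ι} (hij : i ≠ j) (hi : w i ≠ 0) (hj : w j ≠ 0) :
    2 * w i ^ 2 = 1 ∧ ∀ k, k ≠ i → k ≠ j → w k = 0 := by
  have hs : Sup (rf w * rf (e i)) J := by
    intro k hk
    have hki : k ≠ i := fun h => hk (by rw [h]; by_contra h'; exact hi (h0 i h'))
    have h3 : rf (e i) (e k) = (e k : ι → F) := by
      rw [rf_apply (e_unit i)]
      simp [e, hki.symm]
    rw [LinearEquiv.mul_apply, h3, rf_apply hw.1]
    have h4 : (e k : ι → F) ⬝ᵥ w = 0 := by simp [e, h0 k hk]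
    rw [h4]; simp
  have hM := hm _ (hw.2 i) J hJ hs
  obtain ⟨k, hk⟩ := hM i
  have h3 : rf (e i) (e i) = -(e i : ι → F) := by
    rw [rf_apply (e_unit i), e_unit i]; module
  have h4 : (rf w * rf (e i) : (ι → F) ≃ₗ[F] (ι → F)) (e i) = (2 * w i) • w - e i := by
    rw [LinearEquiv.mul_apply, h3, map_neg, rf_apply hw.1]
    have : (e i : ι → F) ⬝ᵥ w = w i := by simp [e]
    rw [this]; abel
  rw [h4] at hk
  have hkc : ∀ l, l ≠ k → 2 * w i * w l - (e i : ι → F) l = 0 := by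
    intro l hl
    rcases hk with hk | hk
    · have := congrFun hk l
      simpa [e, hl] using this
    · have := congrFun hk l
      simpa [e, hl] using this
  have hkj : k = j := by
    by_contra h
    have := hkc j (Ne.symm h)
    have h5 : (e i : ι → F) j = 0 := by simp [e, hij.symm]
    rw [h5, sub_zero] at this
    exact mul_ne_zero (mul_ne_zero h2 hi) hj this
  subst hkj
  constructor
  · have := hkc i hij
    have h5 : (e i : ι → F) i = 1 := by simp [e]
    rw [h5] at this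
    linear_combination this
  · intro l hli hlj
    have := hkc l hlj
    have h5 : (e i : ι → F) l = 0 := by simp [e, hli]
    rw [h5, sub_zero] at this
    rcases mul_eq_zero.1 this with h | h
    · exact absurd h (mul_ne_zero h2 hi)
    · exact h

end basic

end H1.FrF4A
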