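import Cfsg.Agent.Lib.H1.FrF4A

set_option autoImplicit false

/-!
Identification of the `F4` type reflections: the full support case.
-/

namespace H1.FrF4B

open Matrix H96.Fr H60.FrJ H1.FrF4A

variable {ι F : Type*} [Fintype ι] [DecidableEq ι] [Field F]
  {K : Subgroup ((ι → F) ≃ₗ[F] (ι → F))}

/-- four coordinates -/
def q (i0 i1 i2 i3 : ι) (a b c d : F) : ι → F := fun k =>
  if k = i0 then a else if k = i1 then b else if k = i2 then c else if k = i3 then d else 0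

section
variable {i0 i1 i2 i3 : ι}

omit [Fintype ι] in
lemma q_eq (h01 : i0 ≠ i1) (h02 : i0 ≠ i2) (h03 : i0 ≠ i3) (h12 : i1 ≠ i2) (h13 : i1 ≠ i3) (h23 : i2 ≠ i3)
    (a b c d : F) : q i0 i1 i2 i3 a b c d = a • e i0 + b • e i1 + c • e i2 + d • e i3 := by
  funext k
  simp only [q, e, Pi.add_apply, Pi.smul_apply, smul_eq_mul]
  by_cases k0 : k = i0
  · subst k0; simp [h01, h02, h03]
  · by_cases k1 : k = i1
    · subst k1; simp [k0, h12, h13]
    · by_cases k2 : k = i2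
      · subst k2; simp [k0, k1, h23]
      · by_cases k3 : k = i3
        · subst k3; simp [k0, k1, k2]
        · simp [k0, k1, k2, k3]

lemma q_dot (h01 : i0 ≠ i1) (h02 : i0 ≠ i2) (h03 : i0 ≠ i3) (h12 : i1 ≠ i2) (h13 : i1 ≠ i3) (h23 : i2 ≠ i3)
    (a b c d : F) (y : ι → F) :
    q i0 i1 i2 i3 a b c d ⬝ᵥ y = a * y i0 + b * y i1 + c * y i2 + d * y i3 := by
  rw [q_eq h01 h02 h03 h12 h13 h23]
  simp [e, add_dotProduct]

omit [Fintype ι] in
lemma q0 (a b c d : F) : q i0 i1 i2 i3 a b c d i0 = a := by simp [q]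

omit [Fintype ι] in
lemma q1 (h01 : i0 ≠ i1) (a b c d : F) : q i0 i1 i2 i3 a b c d i1 = b := by simp [q, h01.symm]

omit [Fintype ι] in
lemma q2 (h02 : i0 ≠ i2) (h12 : i1 ≠ i2) (a b c d : F) : q i0 i1 i2 i3 a b c d i2 = c := by
  simp [q, h02.symm, h12.symm]

omit [Fintype ι] in
lemma q3 (h03 : i0 ≠ i3) (h13 : i1 ≠ i3) (h23 : i2 ≠ i3) (a b c d : F) : q i0 i1 i2 i3 a b c d i3 = d := by
  simp [q, h03.symm, h13.symm, h23.symm]

omit [Fintype ι] in
lemma qo {k : ι} (h0 : k ≠ i0) (h1 : k ≠ i1) (h2 : k ≠ i2) (h3 : k ≠ i3) (a b c d : F) :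
    q i0 i1 i2 i3 a b c d k = 0 := by
  simp [q, h0, h1, h2, h3]

lemma q_qdot (h01 : i0 ≠ i1) (h02 : i0 ≠ i2) (h03 : i0 ≠ i3) (h12 : i1 ≠ i2) (h13 : i1 ≠ i3) (h23 : i2 ≠ i3)
    (a b c d x y z t : F) :
    q i0 i1 i2 i3 a b c d ⬝ᵥ q i0 i1 i2 i3 x y z t = a * x + b * y + c * z + d * t := by
  rw [q_dot h01 h02 h03 h12 h13 h23, q0, q1 h01, q2 h02 h12, q3 h03 h13 h23]

/-- all the squares are `1 / 4` -/
theorem q_all (D : Dat K) (h2 : (2:F) ≠ 0) (hm : MonLe K 3)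
    (h01 : i0 ≠ i1) (h02 : i0 ≠ i2) (h03 : i0 ≠ i3) (h12 : i1 ≠ i2) (h13 : i1 ≠ i3) (h23 : i2 ≠ i3)
    {l m : ι} (hlm : l ≠ m) (l0 : l ≠ i0) (l1 : l ≠ i1) (l2 : l ≠ i2) (l3 : l ≠ i3)
    (m0 : m ≠ i0) (m1 : m ≠ i1) (m2 : m ≠ i2) (m3 : m ≠ i3)
    {a b c d : F} (h : Phi K (q i0 i1 i2 i3 a b c d)) (ha : a ≠ 0) (hb : b ≠ 0) (hc : c ≠ 0) (hd : d ≠ 0) :
    4 * a ^ 2 = 1 ∧ 4 * b ^ 2 = 1 ∧ 4 * c ^ 2 = 1 ∧ 4 * d ^ 2 = 1 := by
  refine alg h2 (fun a b c d => Phi K (q i0 i1 i2 i3 a b c d)) ?_ ?_ ?_ ?_ ?_ ?_ ?_ ?_ h ha hb hc hd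
  · intro a b c d h
    have h1 := phi_pm D hlm (qo l0 l1 l2 l3 a b c d) (qo m0 m1 m2 m3 a b c d) h (Equiv.swap i0 i1)
    convert h1 using 1
    funext k
    rw [pm_apply, Equiv.symm_swap]
    by_cases k0 : k = i0
    · rw [k0, Equiv.swap_apply_left, q0, q1 h01]
    · by_cases k1 : k = i1
      · rw [k1, Equiv.swap_apply_right, q1 h01, q0]
      · rw [Equiv.swap_apply_of_ne_of_ne k0 k1]; simp [q, k0, k1]
  · intro a b c d h
    have h1 := phi_pm D hlm (qo l0 l1 l2 l3 a b c d) (qo m0 m1 m2 m3 a b c d) h (Equiv.swap i1 i2)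
    convert h1 using 1
    funext k
    rw [pm_apply, Equiv.symm_swap]
    by_cases k0 : k = i1
    · rw [k0, Equiv.swap_apply_left, q1 h01, q2 h02 h12]
    · by_cases k1 : k = i2
      · rw [k1, Equiv.swap_apply_right, q1 h01, q2 h02 h12]
      · rw [Equiv.swap_apply_of_ne_of_ne k0 k1]; simp [q, k0, k1]
  · intro a b c d h
    have h1 := phi_pm D hlm (qo l0 l1 l2 l3 a b c d) (qo m0 m1 m2 m3 a b c d) h (Equiv.swap i2 i3)
    convert h1 using 1
    funext k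
    rw [pm_apply, Equiv.symm_swap]
    by_cases k0 : k = i2
    · rw [k0, Equiv.swap_apply_left, q3 h03 h13 h23, q2 h02 h12]
    · by_cases k1 : k = i3
      · rw [k1, Equiv.swap_apply_right, q3 h03 h13 h23, q2 h02 h12]
      · rw [Equiv.swap_apply_of_ne_of_ne k0 k1]; simp [q, k0, k1]
  · intro a b c d h
    have h1 := phi_rf (phi_e D i0) h
    convert h1 using 1
    rw [rf_apply (e_unit i0)]
    have h4 : q i0 i1 i2 i3 a b c d ⬝ᵥ e i0 = a := by simp [e, q]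
    rw [h4]
    funext k
    by_cases k0 : k = i0
    · subst k0; simp [q, e]; ring
    · simp [q, e, k0]
  · intro a b c d h
    have h1 := h.1
    rw [q_qdot h01 h02 h03 h12 h13 h23] at h1
    linear_combination h1
  · have h1 := phi_e D i0
    convert h1 using 1
    rw [q_eq h01 h02 h03 h12 h13 h23]; simp
  · intro a b c d x y z t h h'
    have h1 := phi_rf h h'
    convert h1 using 1
    rw [rf_apply h.1, q_qdot h01 h02 h03 h12 h13 h23, q_eq h01 h02 h03 h12 h13 h23,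
      q_eq h01 h02 h03 h12 h13 h23, q_eq h01 h02 h03 h12 h13 h23]
    module
  · intro b c d h hb hc
    have hJ : ({i1, i2, i3} : Finset ι).card ≤ 3 := Finset.card_le_three
    have h0 : ∀ k, k ∉ ({i1, i2, i3} : Finset ι) → q i0 i1 i2 i3 0 b c d k = 0 := by
      intro k hk
      simp only [Finset.mem_insert, Finset.mem_singleton, not_or] at hk
      simp [q, hk.1, hk.2.1, hk.2.2]
    have hb' : q i0 i1 i2 i3 0 b c d i1 ≠ 0 := by rwa [q1 h01]
    have hc' : q i0 i1 i2 i3 0 b c d i2 ≠ 0 := by rwa [q2 h02 h12]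
    have z1 := phi_three D h2 hm h hJ h0 h12 hb' hc'
    have z2 := phi_three D h2 hm h hJ h0 h12.symm hc' hb'
    refine ⟨?_, ?_, ?_⟩
    · have := z1.1; rwa [q1 h01] at this
    · have := z2.1; rwa [q2 h02 h12] at this
    · have := z1.2 i3 h13.symm h23.symm; rwa [q3 h03 h13 h23] at this

end

/-- two spare coordinates -/
lemma spare {I : Finset ι} (hN : 6 ≤ Fintype.card ι) (hI : I.card = 4) :
    ∃ l m : ι, l ≠ m ∧ l ∉ I ∧ m ∉ I := by
  have h1 : 1 < (Iᶜ : Finset ι).card := by rw [Finset.card_compl]; omega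
  obtain ⟨l, hl, m, hm, hlm⟩ := Finset.one_lt_card.1 h1
  exact ⟨l, m, hlm, Finset.mem_compl.1 hl, Finset.mem_compl.1 hm⟩

theorem sq_all (D : Dat K) (h2 : (2:F) ≠ 0) (hN : 6 ≤ Fintype.card ι) (hm : MonLe K 3)
    {I : Finset ι} (hI : I.card = 4) {v : ι → F} (hv : Phi K v) (h0 : ∀ k, k ∉ I → v k = 0)
    (hf : ∀ k ∈ I, v k ≠ 0) : ∀ k ∈ I, 4 * (v k * v k) = 1 := by
  obtain ⟨l, m, hlm, hl, hm'⟩ := spare hN hI
  obtain ⟨i0, I1, n0, rfl, hI1⟩ := Finset.card_eq_succ.1 hI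
  obtain ⟨i1, i2, i3, h12, h13, h23, rfl⟩ := Finset.card_eq_three.1 hI1
  simp only [Finset.mem_insert, Finset.mem_singleton, not_or] at n0 hl hm'
  have hq : v = q i0 i1 i2 i3 (v i0) (v i1) (v i2) (v i3) := by
    funext k
    by_cases k0 : k = i0
    · subst k0; simp [q]
    · by_cases k1 : k = i1
      · subst k1; simp [q, k0]
      · by_cases k2 : k = i2
        · subst k2; simp [q, k0, k1]
        · by_cases k3 : k = i3
          · subst k3; simp [q, k0, k1, k2]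
          · rw [h0 k (by simp [k0, k1, k2, k3])]; simp [q, k0, k1, k2, k3]
  have h4 := q_all D h2 hm n0.1 n0.2.1 n0.2.2 h12 h13 h23 hlm hl.1 hl.2.1 hl.2.2.1 hl.2.2.2
    hm'.1 hm'.2.1 hm'.2.2.1 hm'.2.2.2 (hq ▸ hv) (hf _ (by simp)) (hf _ (by simp)) (hf _ (by simp)) (hf _ (by simp))
  intro k hk
  simp only [Finset.mem_insert, Finset.mem_singleton] at hk
  rcases hk with rfl | rfl | rfl | rfl
  · linear_combination h4.1
  · linear_combination h4.2.1
  · linear_combination h4.2.2.1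
  · linear_combination h4.2.2.2

end H1.FrF4B
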