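import Mathlib
import Cfsg.Agent.Lib.H1.CritSub
import Cfsg.Agent.Lib.H1.Coprime2

set_option autoImplicit false

/-! Structure lemma: a cyclic `p`-group acting on a `q`-group of class two without regular orbit. -/

namespace H1.StrLem

open Module H30.Wts H30.FixRep H30.FrobDim H30.EndRep H30.EndRep2 H30.EndRep3 Subgroup H1.Crit H1.CritSub

section chars

variable {F : Type*} [Field F] {V : Type*} [AddCommGroup V] [Module F V]
  {Γ : Type*} [Group Γ]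

theorem conj_mem {A : Subgroup Γ} {g : Γ} (hg : g ∈ normalizer (A : Set Γ)) {a : Γ} (ha : a ∈ A) : g⁻¹ * a * g ∈ A := by
  have := (Subgroup.mem_normalizer_iff.1 ((normalizer (A : Set Γ)).inv_mem hg) a).1 ha
  rwa [inv_inv] at this

/-- conjugate character -/
def cch (A : Subgroup Γ) (g : Γ) (hg : g ∈ normalizer (A : Set Γ)) (χ : A →* Fˣ) : A →* Fˣ where
  toFun a := χ ⟨g⁻¹ * a * g, conj_mem hg a.2⟩
  map_one' := by
    have : (⟨g⁻¹ * (1 : A) * g, conj_mem hg (1 : A).2⟩ : A) = 1 := Subtype.ext (by simp)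
    rw [this, map_one]
  map_mul' a b := by
    rw [← map_mul]
    congr 1
    exact Subtype.ext (by simp [mul_assoc])

theorem cch_apply (A : Subgroup Γ) (g : Γ) (hg : g ∈ normalizer (A : Set Γ)) (χ : A →* Fˣ) (a : A) :
    cch A g hg χ a = χ ⟨g⁻¹ * a * g, conj_mem hg a.2⟩ := rfl

theorem cch_mul (A : Subgroup Γ) (g h : Γ) (hg : g ∈ normalizer (A : Set Γ)) (hh : h ∈ normalizer (A : Set Γ))
    (hgh : g * h ∈ normalizer (A : Set Γ)) (χ : A →* Fˣ) :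
    cch A (g * h) hgh χ = cch A g hg (cch A h hh χ) := by
  ext a
  rw [cch_apply, cch_apply, cch_apply]
  congr 3
  simp only
  group

theorem cch_one (A : Subgroup Γ) (h1 : (1 : Γ) ∈ normalizer (A : Set Γ)) (χ : A →* Fˣ) : cch A 1 h1 χ = χ := by
  ext a
  rw [cch_apply]
  congr 2
  exact Subtype.ext (by simp)

/-- stabiliser of a character -/
def St (A : Subgroup Γ) (χ : A →* Fˣ) : Subgroup Γ where
  carrier := {g | ∃ hg : g ∈ normalizer (A : Set Γ), cch A g hg χ = χ}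
  one_mem' := ⟨one_mem _, cch_one A _ χ⟩
  mul_mem' := by
    rintro g h ⟨hg, hg'⟩ ⟨hh, hh'⟩
    exact ⟨mul_mem hg hh, by rw [cch_mul A g h hg hh, hh', hg']⟩
  inv_mem' := by
    rintro g ⟨hg, hg'⟩
    refine ⟨inv_mem hg, ?_⟩
    have h1 := cch_mul A g⁻¹ g (inv_mem hg) hg (mul_mem (inv_mem hg) hg) χ
    rw [hg'] at h1
    rw [← h1]
    have h2 : ∀ (u : Γ) (hu : u ∈ normalizer (A : Set Γ)), u = 1 → cch A u hu χ = χ := by
      rintro u hu rfl
      exact cch_one A _ χ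
    exact h2 _ _ (inv_mul_cancel g)

theorem mem_St {A : Subgroup Γ} {χ : A →* Fˣ} {g : Γ} :
    g ∈ St A χ ↔ ∃ hg : g ∈ normalizer (A : Set Γ), cch A g hg χ = χ := Iff.rfl

theorem map_wt (ρ : Γ →* Module.End F V) (A : Subgroup Γ) (g : Γ) (hg : g ∈ normalizer (A : Set Γ)) {χ : A →* Fˣ} {v : V}
    (hv : v ∈ wt (ρ.comp A.subtype) χ) : ρ g v ∈ wt (ρ.comp A.subtype) (cch A g hg χ) := by
  intro a
  show ρ a (ρ g v) = _
  have h1 : ρ (g⁻¹ * a * g) v = (χ ⟨g⁻¹ * a * g, conj_mem hg a.2⟩ : F) • v := hv ⟨g⁻¹ * a * g, conj_mem hg a.2⟩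
  have h2 : ρ a (ρ g v) = ρ g (ρ (g⁻¹ * a * g) v) := by
    rw [← apply_mul, ← apply_mul]
    congr 2
    group
  rw [h2, h1, map_smul, cch_apply]

theorem map_wt_St (ρ : Γ →* Module.End F V) (A : Subgroup Γ) (g : Γ) {χ : A →* Fˣ} (hg : g ∈ St A χ) {v : V}
    (hv : v ∈ wt (ρ.comp A.subtype) χ) : ρ g v ∈ wt (ρ.comp A.subtype) χ := by
  obtain ⟨h1, h2⟩ := hg
  have := map_wt ρ A g h1 hv
  rwa [h2] at this

theorem regular [Finite Γ] (ρ : Γ →* Module.End F V) (A : Subgroup Γ) (hA : (Nat.card A : F) ≠ 0) (x : Γ)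
    (hx : x ∈ normalizer (A : Set Γ)) (χ : A →* Fˣ) (m : ℕ) (hd : ∀ j, 0 < j → j < m → x ^ j ∉ St A χ)
    (u : ℕ → V) (hu : ∀ i < m, u i ∈ wt (ρ.comp A.subtype) χ) (hsum : ∑ i ∈ Finset.range m, ρ (x ^ i) (u i) = 0) :
    ∀ i < m, u i = 0 := by
  classical
  intro i hi
  haveI := Fintype.ofFinite A
  have hA' : (Fintype.card A : F) ≠ 0 := by rwa [← Nat.card_eq_fintype_card]
  have hxi : ∀ i, x ^ i ∈ normalizer (A : Set Γ) := fun i => pow_mem hx i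
  have h1 := congrArg (proj (ρ.comp A.subtype) (cch A (x ^ i) (hxi i) χ)) hsum
  rw [map_sum, map_zero, Finset.sum_eq_single i] at h1
  · rw [proj_of_mem hA' _ _ (map_wt ρ A (x ^ i) (hxi i) (hu i hi))] at h1
    exact apply_eq_zero ρ _ h1
  · intro j hj hji
    have hj' : j < m := Finset.mem_range.1 hj
    refine proj_of_mem_ne (ρ.comp A.subtype) ?_ (map_wt ρ A (x ^ j) (hxi j) (hu j hj'))
    intro heq
    -- distinct
    have key : ∀ s t, s < t → t < m → cch A (x ^ s) (hxi s) χ ≠ cch A (x ^ t) (hxi t) χ := by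
      intro s t hst htm h
      apply hd (t - s) (by omega) (by omega)
      refine ⟨hxi _, ?_⟩
      have e1 : x ^ t = x ^ s * x ^ (t - s) := by rw [← pow_add]; congr 1; omega
      have h2 : cch A (x ^ t) (hxi t) χ = cch A (x ^ s) (hxi s) (cch A (x ^ (t - s)) (hxi _) χ) := by
        rw [← cch_mul A (x ^ s) (x ^ (t - s)) (hxi s) (hxi _) (e1 ▸ hxi t)]
        congr 1
      rw [h2] at h
      -- injectivity
      ext a
      have h3 : cch A (x ^ (t - s)) (hxi _) χ ⟨(x ^ s)⁻¹ * (x ^ s * a * (x ^ s)⁻¹) * x ^ s, conj_mem (hxi s) ((Subgroup.mem_normalizer_iff.1 (hxi s) a).1 a.2)⟩ =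
        χ ⟨(x ^ s)⁻¹ * (x ^ s * a * (x ^ s)⁻¹) * x ^ s, conj_mem (hxi s) ((Subgroup.mem_normalizer_iff.1 (hxi s) a).1 a.2)⟩ :=
        DFunLike.congr_fun h.symm ⟨x ^ s * a * (x ^ s)⁻¹, (Subgroup.mem_normalizer_iff.1 (hxi s) a).1 a.2⟩
      have e2 : (⟨(x ^ s)⁻¹ * (x ^ s * a * (x ^ s)⁻¹) * x ^ s, conj_mem (hxi s) ((Subgroup.mem_normalizer_iff.1 (hxi s) a).1 a.2)⟩ : A) = a :=
        Subtype.ext (by simp only; group)
      rw [e2] at h3
      rw [h3]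
    rcases lt_or_gt_of_ne hji with h2 | h2
    · exact key j i h2 hi heq.symm
    · exact key i j h2 hj' heq
  · intro h; exact absurd (Finset.mem_range.2 hi) h

end chars

section grp

variable {Γ : Type*} [Group Γ]

theorem exists_first (p n : ℕ) (hp : p.Prime) (x : Γ) (hx : orderOf x = p ^ n) (S : Subgroup Γ) :
    ∃ k ≤ n, x ^ (p ^ k) ∈ S ∧ ∀ j, 0 < j → j < p ^ k → x ^ j ∉ S := by
  classical
  have hex : ∃ k, x ^ (p ^ k) ∈ S := ⟨n, by rw [← hx, pow_orderOf_eq_one]; exact one_mem S⟩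
  refine ⟨Nat.find hex, Nat.find_min' hex (by rw [← hx, pow_orderOf_eq_one]; exact one_mem S), Nat.find_spec hex, ?_⟩
  intro j hj hjk hjS
  -- gcd
  obtain ⟨i, hi, hgi⟩ := (Nat.dvd_prime_pow hp).1 (Nat.gcd_dvd_right j (p ^ n))
  have h1 : x ^ (Nat.gcd j (p ^ n)) ∈ S := by
    have h2 : (x ^ (Nat.gcd j (p ^ n)) : Γ) = (x ^ j) ^ (Nat.gcdA j (p ^ n)) := by
      have h3 : ((Nat.gcd j (p ^ n) : ℕ) : ℤ) = j * Nat.gcdA j (p ^ n) + (p ^ n : ℕ) * Nat.gcdB j (p ^ n) :=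
        Nat.gcd_eq_gcd_ab _ _
      rw [← zpow_natCast, h3, zpow_add, zpow_mul, zpow_mul, zpow_natCast, zpow_natCast, ← hx, pow_orderOf_eq_one,
        one_zpow, mul_one]
    rw [h2]
    exact zpow_mem hjS _
  rw [hgi] at h1
  have h4 : i < Nat.find hex := by
    have h5 : p ^ i ≤ j := hgi ▸ Nat.le_of_dvd hj (Nat.gcd_dvd_left _ _)
    exact (Nat.pow_lt_pow_iff_right hp.one_lt).1 (lt_of_le_of_lt h5 hjk)
  exact Nat.find_min hex h4 h1

/-- every nontrivial power of a generator of a cyclic `p`-group of order `p^(n+1)` generates the element of order `p` -/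
theorem mem_zpowers_of_ne (p n : ℕ) (hp : p.Prime) (x : Γ) (hx : orderOf x = p ^ (n + 1)) (r : Γ)
    (hr : r ∈ Subgroup.zpowers x) (hr1 : r ≠ 1) : x ^ (p ^ n) ∈ Subgroup.zpowers r := by
  obtain ⟨k, hk, h1, h2⟩ := exists_first p (n + 1) hp x hx (Subgroup.zpowers r)
  have hk' : k ≤ n := by
    by_contra hcon
    have hkn : k = n + 1 := by omega
    subst hkn
    obtain ⟨j, hj⟩ : ∃ j : ℕ, r = x ^ j := by
      have hfin : IsOfFinOrder x := orderOf_pos_iff.1 (by rw [hx]; exact pow_pos hp.pos _)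
      obtain ⟨j, hj⟩ := hfin.mem_powers_iff_mem_zpowers.2 hr
      exact ⟨j, hj.symm⟩
    have h3 : r = x ^ (j % p ^ (n + 1)) := by rw [hj, ← hx, pow_mod_orderOf]
    rcases Nat.eq_zero_or_pos (j % p ^ (n + 1)) with h4 | h4
    · rw [h4, pow_zero] at h3; exact hr1 h3
    · exact h2 _ h4 (Nat.mod_lt _ (pow_pos hp.pos _)) (h3 ▸ Subgroup.mem_zpowers r)
  have : x ^ (p ^ n) = (x ^ (p ^ k)) ^ (p ^ (n - k)) := by
    rw [← pow_mul, ← pow_add]; congr 2; omega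
  rw [this]
  exact pow_mem h1 _

/-- the centre of `Q` modulo `K` -/
def cmod (Q K : Subgroup Γ) (hQK : Q ≤ normalizer (K : Set Γ)) : Subgroup Γ where
  carrier := {g | g ∈ Q ∧ ∀ h ∈ Q, g * h * g⁻¹ * h⁻¹ ∈ K}
  one_mem' := ⟨one_mem Q, fun h _ => by simp [one_mem]⟩
  mul_mem' := by
    rintro a b ⟨ha, ha'⟩ ⟨hb, hb'⟩
    refine ⟨mul_mem ha hb, fun h hh => ?_⟩
    have e : a * b * h * (a * b)⁻¹ * h⁻¹ = a * (b * h * b⁻¹ * h⁻¹) * a⁻¹ * (a * h * a⁻¹ * h⁻¹) := by group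
    rw [e]
    exact mul_mem ((Subgroup.mem_normalizer_iff.1 (hQK ha) _).1 (hb' h hh)) (ha' h hh)
  inv_mem' := by
    rintro a ⟨ha, ha'⟩
    refine ⟨inv_mem ha, fun h hh => ?_⟩
    have e : a⁻¹ * h * a⁻¹⁻¹ * h⁻¹ = a⁻¹ * (a * h * a⁻¹ * h⁻¹)⁻¹ * a⁻¹⁻¹ := by group
    rw [e]
    exact (Subgroup.mem_normalizer_iff.1 (hQK (inv_mem ha)) _).1 (inv_mem (ha' h hh))

theorem mem_cmod {Q K : Subgroup Γ} {hQK : Q ≤ normalizer (K : Set Γ)} {g : Γ} :
    g ∈ cmod Q K hQK ↔ g ∈ Q ∧ ∀ h ∈ Q, g * h * g⁻¹ * h⁻¹ ∈ K := Iff.rfl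

theorem cmod_le (Q K : Subgroup Γ) (hQK : Q ≤ normalizer (K : Set Γ)) : cmod Q K hQK ≤ Q := fun _ h => h.1

theorem le_normalizer_cmod (Q K : Subgroup Γ) (hQK : Q ≤ normalizer (K : Set Γ)) (x : Γ) (hxQ : x ∈ normalizer (Q : Set Γ))
    (hxK : x ∈ normalizer (K : Set Γ)) : x ∈ normalizer (cmod Q K hQK : Set Γ) := by
  have key : ∀ y, y ∈ normalizer (Q : Set Γ) → y ∈ normalizer (K : Set Γ) → ∀ g ∈ cmod Q K hQK, y * g * y⁻¹ ∈ cmod Q K hQK := by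
    rintro y hyQ hyK g ⟨hg, hg'⟩
    refine ⟨(Subgroup.mem_normalizer_iff.1 hyQ g).1 hg, fun h hh => ?_⟩
    have h1 : y⁻¹ * h * y ∈ Q := conj_mem hyQ hh
    have e : y * g * y⁻¹ * h * (y * g * y⁻¹)⁻¹ * h⁻¹ = y * (g * (y⁻¹ * h * y) * g⁻¹ * (y⁻¹ * h * y)⁻¹) * y⁻¹ := by group
    rw [e]
    exact (Subgroup.mem_normalizer_iff.1 hyK _).1 (hg' _ h1)
  rw [Subgroup.mem_normalizer_iff]
  intro g
  constructor
  · exact key x hxQ hxK g
  · intro h
    have h1 := key x⁻¹ (inv_mem hxQ) (inv_mem hxK) _ h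
    have e : x⁻¹ * (x * g * x⁻¹) * x⁻¹⁻¹ = g := by group
    rwa [e] at h1

end grp

theorem sum_split {F : Type*} [Field F] {V : Type*} [AddCommGroup V] [Module F V] {Γ : Type*} [Group Γ]
    (ρ : Γ →* Module.End F V) (x : Γ) (a b : ℕ) (v : V) :
    ∑ j ∈ Finset.range (a * b), ρ (x ^ j) v =
      ∑ i ∈ Finset.range a, ρ (x ^ i) (∑ l ∈ Finset.range b, ρ ((x ^ a) ^ l) v) := by
  induction b with
  | zero => simp
  | succ b ih =>
    rw [mul_add, mul_one, Finset.sum_range_add, ih, ← Finset.sum_add_distrib]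
    refine Finset.sum_congr rfl fun i _ => ?_
    rw [Finset.sum_range_succ, map_add, ← apply_mul, ← pow_mul, ← pow_add]
    congr 3
    rw [add_comm]

end H1.StrLem
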