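import Mathlib
import Cfsg.Agent.Lib.H1.StrLem

set_option autoImplicit false

/-! Structure lemma: a cyclic `p`-group acting on a `q`-group of class two without regular orbit. -/

namespace H1.StrLem

open scoped commutatorElement
open Module H30.Wts H30.FixRep H30.FrobDim H30.EndRep H30.EndRep2 H30.EndRep3 Subgroup H1.Crit H1.CritSub

section kr

variable {F : Type*} [Field F] {Γ : Type*} [Group Γ]

/-- kernel of a character, as a subgroup of the ambient group -/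
def kr (Z : Subgroup Γ) (χ : Z →* Fˣ) : Subgroup Γ := χ.ker.map Z.subtype

theorem mem_kr {Z : Subgroup Γ} {χ : Z →* Fˣ} {a : Γ} : a ∈ kr Z χ ↔ ∃ h : a ∈ Z, χ ⟨a, h⟩ = 1 := by
  constructor
  · rintro ⟨⟨b, hb⟩, hb', rfl⟩
    exact ⟨hb, hb'⟩
  · rintro ⟨h, h'⟩
    exact ⟨⟨a, h⟩, h', rfl⟩

theorem kr_le (Z : Subgroup Γ) (χ : Z →* Fˣ) : kr Z χ ≤ Z := fun _ h => (mem_kr.1 h).1

theorem le_normalizer_kr {Q Z : Subgroup Γ} (χ : Z →* Fˣ) (h : Q ≤ centralizer (Z : Set Γ)) :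
    Q ≤ normalizer (kr Z χ : Set Γ) := by
  intro g hg
  rw [Subgroup.mem_normalizer_iff]
  intro a
  constructor
  · intro ha
    have h1 := mem_centralizer_iff.1 (h hg) a (kr_le Z χ ha)
    have : g * a * g⁻¹ = a := by rw [← h1]; group
    rwa [this]
  · intro ha
    have h1 := mem_centralizer_iff.1 (h hg) _ (kr_le Z χ ha)
    have : a = g * a * g⁻¹ := by
      have h2 : g * a * g⁻¹ * g = g * (g * a * g⁻¹) := h1
      have h3 : g * a = g * (g * a * g⁻¹) := by rw [← h2]; group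
      exact mul_left_cancel h3
    rw [this]; exact ha

theorem St_le_normalizer_kr (Z : Subgroup Γ) (χ : Z →* Fˣ) : St Z χ ≤ normalizer (kr Z χ : Set Γ) := by
  have key : ∀ g ∈ St Z χ, ∀ a ∈ kr Z χ, g⁻¹ * a * g ∈ kr Z χ := by
    rintro g ⟨hg, hg'⟩ a ha
    obtain ⟨h1, h2⟩ := mem_kr.1 ha
    refine mem_kr.2 ⟨conj_mem hg h1, ?_⟩
    have h3 := DFunLike.congr_fun hg' ⟨a, h1⟩
    rw [cch_apply, h2] at h3
    exact h3
  intro g hg
  rw [Subgroup.mem_normalizer_iff]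
  intro a
  constructor
  · intro ha
    have := key g⁻¹ (inv_mem hg) a ha
    rwa [inv_inv] at this
  · intro ha
    have := key g hg _ ha
    have e : g⁻¹ * (g * a * g⁻¹) * g = a := by group
    rwa [e] at this

end kr

variable {F : Type*} [Field F] [IsAlgClosed F] {V : Type*} [AddCommGroup V] [Module F V] [FiniteDimensional F V]
  {Γ : Type*} [Group Γ] [Finite Γ]

/-- the set-up: `x` of order `p^(n+1)` acts on the `q`-group `Q` of class two modulo `Z ≤ Z(Q)`, the subgroup of order `p`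
has its fixed points in `Z`, and `x` has no regular orbit on `V` -/
structure Setup (ρ : Γ →* Module.End F V) (p q n : ℕ) (x : Γ) (Q Z : Subgroup Γ) : Prop where
  hpq : p ≠ q
  hqF : (q : F) ≠ 0
  hx : orderOf x = p ^ (n + 1)
  hQ : IsPGroup q Q
  hxQ : x ∈ normalizer (Q : Set Γ)
  hZQ : Z ≤ Q
  hxZ : x ∈ normalizer (Z : Set Γ)
  hQZ : Q ≤ centralizer (Z : Set Γ)
  hab : ∀ a ∈ Q, ∀ b ∈ Q, a * b * a⁻¹ * b⁻¹ ∈ Z
  hy : ∀ g ∈ Q, x ^ (p ^ n) * g = g * x ^ (p ^ n) → g ∈ Z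
  hT : ∀ v, ∑ j ∈ Finset.range (p ^ (n + 1)), ρ (x ^ j) v = 0

omit [IsAlgClosed F] [FiniteDimensional F V] [Finite Γ] in
theorem card_ne (q : ℕ) [Fact q.Prime] (hqF : (q : F) ≠ 0) {Q : Subgroup Γ} [Finite Q] (hQ : IsPGroup q Q) : (Nat.card Q : F) ≠ 0 := by
  obtain ⟨a, ha⟩ := IsPGroup.iff_card.1 hQ
  rw [ha, Nat.cast_pow]
  exact pow_ne_zero _ hqF

theorem main {ρ : Γ →* Module.End F V} {p q n : ℕ} [hp : Fact p.Prime] [hq : Fact q.Prime] {x : Γ} {Q Z : Subgroup Γ}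
    (S : Setup ρ p q n x Q Z) (χ : Z →* Fˣ) (hχ : wt (ρ.comp Z.subtype) χ ≠ ⊥)
    (hne : ∃ a ∈ Q, ∃ b ∈ Q, a * b * a⁻¹ * b⁻¹ ∉ kr Z χ) :
    ∃ k ≤ n, x ^ (p ^ k) ∈ St Z χ ∧ (∀ j, 0 < j → j < p ^ k → x ^ j ∉ St Z χ) ∧
      (p ^ (n + 1 - k) - 1) ^ 2 = (cmod Q (kr Z χ) (le_normalizer_kr χ S.hQZ)).relIndex Q ∧
      (∃ m, 1 ≤ m ∧ p ^ (n + 1 - k) - 1 = q ^ m) ∧
      ((p : F) = 0 → ∃ v, ((ρ x - 1) ^ (p ^ k * (p ^ (n + 1 - k) - 1) - 1)) v ≠ 0) := by
  classical
  set τ := ρ.comp Z.subtype with hτ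
  have hZp : IsPGroup q Z := S.hQ.to_le S.hZQ
  have hZF : (Nat.card Z : F) ≠ 0 := card_ne q S.hqF hZp
  have hQF : (Nat.card Q : F) ≠ 0 := card_ne q S.hqF S.hQ
  have hppos : ∀ m, 0 < p ^ m := fun m => pow_pos hp.out.pos m
  obtain ⟨k, hk, hk1, hk2⟩ := exists_first p (n + 1) hp.out x S.hx (St Z χ)
  obtain ⟨v0, hv0, hv0'⟩ := Submodule.exists_mem_ne_zero_of_ne_bot hχ
  have hkn : k ≤ n := by
    by_contra hcon
    have hkn : k = n + 1 := by omega
    rw [hkn] at hk2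
    have := regular ρ Z hZF x S.hxZ χ (p ^ (n + 1)) hk2 (fun _ => v0) (fun _ _ => hv0) (S.hT v0) 0 (hppos _)
    exact hv0' this
  set x' := x ^ (p ^ k) with hx'
  set W := wt τ χ with hW
  have hord : orderOf x' = p ^ (n + 1 - k) := by
    rw [hx', orderOf_pow_of_dvd (by have := hppos k; omega) (by rw [S.hx]; exact pow_dvd_pow p (by omega)), S.hx]
    rw [Nat.pow_div (by omega) hp.out.pos]
  have hyx' : x ^ (p ^ n) ∈ Subgroup.zpowers x' := by
    have : x ^ (p ^ n) = x' ^ (p ^ (n - k)) := by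
      rw [hx', ← pow_mul, ← pow_add]; congr 2; omega
    rw [this]
    exact pow_mem (Subgroup.mem_zpowers _) _
  set y := x ^ (p ^ n) with hy
  have hx'Q : x' ∈ normalizer (Q : Set Γ) := pow_mem S.hxQ _
  have hR_Q : Subgroup.zpowers x' ≤ normalizer (Q : Set Γ) := by rw [Subgroup.zpowers_le]; exact hx'Q
  have hyQ : y ∈ normalizer (Q : Set Γ) := pow_mem S.hxQ _
  have hx'K : x' ∈ normalizer (kr Z χ : Set Γ) := St_le_normalizer_kr Z χ hk1
  set C := cmod Q (kr Z χ) (le_normalizer_kr χ S.hQZ) with hC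
  have hCQ : C ≤ Q := cmod_le _ _ _
  have hx'C : x' ∈ normalizer (C : Set Γ) := le_normalizer_cmod Q _ _ x' hx'Q hx'K
  have hR_C : Subgroup.zpowers x' ≤ normalizer (C : Set Γ) := by rw [Subgroup.zpowers_le]; exact hx'C
  have hQC : Q ≤ normalizer (C : Set Γ) := fun g hg =>
    le_normalizer_cmod Q _ _ g (Q.le_normalizer hg) (le_normalizer_kr χ S.hQZ hg)
  have hZC : Z ≤ C := by
    intro z hz
    refine ⟨S.hZQ hz, fun h hh => ?_⟩
    have h1 := mem_centralizer_iff.1 (S.hQZ hh) z hz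
    have : z * h * z⁻¹ * h⁻¹ = 1 := by
      rw [h1]; group
    rw [this]; exact one_mem _
  -- action of `Z` on `W`
  have hZW : ∀ z (hz : z ∈ Z), ∀ v ∈ W, ρ z v = (χ ⟨z, hz⟩ : F) • v := fun z hz v hv => hv ⟨z, hz⟩
  have hKW : ∀ z ∈ kr Z χ, ∀ v ∈ W, ρ z v = v := by
    intro z hz v hv
    obtain ⟨h1, h2⟩ := mem_kr.1 hz
    rw [hZW z h1 v hv, h2, Units.val_one, one_smul]
  have hWinv : Inv ρ Q (Subgroup.zpowers x') W := by
    refine ⟨?_, ?_⟩
    · intro g hg v hv z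
      show ρ z (ρ g v) = _
      have h1 := mem_centralizer_iff.1 (S.hQZ hg) z z.2
      rw [← apply_mul, h1, apply_mul, hZW z z.2 v hv, map_smul]
    · intro g hg v hv
      have : g ∈ St Z χ := (Subgroup.zpowers_le.2 hk1) hg
      exact map_wt_St ρ Z g this hv
  -- the norm of `x'` vanishes on `W`
  have hT' : ∀ v ∈ W, ∑ l ∈ Finset.range (p ^ (n + 1 - k)), ρ (x' ^ l) v = 0 := by
    intro v hv
    have h1 := S.hT v
    have h2 : p ^ (n + 1) = p ^ k * p ^ (n + 1 - k) := by rw [← pow_add]; congr 1; omega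
    rw [h2, sum_split] at h1
    refine regular ρ Z hZF x S.hxZ χ (p ^ k) hk2 (fun _ => ∑ l ∈ Finset.range (p ^ (n + 1 - k)), ρ (x' ^ l) v) ?_ h1 0 (hppos _)
    intro _ _
    refine Submodule.sum_mem _ fun l _ => ?_
    exact hWinv.2 _ (pow_mem (Subgroup.mem_zpowers x') l) v hv
  obtain ⟨M, hMW, hM⟩ := exists_min ρ Q (Subgroup.zpowers x') W hχ hWinv
  have hyinv : ∀ c ∈ C, y * c * y⁻¹ ∈ C := fun c hc => 
    (Subgroup.mem_normalizer_iff.1 ((Subgroup.zpowers_le.2 hx'C) hyx') c).1 hc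
  -- claim A
  have hCF : (Nat.card C : F) ≠ 0 := card_ne q S.hqF (S.hQ.to_le hCQ)
  have hCM : ∀ g : C, ∀ v ∈ M, (ρ.comp C.subtype) g v ∈ M := fun g v hv => hM.2.1.1 g (hCQ g.2) v hv
  have hclA : ∀ c ∈ C, ∀ v ∈ M, ρ (y * c * y⁻¹ * c⁻¹) v = v := by
    set σ := sub (ρ.comp C.subtype) M hCM with hσ
    have hσc : ∀ a ∈ commutator C, σ a = 1 := by
      have h1 : commutator C ≤ σ.ker := by
        rw [commutator_def, Subgroup.commutator_le]
        intro a _ b _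
        rw [MonoidHom.mem_ker]
        ext v
        show ρ ((a : Γ) * b * (a : Γ)⁻¹ * (b : Γ)⁻¹) v = v
        exact hKW _ (a.2.2 b (hCQ b.2)) v (hMW v.2)
      intro a ha
      exact h1 ha
    haveI : Finite (C →* Fˣ) := finite_dual hCF
    letI := Fintype.ofFinite (C →* Fˣ)
    letI := Fintype.ofFinite C
    -- on weight vectors
    have hw : ∀ (μ : C →* Fˣ) (v : V), v ∈ M → v ∈ wt (ρ.comp C.subtype) μ → ∀ c ∈ C, ρ (y * c * y⁻¹ * c⁻¹) v = v := by
      intro μ v hvM hv c hc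
      by_cases hv0 : v = 0
      · rw [hv0, map_zero]
      have hySt : y ∈ St C μ := by
        by_contra hcon
        have h1 : ∀ j, 0 < j → j < p ^ (n + 1 - k) → x' ^ j ∉ St C μ := by
          intro j hj hj' hcon'
          apply hcon
          have h2 : x' ^ j ≠ 1 := by
            intro h
            have := orderOf_dvd_of_pow_eq_one h
            rw [hord] at this
            exact absurd (Nat.le_of_dvd hj this) (by omega)
          obtain ⟨m, hm⟩ : ∃ m, n + 1 - k = m + 1 := ⟨n - k, by omega⟩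
          have h3 := mem_zpowers_of_ne p m hp.out x' (by rw [hord, hm]) (x' ^ j) (pow_mem (Subgroup.mem_zpowers _) _) h2
          have h4 : x' ^ (p ^ m) = y := by
            rw [hy, hx', ← pow_mul, ← pow_add]; congr 2; omega
          rw [h4] at h3
          exact (Subgroup.zpowers_le.2 hcon') h3
        have h2 := regular ρ C hCF x' hx'C μ (p ^ (n + 1 - k)) h1 (fun _ => v) (fun _ _ => hv) (hT' v (hMW hvM)) 0 (hppos _)
        exact hv0 h2
      obtain ⟨h1, h2⟩ := inv_mem hySt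
      have h3 := DFunLike.congr_fun h2 ⟨c, hc⟩
      rw [cch_apply] at h3
      have h4 : ρ (y * c * y⁻¹) v = (μ ⟨c, hc⟩ : F) • v := by
        have h5 := hv ⟨y⁻¹⁻¹ * c * y⁻¹, conj_mem h1 hc⟩
        rw [h3] at h5
        have h6 : ρ (y⁻¹⁻¹ * c * y⁻¹) v = (μ ⟨c, hc⟩ : F) • v := h5
        rwa [inv_inv] at h6
      have h5 : ρ c v = (μ ⟨c, hc⟩ : F) • v := hv ⟨c, hc⟩
      have h6 : ρ c⁻¹ v = (μ ⟨c, hc⟩ : F)⁻¹ • v := by
        have h7 := apply_inv_apply ρ c v
        rw [h5, map_smul] at h7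
        rw [← h7, smul_smul, inv_mul_cancel₀ (Units.ne_zero _), one_smul, h7]
      rw [apply_mul, h6, map_smul, h4, smul_smul, inv_mul_cancel₀ (Units.ne_zero _), one_smul]
    intro c hc v hv
    have h1 := eq_sum_proj hCF σ hσc ⟨v, hv⟩
    have h2 : v = ∑ μ : C →* Fˣ, ((proj σ μ ⟨v, hv⟩ : M) : V) := by
      have := congrArg Subtype.val h1
      rw [AddSubmonoidClass.coe_finsetSum] at this
      exact this.symm
    rw [h2, map_sum]
    refine Finset.sum_congr rfl fun μ _ => ?_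
    refine hw μ _ (proj σ μ ⟨v, hv⟩).2 ?_ c hc
    intro a
    have := congrArg Subtype.val (proj_mem σ μ ⟨v, hv⟩ a)
    exact this
  -- powers of `y`
  have hclA' : ∀ j : ℕ, ∀ c ∈ C, ∀ v ∈ M, ρ (y ^ j * c * (y ^ j)⁻¹ * c⁻¹) v = v := by
    intro j
    induction j with
    | zero => intro c hc v hv; simp
    | succ j ih =>
      intro c hc v hv
      have h1 := hyinv c hc
      have e : y ^ (j + 1) * c * (y ^ (j + 1))⁻¹ * c⁻¹ =
        (y ^ j * (y * c * y⁻¹) * (y ^ j)⁻¹ * (y * c * y⁻¹)⁻¹) * (y * c * y⁻¹ * c⁻¹) := by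
        rw [pow_succ]; group
      rw [e, apply_mul, hclA c hc v hv, ih _ h1 v hv]
  have hzy : ∀ r ∈ Subgroup.zpowers y, ∃ j : ℕ, r = y ^ j := by
    intro r hr
    obtain ⟨j, hj⟩ := (isOfFinOrder_of_finite y).mem_powers_iff_mem_zpowers.2 hr
    exact ⟨j, hj.symm⟩
  have hcop : (Nat.card (Subgroup.zpowers y)).Coprime (Nat.card Q) := by
    obtain ⟨a, ha⟩ := IsPGroup.iff_card.1 S.hQ
    rw [ha, Nat.card_zpowers]
    have h1 : orderOf y ∣ p ^ (n + 1) := by
      apply orderOf_dvd_of_pow_eq_one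
      rw [hy, ← pow_mul, mul_comm, pow_mul, ← S.hx, pow_orderOf_eq_one, one_pow]
    exact Nat.Coprime.coprime_dvd_left h1 (Nat.Coprime.pow _ _ ((Nat.coprime_primes hp.out hq.out).2 S.hpq))
  have hsolvy : Group.IsSolvable (Subgroup.zpowers y) := by infer_instance
  have hzyC : Subgroup.zpowers y ≤ normalizer (C : Set Γ) := by
    rw [Subgroup.zpowers_le]; exact (Subgroup.zpowers_le.2 hx'C) hyx'
  have hzyQ : Subgroup.zpowers y ≤ normalizer (Q : Set Γ) := by rw [Subgroup.zpowers_le]; exact hyQ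
  -- claim B
  have hclB : ∀ c ∈ C, ∃ a : F, ∀ v ∈ M, ρ c v = a • v := by
    intro c hc
    have hcopC : (Nat.card (Subgroup.zpowers y)).Coprime (Nat.card C) :=
      Nat.Coprime.coprime_dvd_right (Subgroup.card_dvd_of_le hCQ) hcop
    obtain ⟨u, hu, z, hz, rfl⟩ := H1.Coprime2.exists_mul_of_mem (Subgroup.zpowers y) C hzyC hcopC (Or.inl hsolvy) hc
    have hzZ : z ∈ Z := by
      apply S.hy z (hCQ hz.1)
      exact mem_centralizer_iff.1 hz.2 y (Subgroup.mem_zpowers y)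
    -- `u` acts trivially
    let T : Subgroup Γ :=
      { carrier := {g | ∀ v ∈ M, ρ g v = v}
        one_mem' := fun v _ => by rw [map_one]; rfl
        mul_mem' := by
          intro a b ha hb v hv
          rw [apply_mul, hb v hv, ha v hv]
        inv_mem' := by
          intro a ha v hv
          conv_lhs => rw [← ha v hv]
          exact apply_inv_apply ρ a v }
    have huT : ⁅C, Subgroup.zpowers y⁆ ≤ T := by
      rw [Subgroup.commutator_le]
      intro d hd r hr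
      obtain ⟨j, rfl⟩ := hzy r hr
      have h1 : y ^ j * d * (y ^ j)⁻¹ * d⁻¹ ∈ T := fun v hv => hclA' j d hd v hv
      have h2 : ⁅d, y ^ j⁆ = (y ^ j * d * (y ^ j)⁻¹ * d⁻¹)⁻¹ := by
        rw [commutatorElement_def]; group
      rw [h2]
      exact inv_mem h1
    refine ⟨χ ⟨z, hzZ⟩, fun v hv => ?_⟩
    rw [apply_mul, hZW z hzZ v (hMW hv), map_smul, huT hu v hv]
  -- fixed point freeness modulo `C`
  have hfp : ∀ r ∈ Subgroup.zpowers x', r ≠ 1 → ∀ g ∈ Q, r * g * r⁻¹ * g⁻¹ ∈ C → g ∈ C := by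
    intro r hr hr1 g hg hrg
    have hrx : r ∈ Subgroup.zpowers x := by
      have : Subgroup.zpowers x' ≤ Subgroup.zpowers x := by
        rw [Subgroup.zpowers_le]; exact pow_mem (Subgroup.mem_zpowers x) _
      exact this hr
    have hyr := mem_zpowers_of_ne p n hp.out x S.hx r hrx hr1
    have hrC : r ∈ normalizer (C : Set Γ) := hR_C hr
    have h1 : ∀ j : ℕ, r ^ j * g * (r ^ j)⁻¹ * g⁻¹ ∈ C := by
      intro j
      induction j with
      | zero => simp [one_mem]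
      | succ j ih =>
        have e : r ^ (j + 1) * g * (r ^ (j + 1))⁻¹ * g⁻¹ = r * (r ^ j * g * (r ^ j)⁻¹ * g⁻¹) * r⁻¹ * (r * g * r⁻¹ * g⁻¹) := by
          rw [pow_succ']; group
        rw [e]
        exact mul_mem ((Subgroup.mem_normalizer_iff.1 hrC _).1 ih) hrg
    have h2 : ∀ a ∈ Subgroup.zpowers y, a * g * a⁻¹ * g⁻¹ ∈ C := by
      intro a ha
      have h3 : a ∈ Subgroup.zpowers r := (Subgroup.zpowers_le.2 hyr) ha
      obtain ⟨j, hj⟩ := (isOfFinOrder_of_finite r).mem_powers_iff_mem_zpowers.2 h3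
      rw [← hj]
      exact h1 j
    obtain ⟨c, hc, hgc⟩ := H1.Coprime.exists_fixed_of_coset_fixed (Subgroup.zpowers y) Q hzyQ hcop (Or.inl hsolvy) C hCQ hQC hzyC
      g hg h2
    have h3 : c ∈ Z := S.hy c hc.1 (mem_centralizer_iff.1 hc.2 y (Subgroup.mem_zpowers y))
    have h4 : g = c * (g⁻¹ * c)⁻¹ := by group
    rw [h4]
    exact mul_mem (hZC h3) (inv_mem hgc)
  have hab : ∀ a ∈ Q, ∀ b ∈ Q, a * b * a⁻¹ * b⁻¹ ∈ C := fun a ha b hb => hZC (S.hab a ha b hb)
  obtain ⟨v1, hv1, hv1'⟩ := Submodule.exists_mem_ne_zero_of_ne_bot hM.1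
  have hnd : ∀ t ∈ Q, (∀ y ∈ Q, ∀ v ∈ M, ρ (y * t * y⁻¹ * t⁻¹) v = v) → t ∈ C := by
    intro t ht h
    refine ⟨ht, fun g hg => ?_⟩
    have h1 := h g hg v1 hv1
    have h2 := S.hab g hg t ht
    rw [hZW _ h2 v1 (hMW hv1)] at h1
    have h3 : (χ ⟨g * t * g⁻¹ * t⁻¹, h2⟩ : F) = 1 := by
      have h4 : ((χ ⟨g * t * g⁻¹ * t⁻¹, h2⟩ : F) - 1) • v1 = 0 := by rw [sub_smul, h1, one_smul, sub_self]
      rcases smul_eq_zero.1 h4 with h5 | h5
      · exact sub_eq_zero.1 h5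
      · exact absurd h5 hv1'
    have h4 : g * t * g⁻¹ * t⁻¹ ∈ kr Z χ := mem_kr.2 ⟨h2, Units.ext (by rw [h3, Units.val_one])⟩
    have h5 : t * g * t⁻¹ * g⁻¹ = (g * t * g⁻¹ * t⁻¹)⁻¹ := by group
    rw [h5]
    exact inv_mem h4
  have hCne : C ≠ Q := by
    intro h
    obtain ⟨a, ha, b, hb, hab'⟩ := hne
    exact hab' ((h ▸ ha : a ∈ C).2 b hb)
  have hQs : Group.IsSolvable Q := by
    haveI := S.hQ.isNilpotent
    infer_instance
  have hRQ : Subgroup.zpowers x' ⊓ Q = ⊥ := by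
    apply H1.Coprime.inf_eq_bot_of_coprime_card
    obtain ⟨a, ha⟩ := IsPGroup.iff_card.1 S.hQ
    rw [ha, Nat.card_zpowers, hord]
    exact Nat.Coprime.pow _ _ ((Nat.coprime_primes hp.out hq.out).2 S.hpq)
  -- the conclusion on the index
  have hidx : (p ^ (n + 1 - k) - 1) ^ 2 = C.relIndex Q ∧
      ((p : F) = 0 → ∃ v ∈ M, ((ρ x' - 1) ^ (p ^ (n + 1 - k) - 2)) v ≠ 0) := by
    by_cases hpF : (p : F) = 0
    · haveI : CharP F p := by
        obtain ⟨r, hr⟩ := CharP.exists F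
        have h1 := (CharP.cast_eq_zero_iff F r p).1 hpF
        have h2 : r = p := by
          rcases (Nat.dvd_prime hp.out).1 h1 with h | h
          · exact absurd h (CharP.char_ne_one F r)
          · exact h
        exact h2 ▸ hr
      have h1 := modular_sub ρ p (n + 1 - k) x' hord Q C hCQ hR_Q hQC hR_C hQs hQF hRQ M hM hclB hfp hab hnd hCne (by
        intro v hv
        rw [sub_one_pow p (n + 1 - k), LinearMap.sum_apply, ← hT' v (hMW hv)]
        exact Finset.sum_congr rfl fun i _ => by rw [map_pow ρ x' i])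
      exact ⟨h1.2.1, fun _ => h1.2.2⟩
    · have h1 := coprime_sub ρ (Subgroup.zpowers x') Q C hCQ hR_Q hQC hR_C hQs hQF hRQ M hM hclB hfp hab hnd hCne
        (by rw [Nat.card_zpowers, hord, Nat.cast_pow]; exact pow_ne_zero _ hpF)
        (by
          rintro _ ⟨i, rfl⟩ _ ⟨j, rfl⟩
          exact zpow_mul_comm _ _ _)
        (by
          intro v hv hfix
          have h2 := hT' v (hMW hv)
          have h3 : ∀ l ∈ Finset.range (p ^ (n + 1 - k)), ρ (x' ^ l) v = v := fun l _ => hfix _ (pow_mem (Subgroup.mem_zpowers _) _)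
          rw [Finset.sum_congr rfl h3, Finset.sum_const, Finset.card_range, ← Nat.cast_smul_eq_nsmul F, Nat.cast_pow] at h2
          rcases smul_eq_zero.1 h2 with h4 | h4
          · exact absurd h4 (pow_ne_zero _ hpF)
          · exact h4)
      rw [Nat.card_zpowers, hord] at h1
      exact ⟨h1.2, fun h => absurd h hpF⟩
  refine ⟨k, hkn, hk1, hk2, hidx.1, ?_, ?_⟩
  · -- a power of `q`
    haveI : (C.subgroupOf Q).Normal := Subgroup.normal_subgroupOf_of_le_normalizer hQC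
    obtain ⟨a, ha⟩ := S.hQ.index (C.subgroupOf Q)
    have h1 : (p ^ (n + 1 - k) - 1) ^ 2 = q ^ a := by rw [hidx.1]; exact ha
    obtain ⟨m, hm, hm'⟩ := (Nat.dvd_prime_pow hq.out).1 (h1 ▸ dvd_pow_self (p ^ (n + 1 - k) - 1) two_ne_zero)
    refine ⟨m, ?_, hm'⟩
    by_contra hcon
    have h2 : m = 0 := by omega
    rw [h2, pow_zero] at hm'
    have h3 := hidx.1
    rw [hm', one_pow] at h3
    exact hCne (le_antisymm hCQ (Subgroup.relIndex_eq_one.1 h3.symm))
  · intro hpF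
    haveI : CharP F p := by
      obtain ⟨r, hr⟩ := CharP.exists F
      have h1 := (CharP.cast_eq_zero_iff F r p).1 hpF
      have h2 : r = p := by
        rcases (Nat.dvd_prime hp.out).1 h1 with h | h
        · exact absurd h (CharP.char_ne_one F r)
        · exact h
      exact h2 ▸ hr
    obtain ⟨v, hv, hv'⟩ := hidx.2 hpF
    refine ⟨v, fun h => hv' ?_⟩
    have hP2 : 2 ≤ p ^ (n + 1 - k) := by
      calc 2 ≤ p := hp.out.two_le
        _ = p ^ 1 := (pow_one p).symm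
        _ ≤ _ := Nat.pow_le_pow_right hp.out.pos (by omega)
    have h1 : p ^ k * (p ^ (n + 1 - k) - 1) - 1 = (p ^ k - 1) + p ^ k * (p ^ (n + 1 - k) - 2) := by
      obtain ⟨m, hm⟩ : ∃ m, p ^ (n + 1 - k) = m + 2 := ⟨_, (Nat.sub_add_cancel hP2).symm⟩
      rw [hm]
      have := hppos k
      have h2 : p ^ k * (m + 2 - 1) = p ^ k + p ^ k * m := by
        rw [show m + 2 - 1 = 1 + m from by omega, mul_add, mul_one]
      rw [h2, show m + 2 - 2 = m from by omega]
      omega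
    rw [h1, pow_add, pow_mul, sub_one_pow' p k, sub_one_pow p k] at h
    set u := ((ρ x' - 1) ^ (p ^ (n + 1 - k) - 2)) v with hu
    have huW : u ∈ W := by
      have h2 : ∀ m : ℕ, ((ρ x' - 1) ^ m) v ∈ W := by
        intro m
        induction m with
        | zero => exact hMW hv
        | succ m ih =>
          rw [pow_succ']
          show (ρ x' - 1) (((ρ x' - 1) ^ m) v) ∈ W
          rw [LinearMap.sub_apply]
          exact Submodule.sub_mem _ (hWinv.2 x' (Subgroup.mem_zpowers x') _ ih) ih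
      exact h2 _
    have h3 : ∑ i ∈ Finset.range (p ^ k), ρ (x ^ i) u = 0 := by
      have h4 : ρ x ^ (p ^ k) = ρ x' := by rw [hx', map_pow]
      rw [h4] at h
      have h5 : (∑ i ∈ Finset.range (p ^ k), ρ x ^ i) u = 0 := h
      rw [LinearMap.sum_apply] at h5
      rw [← h5]
      exact Finset.sum_congr rfl fun i _ => by rw [map_pow]
    exact regular ρ Z hZF x S.hxZ χ (p ^ k) hk2 (fun _ => u) (fun _ _ => huW) h3 0 (hppos _)

end H1.StrLem
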