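import Mathlib
import Cfsg.Agent.Lib.H1.StrLem2

set_option autoImplicit false

/-! Theorem B of Hall–Higman (in all characteristics): absence of a regular orbit forces the exceptional situation. -/

namespace H1.ThmB

open scoped commutatorElement
open Module H30.Wts H30.FixRep Subgroup H1.Crit H1.CritSub H1.StrLem

section grp

variable {Γ : Type*} [Group Γ] [Finite Γ]

/-- `Q` is a minimal `x`-invariant `q`-group not centralised by `y` -/
structure MinQ (q : ℕ) (x y : Γ) (Q : Subgroup Γ) : Prop where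
  hQ : IsPGroup q Q
  hx : x ∈ normalizer (Q : Set Γ)
  hy : y ∉ centralizer (Q : Set Γ)
  min : ∀ Q₁ ≤ Q, x ∈ normalizer (Q₁ : Set Γ) → Q₁ ≠ Q → y ∈ centralizer (Q₁ : Set Γ)

theorem exists_minQ (q : ℕ) (x y : Γ) (Q : Subgroup Γ) (hQ : IsPGroup q Q) (hx : x ∈ normalizer (Q : Set Γ))
    (hy : y ∉ centralizer (Q : Set Γ)) : ∃ Q₀ ≤ Q, MinQ q x y Q₀ := by
  obtain ⟨n, hn⟩ : ∃ n, Nat.card Q = n := ⟨_, rfl⟩
  induction n using Nat.strong_induction_on generalizing Q with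
  | _ n ih =>
    by_cases h : ∀ Q₁ ≤ Q, x ∈ normalizer (Q₁ : Set Γ) → Q₁ ≠ Q → y ∈ centralizer (Q₁ : Set Γ)
    · exact ⟨Q, le_rfl, hQ, hx, hy, h⟩
    · push Not at h
      obtain ⟨Q₁, h1, h2, h3, h4⟩ := h
      have h5 : Nat.card Q₁ < n := by
        rw [← hn]
        exact lt_of_le_of_ne (Subgroup.card_le_of_le h1) (fun h => h3 (Subgroup.eq_of_le_of_card_ge h1 h.ge))
      obtain ⟨Q₀, h6, h7⟩ := ih _ h5 Q₁ (hQ.to_le h1) h2 h4 rfl
      exact ⟨Q₀, h6.trans h1, h7⟩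

variable {p q n : ℕ} [hp : Fact p.Prime] [hq : Fact q.Prime] {x : Γ} {Q : Subgroup Γ}

omit [Finite Γ] in
theorem mem_centralizer_zpowers {y : Γ} {K : Subgroup Γ} : y ∈ centralizer (K : Set Γ) ↔ Subgroup.zpowers y ≤ centralizer (K : Set Γ) := by
  rw [Subgroup.zpowers_le]

omit [Finite Γ] hq in
theorem orderOf_y (hx : orderOf x = p ^ (n + 1)) : orderOf (x ^ (p ^ n)) = p := by
  rw [orderOf_pow_of_dvd (pow_ne_zero _ hp.out.ne_zero) (by rw [hx]; exact pow_dvd_pow p (by omega)), hx]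
  rw [Nat.pow_div (by omega) hp.out.pos]
  simp

theorem coprime_y (hpq : p ≠ q) (hx : orderOf x = p ^ (n + 1)) (hQ : IsPGroup q Q) :
    (Nat.card (Subgroup.zpowers (x ^ (p ^ n)))).Coprime (Nat.card Q) := by
  obtain ⟨a, ha⟩ := IsPGroup.iff_card.1 hQ
  rw [ha, Nat.card_zpowers, orderOf_y hx]
  exact Nat.Coprime.pow_right _ ((Nat.coprime_primes hp.out hq.out).2 hpq)

omit [Finite Γ] in
theorem zpowers_le_normalizer_pow (x : Γ) (m : ℕ) :
    Subgroup.zpowers x ≤ normalizer (Subgroup.zpowers (x ^ m) : Set Γ) := by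
  apply H1.Coprime.le_normalizer_of_conj_mem
  rintro _ ⟨i, rfl⟩ _ ⟨j, rfl⟩
  refine ⟨j, ?_⟩
  show (x ^ m) ^ j = x ^ i * (x ^ m) ^ j * (x ^ i)⁻¹
  have h1 : x ^ i * (x ^ m) ^ j = (x ^ m) ^ j * x ^ i := by
    rw [← zpow_natCast x m, ← zpow_mul, zpow_mul_comm]
  rw [h1, mul_inv_cancel_right]

theorem commutator_eq (hpq : p ≠ q) (hx : orderOf x = p ^ (n + 1)) (hM : MinQ q x (x ^ (p ^ n)) Q) :
    ⁅Q, Subgroup.zpowers (x ^ (p ^ n))⁆ = Q := by
  set y := x ^ (p ^ n) with hy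
  have hyQ : Subgroup.zpowers y ≤ normalizer (Q : Set Γ) := by rw [Subgroup.zpowers_le]; exact pow_mem hM.hx _
  have hcop := coprime_y hpq hx hM.hQ
  have hsolv : Group.IsSolvable (Subgroup.zpowers y) := by infer_instance
  by_contra hne
  have h1 := hM.min ⁅Q, Subgroup.zpowers y⁆ (H1.Coprime2.commutator_le_left hyQ)
    (H1.Coprime2.le_normalizer_commutator (B := Subgroup.zpowers x) (by rw [Subgroup.zpowers_le]; exact hM.hx)
      (zpowers_le_normalizer_pow x _) (Subgroup.mem_zpowers x)) hne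
  apply hM.hy
  rw [mem_centralizer_zpowers] at h1 ⊢
  have h2 : ⁅⁅Q, Subgroup.zpowers y⁆, Subgroup.zpowers y⁆ = ⊥ := by
    rw [Subgroup.commutator_comm]
    exact Subgroup.commutator_eq_bot_iff_le_centralizer.2 h1
  have h3 := H1.Coprime2.commutator_eq_bot_of (Subgroup.zpowers y) Q hyQ hcop (Or.inl hsolv) h2
  rw [Subgroup.commutator_comm] at h3
  exact Subgroup.commutator_eq_bot_iff_le_centralizer.1 h3

/-- proper `x`-invariant normal subgroups of a minimal `Q` are central -/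
theorem central_of_proper (hpq : p ≠ q) (hx : orderOf x = p ^ (n + 1)) (hM : MinQ q x (x ^ (p ^ n)) Q)
    (K : Subgroup Γ) (hKQ : K ≤ Q) (hxK : x ∈ normalizer (K : Set Γ)) (hQK : Q ≤ normalizer (K : Set Γ)) (hne : K ≠ Q) :
    Q ≤ centralizer (K : Set Γ) := by
  set y := x ^ (p ^ n) with hy
  have h1 := hM.min K hKQ hxK hne
  rw [mem_centralizer_zpowers] at h1
  have h2 : ⁅⁅Subgroup.zpowers y, K⁆, Q⁆ = ⊥ := by
    rw [Subgroup.commutator_eq_bot_iff_le_centralizer.2 h1, Subgroup.commutator_bot_left]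
  have h3 : ⁅⁅K, Q⁆, Subgroup.zpowers y⁆ = ⊥ := by
    rw [Subgroup.commutator_comm]
    apply Subgroup.commutator_eq_bot_iff_le_centralizer.2
    refine h1.trans (Subgroup.centralizer_le ?_)
    exact H1.Coprime2.commutator_le_left hQK
  have h4 := Subgroup.commutator_commutator_eq_bot_of_rotate h2 h3
  rw [commutator_eq hpq hx hM] at h4
  exact Subgroup.commutator_eq_bot_iff_le_centralizer.1 h4

omit [Finite Γ] in
theorem x_mem_normalizer_inf_centralizer (x : Γ) (m : ℕ) (hxQ : x ∈ normalizer (Q : Set Γ)) :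
    x ∈ normalizer ((Q ⊓ centralizer (Subgroup.zpowers (x ^ m) : Set Γ) : Subgroup Γ) : Set Γ) := by
  have h1 : Subgroup.zpowers x ≤ normalizer (Q : Set Γ) := by rw [Subgroup.zpowers_le]; exact hxQ
  exact H1.Coprime2.le_normalizer_inf h1 (H1.Coprime2.le_normalizer_centralizer (zpowers_le_normalizer_pow x m)) (Subgroup.mem_zpowers x)

/-- abelian case: trivial fixed points are not needed -/
theorem struct_nonab (hpq : p ≠ q) (hx : orderOf x = p ^ (n + 1)) (hM : MinQ q x (x ^ (p ^ n)) Q)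
    (hna : ¬ Q ≤ centralizer (Q : Set Γ)) :
    (x ∈ normalizer ((Q ⊓ centralizer (Q : Set Γ) : Subgroup Γ) : Set Γ)) ∧
    (∀ a ∈ Q, ∀ b ∈ Q, a * b * a⁻¹ * b⁻¹ ∈ Q ⊓ centralizer (Q : Set Γ)) ∧
    (∀ g ∈ Q, x ^ (p ^ n) * g = g * x ^ (p ^ n) → g ∈ Q ⊓ centralizer (Q : Set Γ)) := by
  set y := x ^ (p ^ n) with hy
  have hxQ : Subgroup.zpowers x ≤ normalizer (Q : Set Γ) := by rw [Subgroup.zpowers_le]; exact hM.hx
  have h1 : x ∈ normalizer ((Q ⊓ centralizer (Q : Set Γ) : Subgroup Γ) : Set Γ) :=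
    H1.Coprime2.le_normalizer_inf hxQ (H1.Coprime2.le_normalizer_centralizer hxQ) (Subgroup.mem_zpowers x)
  have hQne : Q ≠ ⊥ := by
    rintro rfl
    exact hM.hy (by
      rw [mem_centralizer_iff]
      intro h hh
      rw [SetLike.mem_coe, Subgroup.mem_bot] at hh
      rw [hh, one_mul, mul_one])
  -- the commutator subgroup
  have hD : ⁅Q, Q⁆ < Q := H1.Coprime2.commutator_lt_of_isPGroup hM.hQ hM.hQ Q.le_normalizer hQne
  have hDx : x ∈ normalizer ((⁅Q, Q⁆ : Subgroup Γ) : Set Γ) := H1.Coprime2.le_normalizer_commutator hxQ hxQ (Subgroup.mem_zpowers x)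
  have hDQ : Q ≤ normalizer ((⁅Q, Q⁆ : Subgroup Γ) : Set Γ) := H1.Coprime2.le_normalizer_commutator_left Q Q
  have hDc := central_of_proper hpq hx hM ⁅Q, Q⁆ hD.le hDx hDQ hD.ne
  have hyD := hM.min ⁅Q, Q⁆ hD.le hDx hD.ne
  have h2 : ∀ a ∈ Q, ∀ b ∈ Q, a * b * a⁻¹ * b⁻¹ ∈ ⁅Q, Q⁆ := fun a ha b hb => by
    rw [← commutatorElement_def]; exact Subgroup.commutator_mem_commutator ha hb
  refine ⟨h1, fun a ha b hb => ⟨hD.le (h2 a ha b hb), ?_⟩, ?_⟩
  · refine mem_centralizer_iff.2 ?_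
    intro g hg
    exact (mem_centralizer_iff.1 (hDc hg) _ (h2 a ha b hb)).symm
  · -- fixed points of `y`
    set K := Q ⊓ centralizer (Subgroup.zpowers y : Set Γ) with hK
    have hKQ : K ≤ Q := inf_le_left
    have hKx : x ∈ normalizer (K : Set Γ) := x_mem_normalizer_inf_centralizer x _ hM.hx
    have hDK : ⁅Q, Q⁆ ≤ K := by
      refine le_inf hD.le ?_
      rw [mem_centralizer_zpowers] at hyD
      rw [Subgroup.le_centralizer_iff]
      exact hyD
    have hKQn : Q ≤ normalizer (K : Set Γ) := by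
      apply H1.Coprime.le_normalizer_of_conj_mem
      intro a ha k hk
      have h3 := hDK (h2 a ha k (hKQ hk))
      have h4 : a * k * a⁻¹ = (a * k * a⁻¹ * k⁻¹) * k := by group
      rw [h4]
      exact mul_mem h3 hk
    have hKne : K ≠ Q := by
      intro h
      apply hM.hy
      rw [mem_centralizer_zpowers, Subgroup.le_centralizer_iff, ← h]
      exact inf_le_right
    have hKc := central_of_proper hpq hx hM K hKQ hKx hKQn hKne
    intro g hg hyg
    have hgK : g ∈ K := by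
      refine ⟨hg, ?_⟩
      refine mem_centralizer_iff.2 ?_
      rintro _ ⟨j, rfl⟩
      have : Commute y g := hyg
      exact (this.zpow_left j)
    refine ⟨hg, ?_⟩
    refine mem_centralizer_iff.2 ?_
    intro h hh
    exact (mem_centralizer_iff.1 (hKc hh) g hgK).symm

end grp

variable {F : Type*} [Field F] [IsAlgClosed F] {V : Type*} [AddCommGroup V] [Module F V] [FiniteDimensional F V]
  {Γ : Type*} [Group Γ] [Finite Γ]

theorem hcomm_of_ab {ρ : Γ →* Module.End F V} {A : Subgroup Γ} (h : ∀ a ∈ A, ∀ b ∈ A, a * b * a⁻¹ * b⁻¹ = 1) :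
    ∀ a ∈ commutator A, (ρ.comp A.subtype) a = 1 := by
  have h1 : commutator A ≤ (ρ.comp A.subtype).ker := by
    rw [commutator_def, Subgroup.commutator_le]
    intro a _ b _
    rw [MonoidHom.mem_ker]
    have : ⁅a, b⁆ = 1 := Subtype.ext (h a a.2 b b.2)
    rw [this, map_one]
  exact fun a ha => h1 ha

/-- an abelian `x`-invariant subgroup not centralised by `y` gives a regular orbit -/
theorem abelian_regular (ρ : Γ →* Module.End F V) {p n : ℕ} [hp : Fact p.Prime] {x : Γ} (hx : orderOf x = p ^ (n + 1))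
    (A : Subgroup Γ) (hAF : (Nat.card A : F) ≠ 0) (hxA : x ∈ normalizer (A : Set Γ))
    (hab : ∀ a ∈ A, ∀ b ∈ A, ρ (a * b * a⁻¹ * b⁻¹) = 1) (hA : ∃ a ∈ A, ρ (x ^ (p ^ n) * a * (x ^ (p ^ n))⁻¹ * a⁻¹) ≠ 1) :
    ∃ v : V, ∑ j ∈ Finset.range (p ^ (n + 1)), ρ (x ^ j) v ≠ 0 := by
  classical
  set y := x ^ (p ^ n) with hy
  have hyA : y ∈ normalizer (A : Set Γ) := pow_mem hxA _
  obtain ⟨a, ha, ha'⟩ := hA
  have h0 : ∀ a ∈ commutator A, (ρ.comp A.subtype) a = 1 := by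
    have h1 : commutator A ≤ (ρ.comp A.subtype).ker := by
      rw [commutator_def, Subgroup.commutator_le]
      intro a _ b _
      rw [MonoidHom.mem_ker]
      exact hab a a.2 b b.2
    exact fun a ha => h1 ha
  have hu : y * a * y⁻¹ * a⁻¹ ∈ A := mul_mem ((Subgroup.mem_normalizer_iff.1 hyA a).1 ha) (inv_mem ha)
  obtain ⟨χ, hχ, v, hv, hv0⟩ := exists_weight hAF (ρ.comp A.subtype) h0 (a := ⟨_, hu⟩) ha'
  by_contra hcon
  push Not at hcon
  have hySt : y ∉ St A χ := by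
    intro h
    obtain ⟨h1, h2⟩ := inv_mem h
    have h3 := DFunLike.congr_fun h2 ⟨a, ha⟩
    rw [cch_apply] at h3
    apply hχ
    have h4 : (⟨y * a * y⁻¹ * a⁻¹, hu⟩ : A) = ⟨y⁻¹⁻¹ * a * y⁻¹, conj_mem h1 ha⟩ * (⟨a, ha⟩ : A)⁻¹ :=
      Subtype.ext (by simp)
    rw [h4, map_mul, h3, map_inv, mul_inv_cancel]
  have hd : ∀ j, 0 < j → j < p ^ (n + 1) → x ^ j ∉ St A χ := by
    intro j hj hj' hcon'
    apply hySt
    have h2 : x ^ j ≠ 1 := by
      intro h
      have := orderOf_dvd_of_pow_eq_one h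
      rw [hx] at this
      exact absurd (Nat.le_of_dvd hj this) (by omega)
    exact (Subgroup.zpowers_le.2 hcon') (mem_zpowers_of_ne p n hp.out x hx (x ^ j) (pow_mem (Subgroup.mem_zpowers _) _) h2)
  exact hv0 (regular ρ A hAF x hxA χ (p ^ (n + 1)) hd (fun _ => v) (fun _ _ => hv) (hcon v) 0 (pow_pos hp.out.pos _))

/-- **Theorem B**, group form. -/
theorem exceptional (ρ : Γ →* Module.End F V) {p q n : ℕ} [hp : Fact p.Prime] [hq : Fact q.Prime] (hpq : p ≠ q)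
    (hqF : (q : F) ≠ 0) {x : Γ} (hx : orderOf x = p ^ (n + 1)) (Q : Subgroup Γ) (hQ : IsPGroup q Q)
    (hxQ : x ∈ normalizer (Q : Set Γ)) (hy : x ^ (p ^ n) ∉ centralizer (Q : Set Γ)) (hf : ∀ g ∈ Q, ρ g = 1 → g = 1)
    (hT : ∀ v, ∑ j ∈ Finset.range (p ^ (n + 1)), ρ (x ^ j) v = 0) :
    (∃ a ∈ Q, ∃ b ∈ Q, a * b ≠ b * a) ∧
    ∃ k ≤ n, (∃ m, 1 ≤ m ∧ p ^ (n + 1 - k) - 1 = q ^ m) ∧
      ((p : F) = 0 → ∃ v, ((ρ x - 1) ^ (p ^ k * (p ^ (n + 1 - k) - 1) - 1)) v ≠ 0) := by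
  classical
  obtain ⟨Q₀, hQ₀, hM⟩ := exists_minQ q x _ Q hQ hxQ hy
  have hna : ¬ Q₀ ≤ centralizer (Q₀ : Set Γ) := by
    intro hab
    -- abelian: regular orbit
    obtain ⟨g, hg, hg'⟩ : ∃ g ∈ Q₀, x ^ (p ^ n) * g * (x ^ (p ^ n))⁻¹ * g⁻¹ ≠ 1 := by
      by_contra hcon
      push Not at hcon
      apply hM.hy
      rw [mem_centralizer_iff]
      intro h hh
      have := hcon h hh
      rw [mul_inv_eq_one, mul_inv_eq_iff_eq_mul] at this
      exact this.symm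
    obtain ⟨v, hv⟩ := abelian_regular ρ hx Q₀ (card_ne q hqF hM.hQ) hM.hx (by
      intro a ha b hb
      have h1 := mem_centralizer_iff.1 (hab ha) b hb
      have : a * b * a⁻¹ * b⁻¹ = 1 := by rw [← h1]; group
      rw [this, map_one]) ⟨g, hg, fun h => hg' (hf _ (hQ₀ (by
        exact mul_mem ((Subgroup.mem_normalizer_iff.1 (pow_mem hM.hx _) g).1 hg) (inv_mem hg))) h)⟩
    exact hv (hT v)
  obtain ⟨h1, h2, h3⟩ := struct_nonab hpq hx hM hna
  set Z := Q₀ ⊓ centralizer (Q₀ : Set Γ) with hZ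
  have hna' : ∃ a ∈ Q₀, ∃ b ∈ Q₀, a * b * a⁻¹ * b⁻¹ ≠ 1 := by
    by_contra hcon
    push Not at hcon
    apply hna
    intro a ha
    rw [mem_centralizer_iff]
    intro b hb
    have := hcon b hb a ha
    rw [mul_inv_eq_one, mul_inv_eq_iff_eq_mul] at this
    exact this
  obtain ⟨a, ha, b, hb, hab⟩ := hna'
  have S : Setup ρ p q n x Q₀ Z := 
    { hpq := hpq, hqF := hqF, hx := hx, hQ := hM.hQ, hxQ := hM.hx, hZQ := inf_le_left, hxZ := h1
      hQZ := by
        rw [Subgroup.le_centralizer_iff]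
        exact inf_le_right
      hab := h2, hy := h3, hT := hT }
  have hZF : (Nat.card Z : F) ≠ 0 := card_ne q hqF (hM.hQ.to_le inf_le_left)
  have hZc : ∀ c ∈ commutator Z, (ρ.comp Z.subtype) c = 1 := by
    apply hcomm_of_ab
    intro c hc d hd
    have h4 := mem_centralizer_iff.1 hd.2 c hc.1
    rw [h4]; group
  obtain ⟨χ, hχ, v, hv, hv0⟩ := exists_weight hZF (ρ.comp Z.subtype) hZc (a := ⟨_, h2 a ha b hb⟩) (fun h => hab (hf _ (hQ₀ (h2 a ha b hb).1) h))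
  obtain ⟨k, hk, -, -, -, h5, h6⟩ := StrLem.main S χ (fun h => hv0 ((Submodule.mem_bot F).1 (h ▸ hv))) ⟨a, ha, b, hb, fun h => by
    obtain ⟨h7, h8⟩ := mem_kr.1 h
    exact hχ h8⟩
  refine ⟨⟨a, hQ₀ ha, b, hQ₀ hb, fun h => hab ?_⟩, k, hk, h5, h6⟩
  rw [h]; group

end H1.ThmB
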